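import Groth.Agent.Topos46.Eps

/-!
Sites all of whose objects are quasi-compact.
-/

universe u

open CategoryTheory CategoryTheory.Limits Opposite ToposFin

namespace Groth.Agent.Topos46

variable {C : Type u} [SmallCategory C] {J : GrothendieckTopology C}

lemma isQC_eps_of_isQCSite {V : C} (hV : IsQCSite J V) : IsQC (eps J V) := by
  classical
  rw [isQC_iff]
  intro ι F π hπ
  obtain ⟨n, W, g, hg, hcov⟩ := hV _ (hπ.liftSieve_mem (epsEquiv (𝟙 (eps J V))))
  choose σ t ht using hg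
  refine ⟨Finset.univ.image σ, fun Z a b hab => isEpiFam_epsMap W g hcov a b fun k => ?_⟩
  have hfac : epsEquiv.symm (t k) ≫ π (σ k) = epsMap (g k) := by
    apply epsEquiv.injective
    rw [epsEquiv_comp, Equiv.apply_symm_apply, ht k, ← epsEquiv_epsMap_comp, Category.comp_id]
  change epsMap (g k) ≫ a = epsMap (g k) ≫ b
  rw [← hfac, Category.assoc, Category.assoc]
  exact congrArg _ (hab ⟨σ k, Finset.mem_image_of_mem σ (Finset.mem_univ k)⟩)

lemma isQCSite_of_isQC_eps {V : C} (hV : IsQC (eps J V)) : IsQCSite J V := by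
  intro S hS
  obtain ⟨n, σ, hσ⟩ := exists_finite_subfamily hV (isEpiFam_sieve hS)
  exact ⟨n, fun k => (σ k).1, fun k => (σ k).2.1, fun k => (σ k).2.2,
    mem_of_isEpiFam_epsMap _ _ hσ⟩

variable (hC : ∀ X : C, IsQCSite J X)

include hC

lemma genBy_qc_eps : GenBy (IsQC (J := J)) :=
  genBy_eps.mono fun W ⟨V, hV⟩ => hV ▸ isQC_eps_of_isQCSite (hC V)

lemma exists_finite_rep {A : Sh J} (hA : IsQC A) {V : C} (a : A ⟶ eps J V) :
    ∃ (n : ℕ) (W : Fin n → C) (t : ∀ k, eps J (W k) ⟶ A) (h : ∀ k, W k ⟶ V),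
      IsEpiFam t ∧ ∀ k, t k ≫ a = epsMap (h k) := by
  obtain ⟨n, σ, hσ⟩ := exists_finite_subfamily hA (isEpiFam_rep a)
  exact ⟨n, fun k => (σ k).1, fun k => (σ k).2.1.1, fun k => (σ k).2.1.2, hσ, fun k => (σ k).2.2⟩

lemma isCoherent_eps [HasPullbacks C] (V : C) : IsCoherent (eps J V) := by
  refine ⟨isQC_eps_of_isQCSite (hC V), fun A B a b hA hB => ?_⟩
  obtain ⟨n, W, t, h, ht, hth⟩ := exists_finite_rep hC hA a
  obtain ⟨m, W', t', h', ht', hth'⟩ := exists_finite_rep hC hB b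
  refine isQC_pullback_of_cover_left a b ht fun k => ?_
  refine isQC_pullback_of_cover_right _ b ht' fun q => ?_
  refine isQC_pullback_congr (hth k) (hth' q) ?_
  exact isQC_of_iso (isPullback_epsMap (IsPullback.of_hasPullback (h k) (h' q))).isoPullback
    (isQC_eps_of_isQCSite (hC _))

end Groth.Agent.Topos46
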