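import Mathlib.Topology.Sheaves.SheafCondition.UniqueGluing
import Mathlib.Topology.Sheaves.SheafCondition.Sites
import Mathlib.CategoryTheory.Sites.Limits
import Mathlib.CategoryTheory.Sites.LocallySurjective
import Mathlib.CategoryTheory.Limits.Types.Filtered
import Mathlib.CategoryTheory.Limits.FunctorCategory.Basic
import Mathlib.Topology.Sheaves.Limits

/-!
Sections of a filtered colimit of sheaves of sets on a topological space.
-/

universe u

open CategoryTheory CategoryTheory.Limits TopologicalSpace Opposite TopCat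

namespace Groth.Agent.Topos46

variable {X : TopCat.{u}} {I : Type u} [SmallCategory I] [IsFiltered I]
  {D : I ⥤ X.Sheaf (Type u)} {c : Cocone D} (hc : IsColimit c)

section LocalFacts

include hc

omit [IsFiltered I] in
lemma exists_sheafify_compare :
    ∃ e : c.pt ≅ (presheafToSheaf (Opens.grothendieckTopology X) (Type u)).obj
        (colimit (D ⋙ TopCat.Sheaf.forget (Type u) X)),
      ∀ i, (c.ι.app i).1 ≫ e.hom.1 =
        colimit.ι (D ⋙ TopCat.Sheaf.forget (Type u) X) i ≫
          toSheafify (Opens.grothendieckTopology X)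
            (colimit (D ⋙ TopCat.Sheaf.forget (Type u) X)) := by
  let E := colimit.cocone (D ⋙ sheafToPresheaf (Opens.grothendieckTopology X) (Type u))
  let h := Sheaf.isColimitSheafifyCocone E (colimit.isColimit _)
  refine ⟨hc.coconePointUniqueUpToIso h, fun i => ?_⟩
  have e : c.ι.app i ≫ (hc.coconePointUniqueUpToIso h).hom = (Sheaf.sheafifyCocone E).ι.app i :=
    IsColimit.comp_coconePointUniqueUpToIso_hom hc h i
  exact (congrArg (fun q => q.1) e).trans (Sheaf.sheafifyCocone_ι_app_val E i)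

omit [IsFiltered I] in
lemma exists_nbhd_lift {V : Opens X} (t : c.pt.1.obj (op V)) {x : X} (hx : x ∈ V) :
    ∃ (W : Opens X) (hWV : W ≤ V) (_ : x ∈ W) (i : I) (a : (D.obj i).1.obj (op W)),
      (c.ι.app i).1.app (op W) a = c.pt.1.map (homOfLE hWV).op t := by
  obtain ⟨e, he⟩ := exists_sheafify_compare hc
  let P := colimit (D ⋙ TopCat.Sheaf.forget (Type u) X)
  obtain ⟨W, g, ⟨p, hp⟩, hxW⟩ := Presheaf.imageSieve_mem (Opens.grothendieckTopology X)
    (toSheafify (Opens.grothendieckTopology X) P) (U := op V) (e.hom.1.app (op V) t) x hx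
  obtain ⟨i, a, ha⟩ := Types.jointly_surjective _
    (isColimitOfPreserves ((evaluation (Opens X)ᵒᵖ (Type u)).obj (op W))
      (colimit.isColimit (D ⋙ TopCat.Sheaf.forget (Type u) X))) p
  refine ⟨W, g.le, hxW, i, a, ?_⟩
  have hbij : Function.Bijective (e.hom.1.app (op W)) :=
    (isIso_iff_bijective _).1
      (inferInstanceAs (IsIso ((TopCat.Sheaf.forget (Type u) X ⋙
        (evaluation (Opens X)ᵒᵖ (Type u)).obj (op W)).map e.hom)))
  refine hbij.1 ?_
  rw [NatTrans.naturality_apply e.hom.1]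
  refine (ConcreteCategory.congr_hom (congr_app (he i) (op W)) a).trans ?_
  refine (congrArg _ ha).trans ?_
  exact hp

lemma exists_nbhd_eq {V : Opens X} {i : I} (a b : (D.obj i).1.obj (op V))
    (h : (c.ι.app i).1.app (op V) a = (c.ι.app i).1.app (op V) b) {x : X} (hx : x ∈ V) :
    ∃ (W : Opens X) (hWV : W ≤ V) (_ : x ∈ W) (j : I) (f : i ⟶ j),
      (D.map f).1.app (op W) ((D.obj i).1.map (homOfLE hWV).op a) =
        (D.map f).1.app (op W) ((D.obj i).1.map (homOfLE hWV).op b) := by
  obtain ⟨e, he⟩ := exists_sheafify_compare hc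
  let E := colimit.cocone (D ⋙ TopCat.Sheaf.forget (Type u) X)
  have h' : (toSheafify (Opens.grothendieckTopology X) E.pt).app (op V) ((E.ι.app i).app (op V) a) =
      (toSheafify (Opens.grothendieckTopology X) E.pt).app (op V) ((E.ι.app i).app (op V) b) :=
    ((ConcreteCategory.congr_hom (congr_app (he i) (op V)) a).symm.trans
      (congrArg (e.hom.1.app (op V)) h)).trans
      (ConcreteCategory.congr_hom (congr_app (he i) (op V)) b)
  obtain ⟨W, g, hg, hxW⟩ := Presheaf.equalizerSieve_mem (Opens.grothendieckTopology X)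
    (toSheafify (Opens.grothendieckTopology X) E.pt) (X := op V) _ _ h' x hx
  refine ⟨W, g.le, hxW, ?_⟩
  have hg' : (E.ι.app i).app (op W) ((D.obj i).1.map g.op a) =
      (E.ι.app i).app (op W) ((D.obj i).1.map g.op b) :=
    ((E.ι.app i).naturality_apply g.op a).trans
      (hg.trans ((E.ι.app i).naturality_apply g.op b).symm)
  exact (Types.FilteredColimit.isColimit_eq_iff'
    (isColimitOfPreserves ((evaluation (Opens X)ᵒᵖ (Type u)).obj (op W))
      (colimit.isColimit (D ⋙ TopCat.Sheaf.forget (Type u) X))) _ _).1 hg'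

end LocalFacts

lemma exists_bound {κ : Type*} [Finite κ] {i : I} {j : κ → I} (f : ∀ k, i ⟶ j k) :
    ∃ (m : I) (g : i ⟶ m), ∀ k, ∃ h : j k ⟶ m, f k ≫ h = g := by
  induction κ using Finite.induction_empty_option with
  | of_equiv e ih =>
    obtain ⟨m, g, hg⟩ := ih fun k => f (e k)
    refine ⟨m, g, fun k => ?_⟩
    obtain ⟨k, rfl⟩ := e.surjective k
    exact hg k
  | h_empty => exact ⟨i, 𝟙 i, fun k => k.elim⟩
  | h_option ih =>
    obtain ⟨m, g, hg⟩ := ih fun k => f (some k)
    obtain ⟨s, p, q, hpq⟩ := IsFiltered.span (f none) g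
    refine ⟨s, g ≫ q, fun k => ?_⟩
    obtain _ | k := k
    · exact ⟨p, hpq⟩
    · obtain ⟨h, hh⟩ := hg k
      exact ⟨h ≫ q, by rw [reassoc_of% hh]⟩

omit [IsFiltered I] in
lemma transfer_eq {i j m : I} {f : i ⟶ j} {h : j ⟶ m} {g : i ⟶ m} (e : f ≫ h = g) {W : Opens X}
    {a b : (D.obj i).1.obj (op W)}
    (hab : (D.map f).1.app (op W) a = (D.map f).1.app (op W) b) :
    (D.map g).1.app (op W) a = (D.map g).1.app (op W) b := by
  subst e
  rw [Functor.map_comp]
  exact congrArg ((D.map h).1.app (op W)) hab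

include hc in
lemma eq_of_injective_transition
    (hinj : ∀ (i j : I) (f : i ⟶ j) (V : Opens X), Function.Injective ((D.map f).1.app (op V)))
    {V : Opens X} {i : I} (a b : (D.obj i).1.obj (op V))
    (h : (c.ι.app i).1.app (op V) a = (c.ι.app i).1.app (op V) b) : a = b := by
  choose W hWV hxW j f hf using fun x : V => exists_nbhd_eq hc a b h x.2
  exact (D.obj i).eq_of_locally_eq' W V (fun x => homOfLE (hWV x))
    (fun x hx => Opens.mem_iSup.2 ⟨⟨x, hx⟩, hxW ⟨x, hx⟩⟩) a b fun x => hinj _ _ (f x) _ (hf x)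

include hc in
lemma eq_of_isCompact {V : Opens X} (hV : IsCompact (V : Set X)) {i : I}
    (a b : (D.obj i).1.obj (op V))
    (h : (c.ι.app i).1.app (op V) a = (c.ι.app i).1.app (op V) b) :
    ∃ (j : I) (f : i ⟶ j), (D.map f).1.app (op V) a = (D.map f).1.app (op V) b := by
  choose W hWV hxW j f hf using fun x : V => exists_nbhd_eq hc a b h x.2
  obtain ⟨s, hs⟩ := hV.elim_finite_subcover (fun x : V => (W x : Set X)) (fun x => (W x).2)
    fun x hx => Set.mem_iUnion.2 ⟨⟨x, hx⟩, hxW ⟨x, hx⟩⟩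
  obtain ⟨m, g, hg⟩ := exists_bound fun x : s => f x.1
  refine ⟨m, g, (D.obj m).eq_of_locally_eq' (fun x : s => W x.1) V (fun x => homOfLE (hWV x.1))
    (fun x hx => ?_) _ _ fun x => ?_⟩
  · obtain ⟨y, hy, hxy⟩ := Set.mem_iUnion₂.1 (hs hx)
    exact Opens.mem_iSup.2 ⟨⟨y, hy⟩, hxy⟩
  · obtain ⟨q, hq⟩ := hg x
    rw [← NatTrans.naturality_apply (D.map g).1, ← NatTrans.naturality_apply (D.map g).1]
    exact transfer_eq hq (hf x.1)

omit [IsFiltered I] in
lemma colim_map_apply {i j : I} (f : i ⟶ j) {V : Opens X} (a : (D.obj i).1.obj (op V)) :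
    (c.ι.app j).1.app (op V) ((D.map f).1.app (op V) a) = (c.ι.app i).1.app (op V) a :=
  ConcreteCategory.congr_hom (congr_app (congrArg (fun q => q.1) (c.w f)) (op V)) a

omit [IsFiltered I] in
lemma cocone_naturality (i : I) {V W : (Opens X)ᵒᵖ} (g : V ⟶ W) (a : (D.obj i).1.obj V) :
    (c.ι.app i).1.app W ((D.obj i).1.map g a) = c.pt.1.map g ((c.ι.app i).1.app V a) :=
  (c.ι.app i).1.naturality_apply g a

omit [IsFiltered I] in
lemma res_res {U V W : (Opens X)ᵒᵖ} (f : U ⟶ V) (g : V ⟶ W) (h : U ⟶ W) (a : c.pt.1.obj U) :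
    c.pt.1.map g (c.pt.1.map f a) = c.pt.1.map h a := by
  rw [← Functor.map_comp_apply]
  congr 1

section Comparison

variable (U : Opens X)

/-- The comparison map from the colimit of sections. -/
noncomputable abbrev compareSections :=
  colimit.desc (D ⋙ TopCat.Sheaf.forget (Type u) X ⋙ (evaluation (Opens X)ᵒᵖ (Type u)).obj (op U))
    ((TopCat.Sheaf.forget (Type u) X ⋙ (evaluation (Opens X)ᵒᵖ (Type u)).obj (op U)).mapCocone c)

omit [IsFiltered I] in
lemma compareSections_apply (i : I) (a : (D.obj i).1.obj (op U)) :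
    compareSections (c := c) U
      (colimit.ι (D ⋙ TopCat.Sheaf.forget (Type u) X ⋙
        (evaluation (Opens X)ᵒᵖ (Type u)).obj (op U)) i a) = (c.ι.app i).1.app (op U) a :=
  ConcreteCategory.congr_hom (colimit.ι_desc
    ((TopCat.Sheaf.forget (Type u) X ⋙ (evaluation (Opens X)ᵒᵖ (Type u)).obj (op U)).mapCocone c) i)
    a

lemma injective_compareSections
    (h : ∀ (i : I) (a b : (D.obj i).1.obj (op U)),
      (c.ι.app i).1.app (op U) a = (c.ι.app i).1.app (op U) b →
        ∃ (j : I) (f : i ⟶ j), (D.map f).1.app (op U) a = (D.map f).1.app (op U) b) :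
    Function.Injective (compareSections (c := c) U) := by
  intro x y hxy
  obtain ⟨i, a, rfl⟩ := Types.jointly_surjective' x
  obtain ⟨i', b, rfl⟩ := Types.jointly_surjective' y
  rw [compareSections_apply, compareSections_apply] at hxy
  obtain ⟨j, f, hf⟩ := h (IsFiltered.max i i')
    ((D.map (IsFiltered.leftToMax i i')).1.app (op U) a)
    ((D.map (IsFiltered.rightToMax i i')).1.app (op U) b)
    (by rw [colim_map_apply, colim_map_apply, hxy])
  refine (Types.FilteredColimit.colimit_eq_iff _).2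
    ⟨j, IsFiltered.leftToMax i i' ≫ f, IsFiltered.rightToMax i i' ≫ f, ?_⟩
  simp only [Functor.map_comp]
  exact hf

lemma surjective_compareSections
    (hcover : ∀ t : c.pt.1.obj (op U), ∃ (m : ℕ) (W : Fin m → Opens X) (hW : ∀ k, W k ≤ U),
      U ≤ ⨆ k, W k ∧ (∀ k, ∃ (i : I) (a : (D.obj i).1.obj (op (W k))),
        (c.ι.app i).1.app (op (W k)) a = c.pt.1.map (homOfLE (hW k)).op t) ∧
      ∀ k k' (i : I) (a b : (D.obj i).1.obj (op (W k ⊓ W k'))),
        (c.ι.app i).1.app (op (W k ⊓ W k')) a = (c.ι.app i).1.app (op (W k ⊓ W k')) b →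
          ∃ (j : I) (f : i ⟶ j), (D.map f).1.app (op (W k ⊓ W k')) a =
            (D.map f).1.app (op (W k ⊓ W k')) b) :
    Function.Surjective (compareSections (c := c) U) := by
  intro t
  obtain ⟨m, W, hW, hcov, hlift, heq⟩ := hcover t
  choose σ a ha using hlift
  classical
  obtain ⟨i₀, hi₀⟩ := IsFiltered.sup_objs_exists (Finset.univ.image σ)
  have f₀ := fun k => (hi₀ (Finset.mem_image_of_mem σ (Finset.mem_univ k))).some
  let a' := fun k => (D.map (f₀ k)).1.app (op (W k)) (a k)
  have ha' : ∀ k, (c.ι.app i₀).1.app (op (W k)) (a' k) = c.pt.1.map (homOfLE (hW k)).op t :=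
    fun k => (colim_map_apply (f₀ k) (a k)).trans (ha k)
  choose j f hf using fun p : Fin m × Fin m => heq p.1 p.2 i₀
    ((D.obj i₀).1.map (Opens.infLELeft (W p.1) (W p.2)).op (a' p.1))
    ((D.obj i₀).1.map (Opens.infLERight (W p.1) (W p.2)).op (a' p.2)) (by
      rw [cocone_naturality i₀, cocone_naturality i₀, ha', ha',
        res_res _ _ (homOfLE (inf_le_left.trans (hW p.1))).op,
        res_res _ _ (homOfLE (inf_le_left.trans (hW p.1))).op])
  obtain ⟨n, g, hg⟩ := exists_bound f
  obtain ⟨s, hs, -⟩ := (D.obj n).existsUnique_gluing' W U (fun k => homOfLE (hW k)) hcov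
    (fun k => (D.map g).1.app (op (W k)) (a' k)) fun k k' => by
      obtain ⟨q, hq⟩ := hg (k, k')
      rw [← NatTrans.naturality_apply (D.map g).1, ← NatTrans.naturality_apply (D.map g).1]
      exact transfer_eq hq (hf (k, k'))
  refine ⟨colimit.ι (D ⋙ TopCat.Sheaf.forget (Type u) X ⋙
    (evaluation (Opens X)ᵒᵖ (Type u)).obj (op U)) n s, (compareSections_apply U n s).trans ?_⟩
  refine c.pt.eq_of_locally_eq' W U (fun k => homOfLE (hW k)) hcov _ _ fun k => ?_
  rw [← cocone_naturality n, hs k, colim_map_apply, ha' k]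

include hc in
theorem compareSections_spec :
    ((∀ (i j : I) (f : i ⟶ j) (V : Opens X), Function.Injective ((D.map f).1.app (op V))) →
      Function.Injective (compareSections (c := c) U)) ∧
    (IsCompact (U : Set X) → Function.Injective (compareSections (c := c) U)) ∧
    (IsCompact (U : Set X) →
      (∀ (i j : I) (f : i ⟶ j) (V : Opens X), Function.Injective ((D.map f).1.app (op V))) →
      Function.Bijective (compareSections (c := c) U)) ∧
    ((∀ 𝒱 : Set (Opens X), (⨆ V ∈ 𝒱, V) = U →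
        ∃ (m : ℕ) (W : Fin m → Opens X), (∀ j, ∃ V ∈ 𝒱, W j ≤ V) ∧ (⨆ j, W j) = U ∧
          ∀ j j', IsCompact ((W j ⊓ W j' : Opens X) : Set X)) →
      Function.Bijective (compareSections (c := c) U)) := by
  have h₁ : (∀ (i j : I) (f : i ⟶ j) (V : Opens X), Function.Injective ((D.map f).1.app (op V))) →
      Function.Injective (compareSections (c := c) U) := fun hinj =>
    injective_compareSections U fun i a b h =>
      ⟨i, 𝟙 i, congrArg _ (eq_of_injective_transition hc hinj a b h)⟩
  have h₂ : IsCompact (U : Set X) → Function.Injective (compareSections (c := c) U) := fun hU =>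
    injective_compareSections U fun i a b h => eq_of_isCompact hc hU a b h
  refine ⟨h₁, h₂, fun hU hinj => ⟨h₁ hinj, surjective_compareSections U fun t => ?_⟩,
    fun hU => ?_⟩
  · choose W hWV hxW i a ha using fun x : U => exists_nbhd_lift hc t x.2
    obtain ⟨s, hs⟩ := hU.elim_finite_subcover (fun x : U => (W x : Set X)) (fun x => (W x).2)
      fun x hx => Set.mem_iUnion.2 ⟨⟨x, hx⟩, hxW ⟨x, hx⟩⟩
    obtain ⟨m, ⟨e⟩⟩ := Finite.exists_equiv_fin s
    refine ⟨m, fun k => W (e.symm k).1, fun k => hWV _, fun x hx => ?_,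
      fun k => ⟨_, _, ha (e.symm k).1⟩,
      fun k k' i' a' b' h => ⟨i', 𝟙 i', congrArg _ (eq_of_injective_transition hc hinj a' b' h)⟩⟩
    obtain ⟨y, hy, hxy⟩ := Set.mem_iUnion₂.1 (hs hx)
    exact Opens.mem_iSup.2 ⟨e ⟨y, hy⟩, by simpa using hxy⟩
  · have hUc : IsCompact (U : Set X) := by
      obtain ⟨m, W, -, hcov, hcomp⟩ := hU {U} (by simp)
      rw [← hcov, Opens.coe_iSup]
      exact isCompact_iUnion fun j => by simpa using hcomp j j
    refine ⟨h₂ hUc, surjective_compareSections U fun t => ?_⟩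
    let S : Set (Opens X) := {W | ∃ (hW : W ≤ U) (i : I) (a : (D.obj i).1.obj (op W)),
      (c.ι.app i).1.app (op W) a = c.pt.1.map (homOfLE hW).op t}
    obtain ⟨m, W, hW, hcov, hcomp⟩ := hU S (le_antisymm (iSup₂_le fun V hV => hV.1) fun x hx => by
      obtain ⟨W, hWU, hxW, i, a, ha⟩ := exists_nbhd_lift hc t hx
      exact Opens.mem_iSup.2 ⟨W, Opens.mem_iSup.2 ⟨⟨hWU, i, a, ha⟩, hxW⟩⟩)
    choose V hV hWV using hW
    choose hVU i a ha using fun k => hV k
    refine ⟨m, W, fun k => (hWV k).trans (hVU k), hcov.ge, fun k =>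
      ⟨i k, (D.obj (i k)).1.map (homOfLE (hWV k)).op (a k), ?_⟩,
      fun k k' i' a' b' h => eq_of_isCompact hc (hcomp k k') a' b' h⟩
    rw [cocone_naturality (i k), ha k]
    exact res_res _ _ _ _

end Comparison

end Groth.Agent.Topos46
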