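import Groth.Agent.Topos46.Qs

/-!
Locality of quasi-compactness and quasi-separatedness in a sheaf topos.
-/

universe u

open CategoryTheory CategoryTheory.Limits Opposite ToposFin

namespace Groth.Agent.Topos46

variable {C : Type u} [SmallCategory C] {J : GrothendieckTopology C} {X Y Z : Sh J}

attribute [local simp] pullback.lift_fst pullback.lift_snd pullback.lift_fst_assoc
  pullback.lift_snd_assoc

lemma isQC_pullback_congr {A B : Sh J} {a a' : A ⟶ X} {b b' : B ⟶ X} (ha : a = a') (hb : b = b')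
    (h : IsQC (pullback a' b')) : IsQC (pullback a b) :=
  isQC_of_iso (pullback.congrHom ha.symm hb.symm) h

lemma isQCHom_of_gen {P : Sh J → Prop} (hP : GenBy P) {f : X ⟶ Y}
    (h : ∀ (W : Sh J) (s : W ⟶ Y), P W → IsQC (pullback f s)) : IsQCHom f := by
  intro W g hW
  obtain ⟨n, V, c, hV, hc⟩ := hP.exists_finite_cover hW
  exact isQC_pullback_of_cover_right f g hc fun k => h _ _ (hV k)

lemma isQCHom_local_target (hE : GenBy (IsQC (J := J))) (f : X ⟶ Y) {ι : Type u}
    {Yi : ι → Sh J} {g : ∀ i, Yi i ⟶ Y} (hg : IsEpiFam g)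
    (h : ∀ i, IsQCHom (pullback.snd f (g i))) : IsQCHom f := by
  intro W s hW
  obtain ⟨n, V, c, σ, l, hV, hc, hl⟩ := hE.exists_finite_refinement hW (hg.pullback_fst s)
  refine isQC_pullback_of_cover_right f s hc fun k => ?_
  have hfac : c k ≫ s = (l k ≫ pullback.snd s (g (σ k))) ≫ g (σ k) := by
    rw [← hl k]; simp [pullback.condition]
  refine isQC_pullback_congr rfl hfac ?_
  exact isQC_of_iso (pullbackLeftPullbackSndIso f (g (σ k)) (l k ≫ pullback.snd s (g (σ k))))
    (h (σ k) _ _ (hV k))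

lemma isQSHom_local_target (hE : GenBy (IsQC (J := J))) (f : X ⟶ Y) {ι : Type u}
    {Yi : ι → Sh J} {g : ∀ i, Yi i ⟶ Y} (hg : IsEpiFam g)
    (h : ∀ i, IsQSHom (pullback.snd f (g i))) : IsQSHom f := by
  refine isQSHom_iff_equalizer.2 fun W a b hW hab => ?_
  obtain ⟨n, V, c, σ, l, hV, hc, hl⟩ :=
    hE.exists_finite_refinement hW (hg.pullback_fst (a ≫ f))
  refine isQC_equalizer_of_cover a b hc fun k => ?_
  have hfac : (c k ≫ a) ≫ f = (l k ≫ pullback.snd (a ≫ f) (g (σ k))) ≫ g (σ k) := by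
    rw [← hl k]; simp [pullback.condition]
  have hfac' : (c k ≫ b) ≫ f = (l k ≫ pullback.snd (a ≫ f) (g (σ k))) ≫ g (σ k) := by
    rw [← hfac]; simp [hab]
  let a' := pullback.lift _ _ hfac
  let b' := pullback.lift _ _ hfac'
  have h' : IsQC (equalizer a' b') :=
    isQSHom_iff_equalizer.1 (h (σ k)) _ a' b' (hV k) (by simp [a', b'])
  refine isQC_of_iso ?_ h'
  exact
    { hom := equalizer.lift (equalizer.ι _ _)
        (by simpa [a', b'] using equalizer.condition a' b' =≫ pullback.fst f (g (σ k)))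
      inv := equalizer.lift (equalizer.ι _ _) (by
        apply pullback.hom_ext
        · simpa [a', b'] using equalizer.condition (c k ≫ a) (c k ≫ b)
        · simp [a', b'])
      hom_inv_id := by apply equalizer.hom_ext; simp
      inv_hom_id := by apply equalizer.hom_ext; simp }

lemma isQCHom_of_finite_source {g : Y ⟶ Z} {κ : Type*} [Finite κ] {Xk : κ → Sh J}
    {f : ∀ k, Xk k ⟶ Y} (hf : IsEpiFam f) (h : ∀ k, IsQCHom (f k ≫ g)) : IsQCHom g :=
  fun W s hW => isQC_pullback_of_cover_left g s hf fun k => h k W s hW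

lemma isQSHom_of_source (hE : GenBy (IsQC (J := J))) {g : Y ⟶ Z} {ι : Type u} {Xi : ι → Sh J}
    {f : ∀ i, Xi i ⟶ Y} (hf : IsEpiFam f) (hqc : ∀ i, IsQCHom (f i))
    (hqs : ∀ i, IsQSHom (f i ≫ g)) : IsQSHom g := by
  refine isQSHom_iff_equalizer.2 fun W a b hW hab => ?_
  obtain ⟨n, V, c, σ, l, hV, hc, hl⟩ := hE.exists_finite_refinement hW (hf.pullback_fst a)
  refine isQC_equalizer_of_cover a b hc fun k => ?_
  let a' := l k ≫ pullback.snd a (f (σ k))
  have ha' : a' ≫ f (σ k) = c k ≫ a := by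
    simp [a', ← hl k, pullback.condition]
  let P := pullback (f (σ k)) (c k ≫ b)
  have hP : IsQC P := hqc (σ k) _ _ (hV k)
  have hE' : IsQC (equalizer (pullback.fst (f (σ k)) (c k ≫ b))
      (pullback.snd (f (σ k)) (c k ≫ b) ≫ a')) := by
    refine isQSHom_iff_equalizer.1 (hqs (σ k)) _ _ _ hP ?_
    simp only [Category.assoc, reassoc_of% ha']
    rw [pullback.condition_assoc, Category.assoc, hab]
  refine isQC_of_iso ?_ hE'
  exact
    { hom := equalizer.lift (equalizer.ι _ _ ≫ pullback.snd _ _) (by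
        have := equalizer.condition (pullback.fst (f (σ k)) (c k ≫ b))
          (pullback.snd (f (σ k)) (c k ≫ b) ≫ a') =≫ f (σ k)
        simp only [Category.assoc, ha', pullback.condition] at this
        simpa using this.symm)
      inv := equalizer.lift (pullback.lift (equalizer.ι _ _ ≫ a') (equalizer.ι _ _) (by
        rw [Category.assoc, ha', equalizer.condition])) (by simp)
      hom_inv_id := by
        apply equalizer.hom_ext
        apply pullback.hom_ext
        · simpa using (equalizer.condition (pullback.fst (f (σ k)) (c k ≫ b))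
            (pullback.snd (f (σ k)) (c k ≫ b) ≫ a')).symm
        · simp
      inv_hom_id := by apply equalizer.hom_ext; simp }

lemma isQC_pullback_of_triple {P A B Yi Yj : Sh J} {p : P ⟶ Yi} {q : P ⟶ Yj} {g : Yi ⟶ Y}
    {g' : Yj ⟶ Y} (sq : IsPullback p q g g') (hP : IsQC P) (hi : IsQS Yi) (hj : IsQS Yj)
    (a : A ⟶ Yi) (b : B ⟶ Yj) (hA : IsQC A) (hB : IsQC B) :
    IsQC (pullback (a ≫ g) (b ≫ g')) := by
  have h₁ : IsQC (pullback a p) := hi A P a p hA hP
  have h₂ : IsQC (pullback (pullback.snd a p ≫ q) b) := hj _ B _ b h₁ hB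
  have s₁ : IsPullback (pullback.fst a p) (pullback.snd a p ≫ q) (a ≫ g) g' :=
    (IsPullback.of_hasPullback a p).paste_vert sq
  exact isQC_of_iso (((IsPullback.of_hasPullback (pullback.snd a p ≫ q) b).paste_horiz s₁
    ).isoPullback) h₂

end Groth.Agent.Topos46
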