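import Groth.Prelude.Def_ToposFin2
import Groth.Agent.Topos46.Local

/-!
Generating sets of quasi-compact objects stable under fibre products or equalizers.
-/

universe u

open CategoryTheory CategoryTheory.Limits Opposite ToposFin

namespace Groth.Agent.Topos46

variable {C : Type u} [SmallCategory C] {J : GrothendieckTopology C} {S : Set (Sh J)}

attribute [local simp] pullback.lift_fst pullback.lift_snd pullback.lift_fst_assoc
  pullback.lift_snd_assoc prod.lift_fst prod.lift_snd

lemma genBy_of_isGenerating (h : IsGenerating S) : GenBy (fun W => W ∈ S) := fun X => by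
  obtain ⟨ι, F, π, hF, hπ⟩ := h X
  exact ⟨ι, F, π, hF, fun Z a b => hπ Z a b⟩

lemma hasQCGenerators_of_genBy (h : GenBy (IsQC (J := J))) : HasQCGenerators J := fun X => by
  obtain ⟨ι, F, π, hF, hπ⟩ := h X
  exact ⟨ι, F, π, hF, isEpiFam_iff_epi_desc.1 hπ⟩

lemma isQC_pullback_mem (hqc : ∀ K ∈ S, IsQC K) (hpb : ClosedUnderPullbacks S) {K L M : Sh J}
    (f : K ⟶ M) (g : L ⟶ M) (hK : K ∈ S) (hL : L ∈ S) (hM : M ∈ S) : IsQC (pullback f g) := by
  obtain ⟨P, p, q, hP, sq⟩ := hpb f g hK hL hM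
  exact isQC_of_iso sq.isoPullback (hqc P hP)

variable (hqc : ∀ K ∈ S, IsQC K) (hgen : IsGenerating S) (hpb : ClosedUnderPullbacks S)

include hqc hgen hpb

lemma isCoherent_mem {K : Sh J} (hK : K ∈ S) : IsCoherent K := by
  refine ⟨hqc K hK, fun A B a b hA hB => ?_⟩
  obtain ⟨n, V, c, hV, hc⟩ := (genBy_of_isGenerating hgen).exists_finite_cover hA
  obtain ⟨m, W, d, hW, hd⟩ := (genBy_of_isGenerating hgen).exists_finite_cover hB
  exact isQC_pullback_of_cover_left a b hc fun k => isQC_pullback_of_cover_right _ b hd fun q =>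
    isQC_pullback_mem hqc hpb _ _ (hV k) (hW q) hK

lemma isQS_prod_mem (heq : ClosedUnderEqualizers S) {K L : Sh J} (hK : K ∈ S) (hL : L ∈ S) :
    IsQS (K ⨯ L) := by
  intro A B a b hA hB
  obtain ⟨n, V, c, hV, hc⟩ := (genBy_of_isGenerating hgen).exists_finite_cover hA
  obtain ⟨m, W, d, hW, hd⟩ := (genBy_of_isGenerating hgen).exists_finite_cover hB
  refine isQC_pullback_of_cover_left a b hc fun k => isQC_pullback_of_cover_right _ b hd fun q => ?_
  obtain ⟨Q, p, r, hQ, sq⟩ := hpb ((c k ≫ a) ≫ prod.fst) ((d q ≫ b) ≫ prod.fst) (hV k) (hW q) hK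
  obtain ⟨E, e, he, hE, ⟨hlim⟩⟩ :=
    heq (p ≫ (c k ≫ a) ≫ prod.snd) (r ≫ (d q ≫ b) ≫ prod.snd) hQ hL
  refine isQC_of_iso ?_ (hqc E hE)
  have hw : (e ≫ p) ≫ c k ≫ a = (e ≫ r) ≫ d q ≫ b := by
    apply Limits.prod.hom_ext
    · simpa using e ≫= sq.w
    · simpa using he
  let l : pullback (c k ≫ a) (d q ≫ b) ⟶ Q := sq.lift (pullback.fst _ _) (pullback.snd _ _)
    (by simpa using pullback.condition (f := c k ≫ a) (g := d q ≫ b) =≫ prod.fst)
  let m' := Fork.IsLimit.lift hlim l (by
    simpa [l] using pullback.condition (f := c k ≫ a) (g := d q ≫ b) =≫ prod.snd)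
  have hm : m' ≫ e = l := Fork.IsLimit.lift_ι' hlim l _
  exact
    { hom := pullback.lift (e ≫ p) (e ≫ r) hw
      inv := m'
      hom_inv_id := by
        apply Fork.IsLimit.hom_ext hlim
        change (pullback.lift (e ≫ p) (e ≫ r) hw ≫ m') ≫ e = 𝟙 E ≫ e
        rw [Category.assoc, hm]
        apply sq.hom_ext <;> simp [l]
      inv_hom_id := by
        apply pullback.hom_ext <;> simp [reassoc_of% hm, l] }

omit hgen hpb hqc in
lemma isQSHom_of_prod_qs {P : Sh J → Prop} (hgen : GenBy P) (hP : ∀ W, P W → IsQC W)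
    (hprod : ∀ K L, P K → P L → IsQS (K ⨯ L)) {X Y : Sh J} (f : X ⟶ Y) (hX : IsQS X) :
    IsQSHom f := by
  refine isQSHom_iff_equalizer.2 fun W a b hW hab => ?_
  obtain ⟨ι, F, π, hF, hπ⟩ := hgen X
  obtain ⟨n, V, c, σ, τ, l, m, hV, hc, hl, hm⟩ :=
    hgen.exists_finite_refinement₂ hW a b hπ hπ
  refine isQC_equalizer_of_cover a b hc fun k => ?_
  let t := prod.lift (l k) (m k)
  let u := prod.lift (pullback.fst (π (σ k)) (π (τ k))) (pullback.snd (π (σ k)) (π (τ k)))
  have hQ : IsQC (pullback t u) := hprod _ _ (hF (σ k)) (hF (τ k)) _ _ t u (hP _ (hV k))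
    (hX _ _ _ _ (hP _ (hF (σ k))) (hP _ (hF (τ k))))
  have h₁ : pullback.fst t u ≫ l k = pullback.snd t u ≫ pullback.fst _ _ := by
    simpa [t, u] using (pullback.condition (f := t) (g := u)) =≫ prod.fst
  have h₂ : pullback.fst t u ≫ m k = pullback.snd t u ≫ pullback.snd _ _ := by
    simpa [t, u] using (pullback.condition (f := t) (g := u)) =≫ prod.snd
  refine isQC_of_iso ?_ hQ
  exact
    { hom := equalizer.lift (pullback.fst t u) (by
        rw [← hl k, ← hm k, reassoc_of% h₁, reassoc_of% h₂, pullback.condition])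
      inv := pullback.lift (equalizer.ι _ _)
        (pullback.lift (equalizer.ι _ _ ≫ l k) (equalizer.ι _ _ ≫ m k)
          (by simpa [hl k, hm k] using equalizer.condition (c k ≫ a) (c k ≫ b)))
        (by ext <;> simp [t, u])
      hom_inv_id := by
        apply pullback.hom_ext
        · simp
        · apply pullback.hom_ext <;> simp [h₁, h₂]
      inv_hom_id := by apply equalizer.hom_ext; simp }

end Groth.Agent.Topos46
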