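import Mathlib.CategoryTheory.Sites.LocallySurjective
import Mathlib.CategoryTheory.Sites.Limits
import Mathlib.CategoryTheory.Sites.LeftExact
import Mathlib.CategoryTheory.Limits.Shapes.Products
import Mathlib.CategoryTheory.Limits.Shapes.Pullback.IsPullback.Basic
import Mathlib.CategoryTheory.Limits.Types.Pullbacks

/-!
Jointly epimorphic families, with the local lifting criterion in categories of sheaves of sets.
-/

universe w v u

open CategoryTheory CategoryTheory.Limits Opposite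

namespace Groth.Agent.Topos46

section General

variable {A : Type*} [Category A] {ι : Type*} {X : A} {F : ι → A}

/-- Jointly epimorphic family. -/
def IsEpiFam (π : ∀ i, F i ⟶ X) : Prop :=
  ∀ ⦃Z : A⦄ (a b : X ⟶ Z), (∀ i, π i ≫ a = π i ≫ b) → a = b

variable {π : ∀ i, F i ⟶ X}

lemma isEpiFam_iff_epi_desc [HasCoproduct F] : IsEpiFam π ↔ Epi (Sigma.desc π) := by
  constructor
  · intro h
    refine ⟨fun a b hab => h a b fun i => ?_⟩
    simpa using Sigma.ι F i ≫= hab
  · intro h Z a b hab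
    rw [← cancel_epi (Sigma.desc π)]
    refine Sigma.hom_ext _ _ fun i => ?_
    simpa using hab i

lemma IsEpiFam.of_fac {κ : Type*} {G : κ → A} {ρ : ∀ k, G k ⟶ X} (h : IsEpiFam π)
    (hf : ∀ i, ∃ k, ∃ t : F i ⟶ G k, t ≫ ρ k = π i) : IsEpiFam ρ := by
  intro Z a b hab
  refine h a b fun i => ?_
  obtain ⟨k, t, ht⟩ := hf i
  rw [← ht, Category.assoc, Category.assoc, hab k]

lemma IsEpiFam.sigma {κ : ι → Type*} {G : ∀ i, κ i → A} {ρ : ∀ i k, G i k ⟶ F i}
    (h : IsEpiFam π) (hρ : ∀ i, IsEpiFam (ρ i)) :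
    IsEpiFam (F := fun p : Σ i, κ i => G p.1 p.2) (fun p => ρ p.1 p.2 ≫ π p.1) := by
  intro Z a b hab
  refine h a b fun i => hρ i _ _ fun k => ?_
  simpa using hab ⟨i, k⟩

lemma IsEpiFam.comp_epi {Y : A} (h : IsEpiFam π) (f : X ⟶ Y) [Epi f] :
    IsEpiFam (fun i => π i ≫ f) := by
  intro Z a b hab
  rw [← cancel_epi f]
  exact h _ _ fun i => by simpa using hab i

lemma isEpiFam_of_epi {Y : A} (f : Y ⟶ X) [Epi f] : IsEpiFam (F := fun _ : Unit => Y) fun _ => f :=
  fun _ _ _ hab => (cancel_epi f).1 (hab ())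

lemma IsEpiFam.epi {Y : A} {f : Y ⟶ X} (h : IsEpiFam (F := fun _ : Unit => Y) fun _ => f) :
    Epi f :=
  ⟨fun a b hab => h a b fun _ => hab⟩

end General

section Sheaves

variable {C : Type u} [Category.{v} C] {J : GrothendieckTopology C}
variable {ι : Type*} {X : Sheaf J (Type w)} {F : ι → Sheaf J (Type w)}

/-- The sieve of arrows along which a section lifts through the family. -/
def liftSieve (π : ∀ i, F i ⟶ X) {U : C} (s : X.obj.obj (op U)) : Sieve U where
  arrows V g := ∃ i, ∃ t : (F i).obj.obj (op V), (π i).hom.app (op V) t = X.obj.map g.op s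
  downward_closed := by
    rintro V W g ⟨i, t, ht⟩ k
    refine ⟨i, (F i).obj.map k.op t, ?_⟩
    rw [(π i).hom.naturality_apply k.op t, ht, op_comp, Functor.map_comp_apply]

/-- The subfunctor of sections lying in the image of one of the members. -/
def unionRange (π : ∀ i, F i ⟶ X) : Subfunctor X.obj where
  obj U := {s | ∃ i, ∃ t : (F i).obj.obj U, (π i).hom.app U t = s}
  map := by
    rintro U V k s ⟨i, t, rfl⟩
    exact ⟨i, (F i).obj.map k t, (π i).hom.naturality_apply k t⟩

variable {π : ∀ i, F i ⟶ X}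

lemma IsEpiFam.liftSieve_mem [HasSheafify J (Type w)] (h : IsEpiFam π) {U : C}
    (s : X.obj.obj (op U)) : liftSieve π s ∈ J U := by
  have hX : Presieve.IsSheaf J X.obj := (isSheaf_iff_isSheaf_of_type _ _).1 X.property
  let R : Sheaf J (Type w) := ⟨((unionRange π).sheafify J).toFunctor,
    (isSheaf_iff_isSheaf_of_type _ _).2 ((unionRange π).sheafify_isSheaf hX)⟩
  let r : R ⟶ X := ⟨((unionRange π).sheafify J).ι⟩
  have : Mono r := (sheafToPresheaf J _).mono_of_mono_map
    (show Mono ((unionRange π).sheafify J).ι from inferInstance)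
  have : Epi r := by
    refine ⟨fun a b hab => h a b fun i => ?_⟩
    have hle : ∀ U t, (π i).hom.app U t ∈ ((unionRange π).sheafify J).obj U := fun U t =>
      (unionRange π).le_sheafify J U ⟨i, t, rfl⟩
    let l : F i ⟶ R := ⟨Subfunctor.lift (π i).hom (fun U => by
      rintro _ ⟨t, rfl⟩; exact hle U t)⟩
    have hl : l ≫ r = π i := by ext; rfl
    rw [← hl, Category.assoc, Category.assoc, hab]
  have : IsIso r := isIso_of_mono_of_epi r
  have : IsIso r.hom := (inferInstance : IsIso ((sheafToPresheaf J _).map r))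
  obtain ⟨⟨s', hs'⟩, hss⟩ :=
    ((isIso_iff_bijective (r.hom.app (op U))).1 inferInstance).2 s
  have hss' : s' = s := hss
  subst hss'
  exact J.superset_covering (fun V g hg => hg) hs'

lemma isEpiFam_of_liftSieve_mem
    (h : ∀ (U : C) (s : X.obj.obj (op U)), liftSieve π s ∈ J U) : IsEpiFam π := by
  intro Z a b hab
  ext ⟨U⟩ s
  refine ((isSheaf_iff_isSheaf_of_type _ _).1 Z.property).isSeparated _ (h U s) |>.ext ?_
  rintro V g ⟨i, t, ht⟩
  change Z.obj.map g.op (a.hom.app (op U) s) = Z.obj.map g.op (b.hom.app (op U) s)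
  rw [← a.hom.naturality_apply, ← b.hom.naturality_apply, ← ht]
  exact ConcreteCategory.congr_hom
    (congr_app ((sheafToPresheaf J _).congr_map (hab i)) (op V)) t

lemma isPullback_app {P A B S : Sheaf J (Type w)} {p : P ⟶ A} {q : P ⟶ B} {f : A ⟶ S} {g : B ⟶ S}
    (h : IsPullback p q f g) (U : Cᵒᵖ) :
    IsPullback (p.hom.app U) (q.hom.app U) (f.hom.app U) (g.hom.app U) :=
  h.map (sheafToPresheaf J (Type w) ⋙ (evaluation _ _).obj U)

lemma exists_section_of_isPullback {P A B S : Sheaf J (Type w)} {p : P ⟶ A} {q : P ⟶ B}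
    {f : A ⟶ S} {g : B ⟶ S} (h : IsPullback p q f g) {U : Cᵒᵖ} (a : A.obj.obj U) (b : B.obj.obj U)
    (hab : f.hom.app U a = g.hom.app U b) :
    ∃ x : P.obj.obj U, p.hom.app U x = a ∧ q.hom.app U x = b :=
  Types.exists_of_isPullback (isPullback_app h U) a b hab

lemma IsEpiFam.of_isPullback [HasSheafify J (Type w)] (h : IsEpiFam π) {Y : Sheaf J (Type w)}
    (g : Y ⟶ X) {P : ι → Sheaf J (Type w)} (p : ∀ i, P i ⟶ Y) (q : ∀ i, P i ⟶ F i)
    (sq : ∀ i, IsPullback (p i) (q i) g (π i)) : IsEpiFam p := by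
  refine isEpiFam_of_liftSieve_mem fun U y => J.superset_covering ?_
    (h.liftSieve_mem (g.hom.app (op U) y))
  rintro V k ⟨i, t, ht⟩
  obtain ⟨x, hx, -⟩ := exists_section_of_isPullback (sq i) (Y.obj.map k.op y) t
    (by rw [g.hom.naturality_apply, ht])
  exact ⟨i, x, hx⟩

lemma IsEpiFam.pullback_fst [HasSheafify J (Type w)] (h : IsEpiFam π) {Y : Sheaf J (Type w)}
    (g : Y ⟶ X) : IsEpiFam (fun i => pullback.fst g (π i)) :=
  h.of_isPullback g _ _ fun _ => IsPullback.of_hasPullback _ _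

lemma IsEpiFam.pullback_snd [HasSheafify J (Type w)] (h : IsEpiFam π) {Y : Sheaf J (Type w)}
    (g : Y ⟶ X) : IsEpiFam (fun i => pullback.snd (π i) g) :=
  h.of_isPullback g _ _ fun _ => (IsPullback.of_hasPullback _ _).flip

/-- Descent of morphisms along a jointly epimorphic family. -/
lemma IsEpiFam.exists_desc [HasSheafify J (Type w)] (h : IsEpiFam π) {Z : Sheaf J (Type w)}
    (a : ∀ i, F i ⟶ Z)
    (ha : ∀ i j, pullback.fst (π i) (π j) ≫ a i = pullback.snd (π i) (π j) ≫ a j) :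
    ∃ d : X ⟶ Z, ∀ i, π i ≫ d = a i := by
  have key : ∀ (U : Cᵒᵖ) i j (t : (F i).obj.obj U) (t' : (F j).obj.obj U),
      (π i).hom.app U t = (π j).hom.app U t' → (a i).hom.app U t = (a j).hom.app U t' := by
    intro U i j t t' htt'
    obtain ⟨x, rfl, rfl⟩ :=
      exists_section_of_isPullback (IsPullback.of_hasPullback (π i) (π j)) t t' htt'
    exact ConcreteCategory.congr_hom
      (congr_app ((sheafToPresheaf J _).congr_map (ha i j)) U) x
  have hZ := (isSheaf_iff_isSheaf_of_type _ _).1 Z.property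
  let fam : ∀ {U : C} (s : X.obj.obj (op U)),
      Presieve.FamilyOfElements Z.obj (liftSieve π s).arrows :=
    fun {U} s V g hg => (a hg.choose).hom.app (op V) hg.choose_spec.choose
  have hfam : ∀ {U : C} (s : X.obj.obj (op U)) {V : C} (g : V ⟶ U) (hg : liftSieve π s g)
      (i : ι) (t : (F i).obj.obj (op V)), (π i).hom.app (op V) t = X.obj.map g.op s →
      fam s g hg = (a i).hom.app (op V) t := by
    intro U s V g hg i t ht
    exact key _ _ _ _ _ (hg.choose_spec.choose_spec.trans ht.symm)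
  have hcompat : ∀ {U : C} (s : X.obj.obj (op U)), (fam s).Compatible := by
    intro U s V₁ V₂ W g₁ g₂ f₁ f₂ h₁ h₂ e
    obtain ⟨i₁, t₁, ht₁⟩ := id h₁
    obtain ⟨i₂, t₂, ht₂⟩ := id h₂
    rw [hfam s f₁ h₁ i₁ t₁ ht₁, hfam s f₂ h₂ i₂ t₂ ht₂, ← (a i₁).hom.naturality_apply,
      ← (a i₂).hom.naturality_apply]
    refine key _ _ _ _ _ ?_
    rw [(π i₁).hom.naturality_apply, (π i₂).hom.naturality_apply, ht₁, ht₂,
      ← Functor.map_comp_apply, ← Functor.map_comp_apply, ← op_comp, ← op_comp, e]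
  let d : ∀ U : Cᵒᵖ, X.obj.obj U → Z.obj.obj U := fun U s =>
    (hZ _ (h.liftSieve_mem (U := U.unop) s)).amalgamate (fam s) (hcompat s)
  have hd : ∀ {U : C} (s : X.obj.obj (op U)) {V : C} (g : V ⟶ U) (i : ι)
      (t : (F i).obj.obj (op V)), (π i).hom.app (op V) t = X.obj.map g.op s →
      Z.obj.map g.op (d (op U) s) = (a i).hom.app (op V) t := by
    intro U s V g i t ht
    rw [← hfam s g ⟨i, t, ht⟩ i t ht]
    exact Presieve.IsSheafFor.valid_glue _ (hcompat s) g ⟨i, t, ht⟩
  let dn : X.obj ⟶ Z.obj :=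
    { app := fun U => ↾(d U)
      naturality := by
        rintro ⟨U⟩ ⟨U'⟩ k
        ext s
        refine (hZ _ (h.liftSieve_mem (U := U') (X.obj.map k s))).isSeparatedFor.ext ?_
        rintro V g ⟨i, t, ht⟩
        change Z.obj.map g.op (d _ (X.obj.map k s)) = Z.obj.map g.op (Z.obj.map k (d _ s))
        rw [hd _ g i t ht, ← Functor.map_comp_apply]
        refine (hd s (g ≫ k.unop) i t ?_).symm
        rw [ht, op_comp, Functor.map_comp_apply, Quiver.Hom.op_unop] }
  refine ⟨⟨dn⟩, fun i => ?_⟩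
  ext ⟨U⟩ t
  change d (op U) ((π i).hom.app (op U) t) = (a i).hom.app (op U) t
  have := hd ((π i).hom.app (op U) t) (𝟙 U) i t (by simp)
  simpa using this

end Sheaves

end Groth.Agent.Topos46
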