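import Groth.Prelude.Def_SGA4c
import Groth.Agent.Topos46.EpiFam

/-!
Basic calculus of quasi-compact, quasi-separated objects and morphisms in a sheaf topos.
-/

universe u

open CategoryTheory CategoryTheory.Limits Opposite ToposFin

namespace Groth.Agent.Topos46

variable {C : Type u} [SmallCategory C] {J : GrothendieckTopology C}

lemma isQC_iff {X : Sh J} : IsQC X ↔ ∀ (ι : Type u) (F : ι → Sh J) (π : ∀ i, F i ⟶ X),
    IsEpiFam π → ∃ s : Finset ι, IsEpiFam (fun i : s => π i) := by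
  simp only [IsQC, isEpiFam_iff_epi_desc]

lemma isQC_of_finite_epiFam {κ : Type*} [Finite κ] {X : Sh J} {W : κ → Sh J}
    {ρ : ∀ k, W k ⟶ X} (hρ : IsEpiFam ρ) (hW : ∀ k, IsQC (W k)) : IsQC X := by
  classical
  rw [isQC_iff]
  intro ι F π hπ
  choose s hs using fun k => isQC_iff.1 (hW k) ι _ _ (hπ.pullback_fst (ρ k))
  cases nonempty_fintype κ
  refine ⟨Finset.univ.biUnion s, fun Z a b hab => hρ a b fun k => hs k _ _ ?_⟩
  intro i
  have hi : i.1 ∈ Finset.univ.biUnion s :=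
    Finset.mem_biUnion.2 ⟨k, Finset.mem_univ _, i.2⟩
  rw [pullback.condition_assoc, pullback.condition_assoc]
  exact congrArg _ (hab ⟨i.1, hi⟩)

lemma isQC_of_epi {X Y : Sh J} (f : X ⟶ Y) [Epi f] (hX : IsQC X) : IsQC Y :=
  isQC_of_finite_epiFam (isEpiFam_of_epi f) fun _ => hX

lemma isQC_of_iso {X Y : Sh J} (e : X ≅ Y) (hX : IsQC X) : IsQC Y := isQC_of_epi e.hom hX

lemma exists_finite_subfamily {X : Sh J} (hX : IsQC X) {ι : Type u} {F : ι → Sh J}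
    {π : ∀ i, F i ⟶ X} (hπ : IsEpiFam π) :
    ∃ (n : ℕ) (σ : Fin n → ι), IsEpiFam (fun k => π (σ k)) := by
  obtain ⟨s, hs⟩ := isQC_iff.1 hX ι F π hπ
  refine ⟨_, fun k => (s.equivFin.symm k).1, fun Z a b hab => hs a b fun i => ?_⟩
  obtain ⟨k, rfl⟩ := s.equivFin.symm.surjective i
  exact hab k

/-- Every object is covered by objects satisfying `P`. -/
def GenBy (P : Sh J → Prop) : Prop :=
  ∀ X : Sh J, ∃ (ι : Type u) (F : ι → Sh J) (π : ∀ i, F i ⟶ X), (∀ i, P (F i)) ∧ IsEpiFam π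

lemma genBy_of_hasQCGenerators (h : HasQCGenerators J) : GenBy (IsQC (J := J)) := fun X => by
  obtain ⟨ι, F, π, hF, hπ⟩ := h X
  exact ⟨ι, F, π, hF, isEpiFam_iff_epi_desc.2 hπ⟩

lemma genBy_of_hasCoherentGenerators (h : HasCoherentGenerators J) :
    GenBy (IsCoherent (J := J)) := fun X => by
  obtain ⟨ι, F, π, hF, hπ⟩ := h X
  exact ⟨ι, F, π, hF, isEpiFam_iff_epi_desc.2 hπ⟩

lemma GenBy.mono {P Q : Sh J → Prop} (h : GenBy P) (hPQ : ∀ X, P X → Q X) : GenBy Q := fun X => by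
  obtain ⟨ι, F, π, hF, hπ⟩ := h X
  exact ⟨ι, F, π, fun i => hPQ _ (hF i), hπ⟩

lemma genBy_of_family {α : Type u} (G : α → Sh J)
    (hgen : ∀ X : Sh J, ∃ (ι : Type u) (a : ι → α) (π : ∀ i, G (a i) ⟶ X), Epi (Sigma.desc π)) :
    GenBy (fun X => ∃ a, X = G a) := fun X => by
  obtain ⟨ι, a, π, hπ⟩ := hgen X
  exact ⟨ι, fun i => G (a i), π, fun i => ⟨a i, rfl⟩, isEpiFam_iff_epi_desc.2 hπ⟩

/-- A finite cover by objects satisfying `P`, refining a given cover. -/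
lemma GenBy.exists_finite_refinement {P : Sh J → Prop} (hP : GenBy P) {X : Sh J} (hX : IsQC X)
    {ι : Type u} {F : ι → Sh J} {π : ∀ i, F i ⟶ X} (hπ : IsEpiFam π) :
    ∃ (n : ℕ) (W : Fin n → Sh J) (ρ : ∀ k, W k ⟶ X) (σ : Fin n → ι) (l : ∀ k, W k ⟶ F (σ k)),
      (∀ k, P (W k)) ∧ IsEpiFam ρ ∧ ∀ k, l k ≫ π (σ k) = ρ k := by
  choose κ G ρ' hG hρ' using fun i => hP (F i)
  obtain ⟨n, τ, hτ⟩ := exists_finite_subfamily hX (hπ.sigma hρ')
  exact ⟨n, fun k => G (τ k).1 (τ k).2, fun k => ρ' _ (τ k).2 ≫ π _, fun k => (τ k).1,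
    fun k => ρ' _ (τ k).2, fun k => hG _ _, hτ, fun k => rfl⟩

lemma GenBy.exists_finite_cover {P : Sh J → Prop} (hP : GenBy P) {X : Sh J} (hX : IsQC X) :
    ∃ (n : ℕ) (W : Fin n → Sh J) (ρ : ∀ k, W k ⟶ X), (∀ k, P (W k)) ∧ IsEpiFam ρ := by
  obtain ⟨ι, F, π, hF, hπ⟩ := hP X
  obtain ⟨n, τ, hτ⟩ := exists_finite_subfamily hX hπ
  exact ⟨n, fun k => F (τ k), fun k => π (τ k), fun k => hF _, hτ⟩

/-- A cover refined along two morphisms at once. -/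
lemma GenBy.exists_finite_refinement₂ {P : Sh J → Prop} (hP : GenBy P) {X A B : Sh J}
    (hX : IsQC X) (a : X ⟶ A) (b : X ⟶ B) {ι κ : Type u} {F : ι → Sh J} {π : ∀ i, F i ⟶ A}
    (hπ : IsEpiFam π) {G : κ → Sh J} {ρ : ∀ i, G i ⟶ B} (hρ : IsEpiFam ρ) :
    ∃ (n : ℕ) (W : Fin n → Sh J) (c : ∀ k, W k ⟶ X) (σ : Fin n → ι) (τ : Fin n → κ)
      (l : ∀ k, W k ⟶ F (σ k)) (m : ∀ k, W k ⟶ G (τ k)),
      (∀ k, P (W k)) ∧ IsEpiFam c ∧ (∀ k, l k ≫ π (σ k) = c k ≫ a) ∧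
        ∀ k, m k ≫ ρ (τ k) = c k ≫ b := by
  obtain ⟨n, W, c, σ, l, hW, hc, hl⟩ := hP.exists_finite_refinement hX
    ((hπ.pullback_fst a).sigma fun i => hρ.pullback_fst (pullback.fst a (π i) ≫ b))
  refine ⟨n, W, c, fun k => (σ k).1, fun k => (σ k).2,
    fun k => l k ≫ pullback.fst _ _ ≫ pullback.snd a (π _),
    fun k => l k ≫ pullback.snd _ _, hW, hc, fun k => ?_, fun k => ?_⟩
  · rw [← hl k]; simp [pullback.condition]
  · rw [← hl k]; simp [pullback.condition]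

section Hom

variable {X Y Z : Sh J}

lemma isQC_of_isQCHom {f : X ⟶ Y} (hf : IsQCHom f) {P Y' : Sh J} {p : P ⟶ X} {q : P ⟶ Y'}
    {g : Y' ⟶ Y} (sq : IsPullback p q f g) (hY' : IsQC Y') : IsQC P :=
  isQC_of_iso sq.isoPullback.symm (hf Y' g hY')

lemma isQC_source_of_isQCHom {f : X ⟶ Y} (hf : IsQCHom f) (hY : IsQC Y) : IsQC X :=
  isQC_of_isQCHom hf IsPullback.of_id_fst hY

lemma isQCHom_of_isIso (f : X ⟶ Y) [IsIso f] : IsQCHom f := fun _ g hY' =>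
  isQC_of_iso (asIso (pullback.snd f g)).symm hY'

lemma isQCHom_comp {f : X ⟶ Y} {g : Y ⟶ Z} (hf : IsQCHom f) (hg : IsQCHom g) :
    IsQCHom (f ≫ g) := by
  intro Z' s hZ'
  exact isQC_of_iso (pullbackRightPullbackFstIso g s f) (hf _ _ (hg Z' s hZ'))

lemma isQCHom_of_isPullback {f : X ⟶ Y} (hf : IsQCHom f) {P Y' : Sh J} {p : P ⟶ X} {q : P ⟶ Y'}
    {g : Y' ⟶ Y} (sq : IsPullback p q f g) : IsQCHom q := by
  intro W s hW
  exact isQC_of_isQCHom hf ((IsPullback.of_hasPullback q s).paste_horiz sq) hW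

end Hom

end Groth.Agent.Topos46
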