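import Groth.Agent.Topos46.Local
import Mathlib.CategoryTheory.Sites.LocallyInjective
import Mathlib.CategoryTheory.Limits.Preserves.Finite
import Mathlib.CategoryTheory.Limits.Yoneda

/-!
The sheaves attached to the objects of a small site inside the topos.
-/

universe u

open CategoryTheory CategoryTheory.Limits Opposite ToposFin

namespace Groth.Agent.Topos46

variable {C : Type u} [SmallCategory C] {J : GrothendieckTopology C} {X : Sh J}

/-- Morphisms out of `eps J V` are sections over `V`. -/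
noncomputable def epsEquiv {V : C} : (eps J V ⟶ X) ≃ X.obj.obj (op V) :=
  ((sheafificationAdjunction J (Type u)).homEquiv _ _).trans yonedaEquiv

/-- The morphism between representable sheaves attached to an arrow of the site. -/
noncomputable abbrev epsMap {V W : C} (g : V ⟶ W) : eps J V ⟶ eps J W :=
  (presheafToSheaf J (Type u)).map (yoneda.map g)

lemma epsEquiv_comp {V : C} (s : eps J V ⟶ X) {Y : Sh J} (φ : X ⟶ Y) :
    epsEquiv (s ≫ φ) = φ.hom.app (op V) (epsEquiv s) := by
  simp only [epsEquiv, Equiv.trans_apply, Adjunction.homEquiv_naturality_right]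
  exact yonedaEquiv_comp _ _

lemma epsEquiv_epsMap_comp {V W : C} (g : W ⟶ V) (s : eps J V ⟶ X) :
    epsEquiv (epsMap g ≫ s) = X.obj.map g.op (epsEquiv s) := by
  simp only [epsEquiv, Equiv.trans_apply, Adjunction.homEquiv_naturality_left]
  exact (yonedaEquiv_naturality _ _).symm

lemma epsEquiv_id {V : C} :
    (epsEquiv (𝟙 (eps J V)) : (eps J V).obj.obj (op V)) =
      (toSheafify J (yoneda.obj V)).app (op V) (𝟙 V) := by
  simp only [epsEquiv, Equiv.trans_apply, Adjunction.homEquiv_unit, Functor.map_id]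
  simp [yonedaEquiv_apply]

lemma epsEquiv_epsMap {V W : C} (g : W ⟶ V) :
    (epsEquiv (epsMap (J := J) g) : (eps J V).obj.obj (op W)) =
      (toSheafify J (yoneda.obj V)).app (op W) g := by
  have h₁ : (epsEquiv (epsMap (J := J) g) : (eps J V).obj.obj (op W)) =
      (eps J V).obj.map g.op (epsEquiv (𝟙 (eps J V))) := by
    rw [← epsEquiv_epsMap_comp, Category.comp_id]
  rw [h₁, epsEquiv_id]
  refine ((toSheafify J (yoneda.obj V)).naturality_apply g.op (𝟙 V)).symm.trans ?_
  exact congrArg _ (Category.comp_id g)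

lemma eps_hom_ext_of_mem {V : C} {a b : eps J V ⟶ X} {S : Sieve V} (hS : S ∈ J V)
    (h : ∀ ⦃W : C⦄ (g : W ⟶ V), S g → epsMap g ≫ a = epsMap g ≫ b) : a = b := by
  apply epsEquiv.injective
  refine ((isSheaf_iff_isSheaf_of_type _ _).1 X.property).isSeparated _ hS |>.ext ?_
  intro W g hg
  rw [← epsEquiv_epsMap_comp, ← epsEquiv_epsMap_comp, h g hg]

lemma isEpiFam_epsMap {V : C} {κ : Type*} (W : κ → C) (g : ∀ k, W k ⟶ V)
    (h : Sieve.ofArrows W g ∈ J V) : IsEpiFam (fun k => epsMap (J := J) (g k)) := by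
  intro Z a b hab
  refine eps_hom_ext_of_mem h ?_
  rintro U t ⟨_, t', _, ⟨k⟩, rfl⟩
  simp only [epsMap, Functor.map_comp, Category.assoc]
  exact congrArg _ (hab k)

lemma isEpiFam_sieve {V : C} {S : Sieve V} (hS : S ∈ J V) :
    IsEpiFam (fun p : Σ W : C, {g : W ⟶ V // S g} => epsMap (J := J) p.2.1) :=
  fun _ _ _ hab => eps_hom_ext_of_mem hS fun W g hg => hab ⟨W, g, hg⟩

lemma genBy_eps : GenBy (fun W : Sh J => ∃ V, W = eps J V) := by
  intro X
  refine ⟨Σ V : C, X.obj.obj (op V), fun p => eps J p.1, fun p => epsEquiv.symm p.2,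
    fun p => ⟨p.1, rfl⟩, fun Z a b hab => ?_⟩
  ext ⟨V⟩ s
  change a.hom.app (op V) s = b.hom.app (op V) s
  have := congrArg epsEquiv (hab ⟨V, s⟩)
  simpa only [epsEquiv_comp, Equiv.apply_symm_apply] using this

/-- A morphism between representable sheaves comes locally from the site. -/
lemma exists_local_rep {V W : C} (s : eps J W ⟶ eps J V) :
    ∃ S ∈ J W, ∀ ⦃U : C⦄ (g : U ⟶ W), S g → ∃ h : U ⟶ V, epsMap (J := J) h = epsMap g ≫ s := by
  refine ⟨_, Presheaf.imageSieve_mem J (toSheafify J (yoneda.obj V)) (epsEquiv s), ?_⟩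
  rintro U g ⟨h, hh⟩
  refine ⟨h, epsEquiv.injective ?_⟩
  rw [epsEquiv_epsMap, epsEquiv_epsMap_comp]
  exact hh

lemma mem_of_isEpiFam_epsMap {V : C} {κ : Type*} (W : κ → C) (g : ∀ k, W k ⟶ V)
    (h : IsEpiFam (fun k => epsMap (J := J) (g k))) : Sieve.ofArrows W g ∈ J V := by
  have hS := h.liftSieve_mem (epsEquiv (𝟙 (eps J V)))
  refine J.transitive hS _ fun U f hf => ?_
  obtain ⟨k, t, ht⟩ := hf
  obtain ⟨t, rfl⟩ := epsEquiv.surjective t
  rw [← epsEquiv_comp, ← epsEquiv_epsMap_comp, Category.comp_id] at ht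
  obtain ⟨T, hT, hT'⟩ := exists_local_rep t
  refine J.transitive hT _ fun U' f' hf' => ?_
  obtain ⟨h', hh'⟩ := hT' f' hf'
  have e : epsMap (J := J) (h' ≫ g k) = epsMap (f' ≫ f) := by
    simp only [epsMap, Functor.map_comp] at hh' ⊢
    rw [hh', Category.assoc]
    exact congrArg _ (epsEquiv.injective ht)
  have e' := congrArg epsEquiv e
  rw [epsEquiv_epsMap, epsEquiv_epsMap] at e'
  let x : (yoneda.obj V).obj (op U') := h' ≫ g k
  let y : (yoneda.obj V).obj (op U') := f' ≫ f
  refine J.superset_covering ?_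
    (Presheaf.equalizerSieve_mem J (toSheafify J (yoneda.obj V)) x y e')
  intro U'' f'' hf''
  refine ⟨W k, f'' ≫ h', g k, ⟨k⟩, ?_⟩
  simpa using hf''

/-- Covering families by representables whose composites to a representable come from the site. -/
lemma isEpiFam_rep {A : Sh J} {V : C} (a : A ⟶ eps J V) :
    IsEpiFam (fun p : Σ U : C, {th : (eps J U ⟶ A) × (U ⟶ V) //
      th.1 ≫ a = epsMap th.2} => p.2.1.1) := by
  intro Z x y hxy
  obtain ⟨ι, F, π, hF, hπ⟩ := genBy_eps A
  refine hπ x y fun i => ?_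
  obtain ⟨U, hU⟩ := hF i
  generalize π i = t
  revert t
  rw [hU]
  intro t
  obtain ⟨S, hS, hS'⟩ := exists_local_rep (t ≫ a)
  refine eps_hom_ext_of_mem hS fun U' g hg => ?_
  obtain ⟨h, hh⟩ := hS' g hg
  have := hxy ⟨U', (epsMap g ≫ t, h), by simp [hh]⟩
  simpa using this

lemma isPullback_epsMap {P A B V : C} {p : P ⟶ A} {q : P ⟶ B} {f : A ⟶ V} {g : B ⟶ V}
    (sq : IsPullback p q f g) :
    IsPullback (epsMap (J := J) p) (epsMap q) (epsMap f) (epsMap g) :=
  (sq.map yoneda).map (presheafToSheaf J (Type u))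

end Groth.Agent.Topos46
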