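import Groth.Agent.Topos46.Local
import Mathlib.CategoryTheory.Extensive
import Mathlib.CategoryTheory.Limits.Shapes.StrictInitial

/-!
Coproducts in a sheaf topos: injections are monomorphisms, disjointness, summands of quasi-compact objects.
-/

universe u

open CategoryTheory CategoryTheory.Limits Opposite ToposFin

namespace Groth.Agent.Topos46

variable {C : Type u} [SmallCategory C] {J : GrothendieckTopology C} {X Y : Sh J}

attribute [local simp] pullback.lift_fst pullback.lift_snd pullback.lift_fst_assoc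
  pullback.lift_snd_assoc

lemma isQC_equalizer_congr {W : Sh J} {a a' b b' : W ⟶ X} (ha : a = a') (hb : b = b')
    (h : IsQC (equalizer a' b')) : IsQC (equalizer a b) := by
  subst ha hb
  exact h

/-- The empty family covers `W`. -/
def IsVoid (W : Sh J) : Prop := ∀ ⦃Z : Sh J⦄ (a b : W ⟶ Z), a = b

lemma isVoid_of_map_initial {W : Sh J} (f : W ⟶ ⊥_ (Sh J)) : IsVoid W := fun Z a b => by
  have : IsIso f := initialIsInitial.isIso_to f
  exact (IsInitial.ofIso initialIsInitial (asIso f).symm).hom_ext a b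

lemma IsVoid.isQC {W : Sh J} (h : IsVoid W) : IsQC W :=
  isQC_of_finite_epiFam (κ := PEmpty.{1}) (W := fun k => k.elim) (ρ := fun k => k.elim)
    (fun _ a b _ => h a b) fun k => k.elim

lemma IsVoid.of_hom {W V : Sh J} (h : IsVoid V) (f : W ⟶ V) : IsVoid W := by
  have hV : IsEpiFam (F := fun k : PEmpty.{u + 1} => (PEmpty.elim k : Sh J)) (X := V)
      fun k => k.elim := fun _ a b _ => h a b
  intro Z a b
  exact hV.pullback_fst f a b fun k => k.elim

lemma IsVoid.exists_hom {V : Sh J} (h : IsVoid V) (Z : Sh J) : Nonempty (V ⟶ Z) := by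
  have hV : IsEpiFam (F := fun k : PEmpty.{u + 1} => (PEmpty.elim k : Sh J)) (X := V)
      fun k => k.elim := fun _ a b _ => h a b
  obtain ⟨d, -⟩ := hV.exists_desc (Z := Z) (fun k => k.elim) fun k => k.elim
  exact ⟨d⟩

lemma isVoid_iff_iso_initial {V : Sh J} : IsVoid V ↔ Nonempty (V ≅ ⊥_ (Sh J)) := by
  constructor
  · intro h
    obtain ⟨f⟩ := h.exists_hom (⊥_ _)
    have : IsIso f := initialIsInitial.isIso_to f
    exact ⟨asIso f⟩
  · rintro ⟨e⟩
    exact isVoid_of_map_initial e.hom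

section Cofan

variable {ι : Type*} {F : ι → Sh J} {c : Cofan F} (hc : IsColimit c)

include hc

lemma isEpiFam_inj : IsEpiFam c.inj := fun _ _ _ h => Cofan.IsColimit.hom_ext hc _ _ h

lemma mono_cofan_inj (i : ι) : Mono (c.inj i) := by
  classical
  let χ : c.pt ⟶ F i ⨿ ⊤_ (Sh J) := Cofan.IsColimit.desc hc fun j =>
    if h : j = i then eqToHom (by rw [h]) ≫ coprod.inl else terminal.from _ ≫ coprod.inr
  have hχ : c.inj i ≫ χ = coprod.inl := by simp [χ]
  have : Mono (coprod.inl : F i ⟶ F i ⨿ ⊤_ (Sh J)) :=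
    FinitaryExtensive.mono_inl_of_isColimit (c := BinaryCofan.mk _ coprod.inr) (coprodIsCoprod _ _)
  exact mono_of_mono_fac hχ

lemma isVoid_of_comm_inj {i j : ι} (hij : i ≠ j) {W : Sh J} (a : W ⟶ F i) (b : W ⟶ F j)
    (h : a ≫ c.inj i = b ≫ c.inj j) : IsVoid W := by
  classical
  let χ : c.pt ⟶ F i ⨿ ⊤_ (Sh J) := Cofan.IsColimit.desc hc fun j =>
    if h : j = i then eqToHom (by rw [h]) ≫ coprod.inl else terminal.from _ ≫ coprod.inr
  have h₁ : c.inj i ≫ χ = coprod.inl := by simp [χ]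
  have h₂ : c.inj j ≫ χ = terminal.from _ ≫ coprod.inr := by simp [χ, Ne.symm hij]
  have e : a ≫ coprod.inl = (b ≫ terminal.from _) ≫ coprod.inr := by
    rw [Category.assoc, ← h₁, ← h₂, reassoc_of% h]
  exact isVoid_of_map_initial ((FinitaryExtensive.isPullback_initial_to_binaryCofan
    (coprodIsCoprod (F i) (⊤_ (Sh J)))).lift a (b ≫ terminal.from _) e)

end Cofan

/-- A member of a disjoint decomposition of a quasi-compact object is quasi-compact. -/
lemma isQC_of_disjoint_member {W : Sh J} (hW : IsQC W) {κ : Type*} [Small.{u} κ] {P : κ → Sh J}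
    {w : ∀ k, P k ⟶ W} (hw : IsEpiFam w) (hmono : ∀ k, Mono (w k))
    (hdis : ∀ j k, j ≠ k → ∀ (V : Sh J) (a : V ⟶ P j) (b : V ⟶ P k),
      a ≫ w j = b ≫ w k → IsVoid V) (i : κ) : IsQC (P i) := by
  classical
  rw [isQC_iff]
  intro ι F π hπ
  let e := equivShrink.{u} κ
  let G : ι ⊕ Shrink.{u} κ → Sh J := Sum.elim F fun k => if e.symm k = i then ⊥_ _ else P (e.symm k)
  let ρ : ∀ x, G x ⟶ W := fun
    | .inl x => π x ≫ w i
    | .inr k => if h : e.symm k = i then eqToHom (by simp [G, h]) ≫ initial.to W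
        else eqToHom (by simp [G, h]) ≫ w (e.symm k)
  have hρ : IsEpiFam ρ := by
    intro Z a b hab
    refine hw a b fun j => ?_
    by_cases hj : j = i
    · subst hj
      exact hπ _ _ fun x => ((Category.assoc _ _ _).symm.trans (hab (.inl x))).trans (Category.assoc _ _ _)
    · obtain ⟨k, rfl⟩ := e.symm.surjective j
      have := hab (.inr k)
      simp [ρ, hj] at this
      exact (cancel_epi _).1 this
  obtain ⟨s, hs⟩ := isQC_iff.1 hW _ _ ρ hρ
  refine ⟨s.toLeft, fun Z a b hab => ?_⟩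
  have ext' : ∀ a : P i ⟶ Z, ∃ d : W ⟶ Z ⨿ ⊤_ (Sh J), w i ≫ d = a ≫ coprod.inl ∧
      ∀ j, j ≠ i → w j ≫ d = terminal.from _ ≫ coprod.inr := by
    intro a
    let f : ∀ j, P j ⟶ Z ⨿ ⊤_ (Sh J) := fun j =>
      if h : j = i then eqToHom (by rw [h]) ≫ a ≫ coprod.inl else terminal.from _ ≫ coprod.inr
    obtain ⟨d, hd⟩ := hw.exists_desc f (fun j k => by
      by_cases h : j = k
      · subst h
        have := hmono j
        rw [(cancel_mono (w j)).1 pullback.condition]
      · exact hdis j k h _ _ _ pullback.condition _ _)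
    exact ⟨d, by simp [hd, f], fun j hj => by simp [hd, f, hj]⟩
  obtain ⟨d, hd, hd'⟩ := ext' a
  obtain ⟨d', he, he'⟩ := ext' b
  have hdd : d = d' := by
    refine hs d d' fun x => ?_
    obtain ⟨x | k, hx⟩ := x
    · change (π x ≫ w i) ≫ d = (π x ≫ w i) ≫ d'
      have hx' : π x ≫ a = π x ≫ b := hab ⟨x, Finset.mem_toLeft.2 hx⟩
      rw [Category.assoc, Category.assoc, hd, he, reassoc_of% hx']
    · by_cases hk : e.symm k = i
      · simp only [ρ, dif_pos hk, Category.assoc]
        exact congrArg _ (initial.hom_ext _ _)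
      · simp [ρ, hk, hd' _ hk, he' _ hk]
  have : Mono (coprod.inl : Z ⟶ Z ⨿ ⊤_ (Sh J)) :=
    FinitaryExtensive.mono_inl_of_isColimit (c := BinaryCofan.mk _ coprod.inr) (coprodIsCoprod _ _)
  rw [← cancel_mono (coprod.inl : Z ⟶ Z ⨿ ⊤_ (Sh J)), ← hd, ← he, hdd]

section Cofan

variable {ι : Type*} [Small.{u} ι] {F : ι → Sh J} {c : Cofan F} (hc : IsColimit c)

include hc

lemma isQCHom_cofan_inj (i : ι) : IsQCHom (c.inj i) := by
  intro W s hW
  have hm := fun j => mono_cofan_inj hc j
  refine isQC_of_disjoint_member hW ((isEpiFam_inj hc).pullback_snd s)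
    (fun k => inferInstance) (fun j k hjk V a b hab => ?_) i
  refine isVoid_of_comm_inj hc hjk (a ≫ pullback.fst _ _) (b ≫ pullback.fst _ _) ?_
  simp [pullback.condition, reassoc_of% hab]

lemma exists_finite_split {W : Sh J} (hW : IsQC W) (s : W ⟶ c.pt) :
    ∃ (n : ℕ) (σ : Fin n → ι), IsEpiFam (fun k => pullback.fst s (c.inj (σ k))) ∧
      ∀ k, IsQC (pullback s (c.inj (σ k))) := by
  let e := equivShrink.{u} ι
  have h : IsEpiFam (fun k : Shrink.{u} ι => pullback.fst s (c.inj (e.symm k))) :=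
    IsEpiFam.of_fac ((isEpiFam_inj hc).pullback_fst s) fun i => by
      obtain ⟨k, rfl⟩ := e.symm.surjective i
      exact ⟨k, 𝟙 _, Category.id_comp _⟩
  obtain ⟨n, σ, hσ⟩ := exists_finite_subfamily hW h
  exact ⟨n, fun k => e.symm (σ k), hσ, fun k =>
    isQC_pullback_comm (isQCHom_cofan_inj hc _ W s hW)⟩

lemma isQC_pullback_inj (h : ∀ i, IsQS (F i)) {i j : ι} {A B : Sh J} (x : A ⟶ F i) (y : B ⟶ F j)
    (hA : IsQC A) (hB : IsQC B) : IsQC (pullback (x ≫ c.inj i) (y ≫ c.inj j)) := by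
  by_cases hij : i = j
  · subst hij
    have := mono_cofan_inj hc i
    refine isQC_of_iso ?_ (h i A B x y hA hB)
    exact
      { hom := pullback.lift (pullback.fst _ _) (pullback.snd _ _)
          (by simp [reassoc_of% pullback.condition (f := x) (g := y)])
        inv := pullback.lift (pullback.fst _ _) (pullback.snd _ _) (by
          rw [← cancel_mono (c.inj i)]; simpa using pullback.condition)
        hom_inv_id := by apply pullback.hom_ext <;> simp
        inv_hom_id := by apply pullback.hom_ext <;> simp }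
  · refine IsVoid.isQC (isVoid_of_comm_inj hc hij (pullback.fst _ _ ≫ x) (pullback.snd _ _ ≫ y) ?_)
    simpa using pullback.condition

lemma isQC_equalizer_inj {f : c.pt ⟶ Y} (h : ∀ i, IsQSHom (c.inj i ≫ f)) {i j : ι} {V : Sh J}
    (hV : IsQC V) (x : V ⟶ F i) (y : V ⟶ F j) (hxy : x ≫ c.inj i ≫ f = y ≫ c.inj j ≫ f) :
    IsQC (equalizer (x ≫ c.inj i) (y ≫ c.inj j)) := by
  by_cases hij : i = j
  · subst hij
    have := mono_cofan_inj hc i
    refine isQC_of_iso ?_ (isQSHom_iff_equalizer.1 (h i) _ x y hV hxy)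
    exact
      { hom := equalizer.lift (equalizer.ι _ _) (by simp [reassoc_of% equalizer.condition x y])
        inv := equalizer.lift (equalizer.ι _ _) (by
          rw [← cancel_mono (c.inj i)]
          simpa using equalizer.condition (x ≫ c.inj i) (y ≫ c.inj i))
        hom_inv_id := by apply equalizer.hom_ext; simp
        inv_hom_id := by apply equalizer.hom_ext; simp }
  · refine IsVoid.isQC (isVoid_of_comm_inj hc hij (equalizer.ι _ _ ≫ x) (equalizer.ι _ _ ≫ y) ?_)
    simpa using equalizer.condition (x ≫ c.inj i) (y ≫ c.inj j)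

lemma isQS_cofan (h : ∀ i, IsQS (F i)) : IsQS c.pt := by
  intro A B a b hA hB
  obtain ⟨n, σ, hσ, hAk⟩ := exists_finite_split hc hA a
  obtain ⟨m, τ, hτ, hBk⟩ := exists_finite_split hc hB b
  refine isQC_pullback_of_cover_left a b hσ fun k => ?_
  refine isQC_pullback_of_cover_right _ b hτ fun q => ?_
  exact isQC_pullback_congr pullback.condition pullback.condition
    (isQC_pullback_inj hc h _ _ (hAk k) (hBk q))

lemma isQSHom_cofan {f : c.pt ⟶ Y} (h : ∀ i, IsQSHom (c.inj i ≫ f)) : IsQSHom f := by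
  refine isQSHom_iff_equalizer.2 fun W a b hW hab => ?_
  obtain ⟨n, σ, hσ, hAk⟩ := exists_finite_split hc hW a
  refine isQC_equalizer_of_cover a b hσ fun k => ?_
  obtain ⟨m, τ, hτ, hBk⟩ := exists_finite_split hc (hAk k) (pullback.fst a (c.inj (σ k)) ≫ b)
  refine isQC_equalizer_of_cover _ _ hτ fun q => ?_
  let p := pullback.fst (pullback.fst a (c.inj (σ k)) ≫ b) (c.inj (τ q))
  have ha : p ≫ pullback.fst a (c.inj (σ k)) ≫ a =
      (p ≫ pullback.snd a (c.inj (σ k))) ≫ c.inj (σ k) := by simp [pullback.condition]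
  have hb : p ≫ pullback.fst a (c.inj (σ k)) ≫ b = pullback.snd _ _ ≫ c.inj (τ q) :=
    pullback.condition
  refine isQC_equalizer_congr ha hb (isQC_equalizer_inj hc h (hBk q) _ _ ?_)
  simp only [Category.assoc]
  rw [← reassoc_of% ha, ← reassoc_of% hb, hab]

end Cofan

end Groth.Agent.Topos46
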