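import Groth.Agent.Topos46.EpiFam
import Mathlib.CategoryTheory.EquivalenceRelation
import Mathlib.CategoryTheory.Functor.RegularEpi
import Mathlib.CategoryTheory.Sites.RegularEpi
import Mathlib.CategoryTheory.Types.Epimorphisms
import Mathlib.CategoryTheory.Limits.FunctorCategory.EpiMono

/-!
Quotients by equivalence relations in categories of presheaves and sheaves of sets.
-/

universe w v u

open CategoryTheory CategoryTheory.Limits Opposite

namespace Groth.Agent.Topos46

lemma jointlyMono₂_map {A B : Type*} [Category A] [Category B] [HasBinaryProducts A]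
    {R X₁ X₂ : A} (p₁ : R ⟶ X₁) (p₂ : R ⟶ X₂) [h : JointlyMono₂ p₁ p₂] (F : A ⥤ B)
    [PreservesLimitsOfShape (Discrete WalkingPair) F] [F.PreservesMonomorphisms] :
    JointlyMono₂ (F.map p₁) (F.map p₂) where
  right_cancellation Y f g h₁ h₂ := by
    have : Mono (prod.lift p₁ p₂) := ⟨fun a b hab => h.right_cancellation a b
      (by simpa [prod.lift_fst] using hab =≫ prod.fst) (by simpa [prod.lift_snd] using hab =≫ prod.snd)⟩
    rw [← cancel_mono (F.map (prod.lift p₁ p₂))]
    refine BinaryFan.IsLimit.hom_ext (isLimitOfHasBinaryProductOfPreservesLimit F X₁ X₂) ?_ ?_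
    · change (f ≫ F.map _) ≫ F.map prod.fst = (g ≫ F.map _) ≫ F.map prod.fst
      simp only [Category.assoc, ← F.map_comp, prod.lift_fst, h₁]
    · change (f ≫ F.map _) ≫ F.map prod.snd = (g ≫ F.map _) ≫ F.map prod.snd
      simp only [Category.assoc, ← F.map_comp, prod.lift_snd, h₂]

section General

variable {A : Type*} [Category A]

/-- An equivalence relation which is the kernel pair of a regular epimorphism is universally
effective, provided that epimorphisms are stable under base change. -/
theorem isUniversallyEffective_of_kernelPair [HasPullbacks A] [IsRegularEpiCategory A]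
    [(MorphismProperty.epimorphisms A).IsStableUnderBaseChange]
    {R X B : A} {p₁ p₂ : R ⟶ X} [he : IsEquivalenceRelation p₁ p₂] (π : X ⟶ B) [Epi π]
    (hk : IsKernelPair π p₁ p₂) : IsUniversallyEffectiveEquivalenceRelation p₁ p₂ := by
  obtain ⟨e⟩ := he.nonempty_equivalenceRelation
  have := IsRegularEpiCategory.regularEpiOfEpi π
  have hcol := isColimitCoforkOfEffectiveEpi π hk.cone hk.isLimit
  refine ⟨⟨{ toEquivalenceRelation := e, B := B, π := π, isKernelPair := hk, isPushout := ?_,
             universally_effectiveEpi_π := fun X' Y' i₁ i₂ f' sq => ?_ }⟩⟩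
  · have hw : ∀ s : PushoutCocone p₁ p₂, s.inl = s.inr := fun s => by
      simpa using e.r ≫= s.condition
    exact IsPushout.of_isColimit (PushoutCocone.IsColimit.mk hk.w
      (fun s => Cofork.IsColimit.desc hcol s.inl (show p₁ ≫ s.inl = p₂ ≫ s.inl by
        rw [s.condition, hw s]))
      (fun s => Cofork.IsColimit.π_desc' hcol _ _)
      (fun s => (Cofork.IsColimit.π_desc' hcol _ _).trans (hw s))
      (fun s m h₁ _ => (cancel_epi π).1 (h₁.trans (Cofork.IsColimit.π_desc' hcol _ _).symm)))
  · have : Epi f' :=
      MorphismProperty.of_isPullback (P := MorphismProperty.epimorphisms A) sq.flip ‹Epi π›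
    have := IsRegularEpiCategory.regularEpiOfEpi f'
    infer_instance

end General

section Presheaf

variable {C : Type u} [Category.{v} C]

instance : (MorphismProperty.epimorphisms (Cᵒᵖ ⥤ Type w)).IsStableUnderBaseChange where
  of_isPullback {_ _ _ _} b r t l sq hr := by
    simp only [MorphismProperty.epimorphisms.iff, NatTrans.epi_iff_epi_app] at hr ⊢
    exact fun U => MorphismProperty.of_isPullback
      (P := MorphismProperty.epimorphisms (Type w)) (sq.map ((evaluation _ _).obj U)) (hr U)

variable {R X : Cᵒᵖ ⥤ Type w} (p₁ p₂ : R ⟶ X)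

/-- The relation on sections defined by a pair of maps of presheaves. -/
def relAt (U : Cᵒᵖ) : X.obj U → X.obj U → Prop :=
  TypeCat.Rel.ofPair (p₁.app U) (p₂.app U)

lemma relAt_map {U V : Cᵒᵖ} (k : U ⟶ V) {x y : X.obj U} (h : relAt p₁ p₂ U x y) :
    relAt p₁ p₂ V (X.map k x) (X.map k y) := by
  obtain ⟨r, rfl, rfl⟩ := h
  exact ⟨R.map k r, NatTrans.naturality_apply p₁ k r, NatTrans.naturality_apply p₂ k r⟩

/-- The quotient presheaf of a pair of maps. -/
def quotPsh : Cᵒᵖ ⥤ Type w where
  obj U := Quot (relAt p₁ p₂ U)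
  map {U V} k := ↾(Quot.map (fun x => X.map k x) fun _ _ h => relAt_map p₁ p₂ k h)
  map_id U := by
    ext x
    obtain ⟨x, rfl⟩ := Quot.exists_rep x
    simp [Quot.map]
  map_comp f g := by
    ext x
    obtain ⟨x, rfl⟩ := Quot.exists_rep x
    simp [Quot.map]

/-- The projection to the quotient presheaf. -/
def quotπ : X ⟶ quotPsh p₁ p₂ where
  app U := ↾(Quot.mk _)

instance epi_quotπ : Epi (quotπ p₁ p₂) :=
  have : ∀ U, Epi ((quotπ p₁ p₂).app U) := fun U => by
    rw [epi_iff_surjective]
    exact Quot.mk_surjective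
  NatTrans.epi_of_epi_app _

variable [IsEquivalenceRelation p₁ p₂]

lemma isKernelPair_quotπ : IsKernelPair (quotπ p₁ p₂) p₁ p₂ := by
  obtain ⟨e⟩ := IsEquivalenceRelation.nonempty_equivalenceRelation (p₁ := p₁) (p₂ := p₂)
  have := e.toReflexiveRelation.toJointlyMono₂
  refine IsPullback.of_forall_isPullback_app fun U => ?_
  have := jointlyMono₂_map p₁ p₂ ((evaluation Cᵒᵖ (Type w)).obj U)
  have heq : Equivalence (relAt p₁ p₂ U) :=
    ⟨(TypeCat.refl_of_reflexiveRelation (e.toReflexiveRelation.map ((evaluation _ _).obj U))).refl,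
      fun {x y} h => (TypeCat.symm_of_symmetricRelation
        (e.toSymmetricRelation.map ((evaluation _ _).obj U))).symm x y h,
      fun {x y z} h h' => (TypeCat.isTrans_of_transitiveRelation
        (e.toTransitiveRelation.map ((evaluation _ _).obj U))).trans x y z h h'⟩
  rw [Types.isPullback_iff]
  refine ⟨?_, fun a b ⟨ha, hb⟩ => ?_, fun x y hxy => ?_⟩
  · ext r
    exact Quot.sound ⟨r, rfl, rfl⟩
  · exact ConcreteCategory.congr_hom
      (this.right_cancellation (Y := PUnit) (↾fun _ => a) (↾fun _ => b)
        (by ext; exact ha) (by ext; exact hb)) PUnit.unit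
  · exact (heq.quot_mk_eq_iff x y).1 hxy

theorem isUniversallyEffective_presheaf : IsUniversallyEffectiveEquivalenceRelation p₁ p₂ :=
  isUniversallyEffective_of_kernelPair (quotπ p₁ p₂) (isKernelPair_quotπ p₁ p₂)

end Presheaf

section Sheaves

variable {C : Type u} [Category.{v} C] {J : GrothendieckTopology C} [HasSheafify J (Type w)]

lemma epi_of_isPullback {P A B S : Sheaf J (Type w)} {p : P ⟶ A} {q : P ⟶ B} {f : A ⟶ S}
    {g : B ⟶ S} (sq : IsPullback p q f g) [Epi g] : Epi p :=
  IsEpiFam.epi ((isEpiFam_of_epi g).of_isPullback f (fun _ : Unit => p) (fun _ => q) fun _ => sq)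

instance : (MorphismProperty.epimorphisms (Sheaf J (Type w))).IsStableUnderBaseChange where
  of_isPullback {_ _ _ _} b r t l sq hr :=
    have : Epi r := hr
    epi_of_isPullback sq.flip

variable {R X : Sheaf J (Type w)} (p₁ p₂ : R ⟶ X) [IsEquivalenceRelation p₁ p₂]

instance isEquivalenceRelation_hom : IsEquivalenceRelation p₁.hom p₂.hom := by
  obtain ⟨e⟩ := IsEquivalenceRelation.nonempty_equivalenceRelation (p₁ := p₁) (p₂ := p₂)
  have := e.toReflexiveRelation.toJointlyMono₂
  have : JointlyMono₂ ((sheafToPresheaf J (Type w)).map p₁) ((sheafToPresheaf J (Type w)).map p₂) :=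
    jointlyMono₂_map p₁ p₂ _
  exact ⟨⟨{ toReflexiveRelation := e.toReflexiveRelation.map (sheafToPresheaf J _)
            s := (e.toSymmetricRelation.map (sheafToPresheaf J _)).s
            symmetry₁ := (e.toSymmetricRelation.map (sheafToPresheaf J _)).symmetry₁
            symmetry₂ := (e.toSymmetricRelation.map (sheafToPresheaf J _)).symmetry₂
            c := (e.toTransitiveRelation.map (sheafToPresheaf J _)).c
            isLimit := (e.toTransitiveRelation.map (sheafToPresheaf J _)).isLimit
            t := (e.toTransitiveRelation.map (sheafToPresheaf J _)).t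
            transitivity₁ := (e.toTransitiveRelation.map (sheafToPresheaf J _)).transitivity₁
            transitivity₂ := (e.toTransitiveRelation.map (sheafToPresheaf J _)).transitivity₂ }⟩⟩

theorem isUniversallyEffective_sheaf : IsUniversallyEffectiveEquivalenceRelation p₁ p₂ := by
  let L := presheafToSheaf J (Type w)
  let c : ∀ Y : Sheaf J (Type w), L.obj Y.obj ≅ Y := fun Y =>
    asIso ((sheafificationAdjunction J (Type w)).counit.app Y)
  let q := L.map (quotπ p₁.hom p₂.hom)
  have hn : ∀ {Y Z : Sheaf J (Type w)} (f : Y ⟶ Z), L.map f.hom ≫ (c Z).hom = (c Y).hom ≫ f :=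
    fun f => (sheafificationAdjunction J (Type w)).counit.naturality f
  have : Epi q := inferInstanceAs (Epi (L.map _))
  exact isUniversallyEffective_of_kernelPair ((c X).inv ≫ q)
    (((isKernelPair_quotπ p₁.hom p₂.hom).map L).of_iso (c R) (c X) (c X) (Iso.refl _)
      (hn p₁) (hn p₂) (by simp [q]) (by simp [q]))

theorem effectiveEpi_universally {Y : Sheaf J (Type w)} (f : X ⟶ Y) [Epi f] :
    MorphismProperty.universally (fun (A B : Sheaf J (Type w)) (p : A ⟶ B) => EffectiveEpi p) f := by
  intro X' Y' i₁ i₂ f' sq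
  have := epi_of_isPullback sq
  have := IsRegularEpiCategory.regularEpiOfEpi f'
  infer_instance

end Sheaves

end Groth.Agent.Topos46
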