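import Mathlib.Algebra.Category.ModuleCat.Presheaf.Generator
import Mathlib.Algebra.Category.ModuleCat.Presheaf.Colimits
import Mathlib.Algebra.Category.ModuleCat.Presheaf.Limits
import Mathlib.CategoryTheory.Abelian.GrothendieckCategory.EnoughInjectives
import Mathlib.CategoryTheory.Abelian.GrothendieckAxioms.FunctorCategory
import Mathlib.Algebra.Category.Grp.AB
import Mathlib.CategoryTheory.Functor.ReflectsIso.Balanced

/-!
The category of presheaves of modules over a small category is a Grothendieck abelian category.
-/

universe u

open CategoryTheory Limits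

namespace Groth.Agent.Topos46

theorem isGrothendieckAbelian_presheafOfModules {C : Type u} [SmallCategory C]
    (O : Cᵒᵖ ⥤ RingCat.{u}) : IsGrothendieckAbelian.{u} (PresheafOfModules.{u} O) where
  ab5OfSize := ⟨fun K _ _ =>
    have : ReflectsFiniteLimits (PresheafOfModules.toPresheaf.{u} O) := ⟨fun J _ _ =>
      reflectsLimitsOfShape_of_reflectsIsomorphisms⟩
    HasExactColimitsOfShape.domain_of_functor K (PresheafOfModules.toPresheaf.{u} O)⟩
  hasSeparator := ⟨⟨∐ (fun X : C => (PresheafOfModules.free O).obj (yoneda.obj X)),
    (isSeparator_iff_of_isColimit_cofan (coproductIsCoproduct _)).2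
      (PresheafOfModules.freeYoneda.isSeparating O)⟩⟩

theorem enoughInjectives_presheafOfModules {C : Type u} [SmallCategory C]
    (O : Cᵒᵖ ⥤ RingCat.{u}) : EnoughInjectives (PresheafOfModules.{u} O) :=
  have := isGrothendieckAbelian_presheafOfModules O
  inferInstance

end Groth.Agent.Topos46
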