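import Mathlib.CategoryTheory.Limits.Indization.IndObject
import Mathlib.CategoryTheory.Limits.Indization.FilteredColimits
import Mathlib.CategoryTheory.Functor.KanExtension.Adjunction
import Mathlib.CategoryTheory.Limits.Types.Colimits
import Mathlib.CategoryTheory.Adjunction.FullyFaithful
import Mathlib.CategoryTheory.Limits.Preserves.FunctorCategory

/-!
When is the functor induced on ind-objects an equivalence?
-/

universe u

open CategoryTheory CategoryTheory.Limits Opposite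

namespace Groth.Agent.Topos46

variable {C : Type u} [SmallCategory C] {C' : Type u} [SmallCategory C'] (u₀ : C ⥤ C')

/-- `u_!` on presheaves of sets. -/
noncomputable abbrev lanF : (Cᵒᵖ ⥤ Type u) ⥤ (C'ᵒᵖ ⥤ Type u) := u₀.op.lan

/-- The adjunction `u_! ⊣ u^*`. -/
noncomputable abbrev lanAdj :
    lanF u₀ ⊣ (Functor.whiskeringLeft Cᵒᵖ C'ᵒᵖ (Type u)).obj u₀.op :=
  u₀.op.lanAdjunction (Type u)

/-- `u_!` sends a representable to a representable. -/
noncomputable def lanYoneda (X : C) : (lanF u₀).obj (yoneda.obj X) ≅ yoneda.obj (u₀.obj X) where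
  hom := ((lanAdj u₀).homEquiv _ _).symm (yonedaMap u₀ X)
  inv := yonedaEquiv.symm (((lanAdj u₀).unit.app (yoneda.obj X)).app (op X)
    (show (yoneda.obj X).obj (op X) from 𝟙 X))
  hom_inv_id := by
    apply ((lanAdj u₀).homEquiv _ _).injective
    apply yonedaEquiv.injective
    rw [Adjunction.homEquiv_naturality_right, Equiv.apply_symm_apply, yonedaEquiv_comp,
      Adjunction.homEquiv_id]
    simp [yonedaEquiv, yonedaMap]
  inv_hom_id := by
    apply yonedaEquiv.injective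
    rw [yonedaEquiv_comp, Equiv.apply_symm_apply]
    have h := ((lanAdj u₀).homEquiv (yoneda.obj X) (yoneda.obj (u₀.obj X))).apply_symm_apply (yonedaMap u₀ X)
    rw [Adjunction.homEquiv_unit] at h
    refine (ConcreteCategory.congr_hom (congr_app h (op X))
      (show (yoneda.obj X).obj (op X) from 𝟙 X)).trans ?_
    simp [yonedaEquiv, yonedaMap]

lemma lanYoneda_natural {X Y : C} (f : X ⟶ Y) :
    (lanF u₀).map (yoneda.map f) ≫ (lanYoneda u₀ Y).hom =
      (lanYoneda u₀ X).hom ≫ yoneda.map (u₀.map f) := by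
  simp only [lanYoneda]
  rw [← Adjunction.homEquiv_naturality_left_symm, ← Adjunction.homEquiv_naturality_right_symm]
  congr 1
  apply yonedaEquiv.injective
  simp [yonedaEquiv, yonedaMap]

lemma bijective_map_of_bijective_lan
    (h : ∀ (F G : Cᵒᵖ ⥤ Type u), IsIndObject F → IsIndObject G →
      Function.Bijective (fun φ : F ⟶ G => (lanF u₀).map φ)) (X Y : C) :
    Function.Bijective (fun f : X ⟶ Y => u₀.map f) := by
  have e : (fun f : X ⟶ Y => u₀.map f) =
      (Yoneda.fullyFaithful.homEquiv (X := u₀.obj X) (Y := u₀.obj Y)).symm ∘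
        (Iso.homCongr (lanYoneda u₀ X) (lanYoneda u₀ Y)) ∘
          (fun φ => (lanF u₀).map φ) ∘ (Yoneda.fullyFaithful.homEquiv (X := X) (Y := Y)) := by
    funext f
    apply (Yoneda.fullyFaithful.homEquiv (X := u₀.obj X) (Y := u₀.obj Y)).injective
    simp only [Function.comp_apply, Equiv.apply_symm_apply, Iso.homCongr_apply]
    rw [show (Yoneda.fullyFaithful.homEquiv f) = yoneda.map f from rfl, lanYoneda_natural,
      Iso.inv_hom_id_assoc]
    rfl
  rw [e]
  exact (Equiv.bijective _).comp ((Equiv.bijective _).comp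
    ((h _ _ (isIndObject_yoneda X) (isIndObject_yoneda Y)).comp (Equiv.bijective _)))

lemma exists_retract (hsurj : ∀ G' : C'ᵒᵖ ⥤ Type u, IsIndObject G' →
      ∃ F : Cᵒᵖ ⥤ Type u, IsIndObject F ∧ Nonempty ((lanF u₀).obj F ≅ G')) (X' : C') :
    ∃ (X : C) (i : X' ⟶ u₀.obj X) (r : u₀.obj X ⟶ X'), i ≫ r = 𝟙 X' := by
  obtain ⟨F, hF, ⟨e⟩⟩ := hsurj _ (isIndObject_yoneda X')
  obtain ⟨P⟩ := hF.nonempty_presentation
  have := (lanAdj u₀).leftAdjoint_preservesColimits
  have hc := isColimitOfPreserves ((lanF u₀) ⋙ (evaluation C'ᵒᵖ (Type u)).obj (op X')) P.coconeIsColimit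
  obtain ⟨i, a, ha⟩ := Types.jointly_surjective _ hc
    (e.inv.app (op X') (show (yoneda.obj X').obj (op X') from 𝟙 X'))
  refine ⟨P.F.obj i, (lanYoneda u₀ (P.F.obj i)).hom.app (op X') a,
    yonedaEquiv ((lanYoneda u₀ (P.F.obj i)).inv ≫ (lanF u₀).map (P.cocone.ι.app i) ≫ e.hom), ?_⟩
  let ψ := (lanYoneda u₀ (P.F.obj i)).inv ≫ (lanF u₀).map (P.cocone.ι.app i) ≫ e.hom
  let j := (lanYoneda u₀ (P.F.obj i)).hom.app (op X') a
  have h₁ : j ≫ yonedaEquiv ψ = ψ.app (op X') j :=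
    ((congrArg (yonedaEquiv (X := u₀.obj (P.F.obj i)) (F := yoneda.obj X')) rfl).trans
      rfl).symm ▸ (yonedaEquiv_naturality ψ j).trans (by simp [yonedaEquiv])
  refine h₁.trans ?_
  simp only [ψ, j, NatTrans.comp_app, comp_apply]
  rw [Iso.hom_inv_id_app_apply]
  refine (congrArg _ ha).trans ?_
  exact ConcreteCategory.congr_hom (congr_app e.inv_hom_id (op X')) _

lemma isIso_counit_of_retract {G A : C'ᵒᵖ ⥤ Type u} (i : G ⟶ A) (r : A ⟶ G) (h : i ≫ r = 𝟙 G)
    [IsIso ((lanAdj u₀).counit.app A)] : IsIso ((lanAdj u₀).counit.app G) := by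
  refine ⟨i ≫ inv ((lanAdj u₀).counit.app A) ≫ (lanF u₀).map (((Functor.whiskeringLeft Cᵒᵖ C'ᵒᵖ (Type u)).obj
    u₀.op).map r), ?_, ?_⟩
  · rw [← Category.assoc, ← (lanAdj u₀).counit_naturality i, Category.assoc, IsIso.hom_inv_id_assoc,
      ← Functor.map_comp, ← Functor.map_comp, h, CategoryTheory.Functor.map_id,
      CategoryTheory.Functor.map_id]
    rfl
  · rw [Category.assoc, Category.assoc, (lanAdj u₀).counit_naturality r, IsIso.inv_hom_id_assoc, h]
    rfl

section FF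

variable [u₀.Full] [u₀.Faithful]

lemma isIso_lan_unit : IsIso (lanAdj u₀).unit := inferInstanceAs (IsIso (u₀.op.lanAdjunction (Type u)).unit)

lemma isIso_counit_yoneda_obj (X : C) : IsIso ((lanAdj u₀).counit.app (yoneda.obj (u₀.obj X))) := by
  have := (lanAdj u₀).fullyFaithfulLOfIsIsoUnit.full
  have := (lanAdj u₀).fullyFaithfulLOfIsIsoUnit.faithful
  exact ((lanAdj u₀).isIso_counit_app_iff_mem_essImage).2 ⟨yoneda.obj X, ⟨lanYoneda u₀ X⟩⟩

variable (hr : ∀ X' : C', ∃ (X : C) (i : X' ⟶ u₀.obj X) (r : u₀.obj X ⟶ X'), i ≫ r = 𝟙 X')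

include hr

lemma isIso_counit_yoneda (X' : C') : IsIso ((lanAdj u₀).counit.app (yoneda.obj X')) := by
  obtain ⟨X, i, r, h⟩ := hr X'
  have := isIso_counit_yoneda_obj u₀ X
  exact isIso_counit_of_retract u₀ (yoneda.map i) (yoneda.map r)
    (by rw [← Functor.map_comp, h, CategoryTheory.Functor.map_id])

lemma isIndObject_restrict_yoneda (X' : C') : IsIndObject (u₀.op ⋙ yoneda.obj X') := by
  obtain ⟨X, i, r, h⟩ := hr X'
  let ρ : CostructuredArrow yoneda (u₀.op ⋙ yoneda.obj X') :=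
    CostructuredArrow.mk (Y := X) (yonedaEquiv.symm r)
  have sp : ∀ Z : CostructuredArrow yoneda (u₀.op ⋙ yoneda.obj X'), ∃ _ : Z ⟶ ρ, True := by
    intro Z
    refine ⟨CostructuredArrow.homMk (u₀.preimage (yonedaEquiv Z.hom ≫ i)) ?_, trivial⟩
    apply yonedaEquiv.injective
    simp [ρ, yonedaEquiv, h]
  have key : ∀ (Z : CostructuredArrow yoneda (u₀.op ⋙ yoneda.obj X')) (f : Z ⟶ ρ),
      u₀.map f.left ≫ r = yonedaEquiv Z.hom := by
    intro Z f
    have := congrArg yonedaEquiv (CostructuredArrow.w f)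
    simpa [ρ, yonedaEquiv] using this
  let e : ρ ⟶ ρ := CostructuredArrow.homMk (u₀.preimage (r ≫ i)) (by
    apply yonedaEquiv.injective
    simp [ρ, yonedaEquiv, h])
  have he : ∀ (Z : CostructuredArrow yoneda (u₀.op ⋙ yoneda.obj X')) (f g : Z ⟶ ρ),
      f ≫ e = g ≫ e := by
    intro Z f g
    ext
    apply u₀.map_injective
    simp [e, reassoc_of% key Z f, reassoc_of% key Z g]
  have : IsFiltered (CostructuredArrow yoneda (u₀.op ⋙ yoneda.obj X')) :=
    { cocone_objs := fun Z W => ⟨ρ, (sp Z).choose, (sp W).choose, trivial⟩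
      cocone_maps := fun Z W f g => ⟨ρ, (sp W).choose ≫ e, by
        simpa using he Z (f ≫ (sp W).choose) (g ≫ (sp W).choose)⟩
      nonempty := ⟨ρ⟩ }
  have : FinallySmall.{u} (CostructuredArrow yoneda (u₀.op ⋙ yoneda.obj X')) :=
    FinallySmall.mk' (𝟭 _)
  exact isIndObject_of_isFiltered_of_finallySmall _

lemma exists_preimage (G' : C'ᵒᵖ ⥤ Type u) (hG' : IsIndObject G') :
    ∃ F : Cᵒᵖ ⥤ Type u, IsIndObject F ∧ Nonempty ((lanF u₀).obj F ≅ G') := by
  obtain ⟨P⟩ := hG'.nonempty_presentation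
  let R := (Functor.whiskeringLeft Cᵒᵖ C'ᵒᵖ (Type u)).obj u₀.op
  have := (lanAdj u₀).leftAdjoint_preservesColimits
  have hR : IsColimit (R.mapCocone P.cocone) := isColimitOfPreserves R P.coconeIsColimit
  have hLR : IsColimit ((R ⋙ (lanF u₀)).mapCocone P.cocone) :=
    isColimitOfPreserves (lanF u₀) hR
  have hid : IsColimit ((𝟭 _).mapCocone P.cocone) := P.coconeIsColimit
  have := fun i => isIso_counit_yoneda u₀ hr (P.F.obj i)
  let w : (P.F ⋙ yoneda) ⋙ R ⋙ (lanF u₀) ≅ (P.F ⋙ yoneda) ⋙ 𝟭 _ :=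
    NatIso.ofComponents (fun i => asIso ((lanAdj u₀).counit.app (yoneda.obj (P.F.obj i))))
      fun f => (lanAdj u₀).counit.naturality (yoneda.map (P.F.map f))
  refine ⟨R.obj G', ?_, ⟨hLR.coconePointsIsoOfNatIso hid w⟩⟩
  have := isIndObject_colimit P.I ((P.F ⋙ yoneda) ⋙ R)
    fun i => isIndObject_restrict_yoneda u₀ hr (P.F.obj i)
  exact this.map ((colimit.isColimit _).coconePointUniqueUpToIso hR).hom

end FF

theorem ind_equiv_iff :
    ((∀ (F G : Cᵒᵖ ⥤ Type u), IsIndObject F → IsIndObject G →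
        Function.Bijective (fun φ : F ⟶ G => (lanF u₀).map φ)) ∧
      (∀ G' : C'ᵒᵖ ⥤ Type u, IsIndObject G' →
        ∃ F : Cᵒᵖ ⥤ Type u, IsIndObject F ∧ Nonempty ((lanF u₀).obj F ≅ G'))) ↔
    ((u₀.Full ∧ u₀.Faithful) ∧
      ∀ X' : C', ∃ (X : C) (i : X' ⟶ u₀.obj X) (r : u₀.obj X ⟶ X'), i ≫ r = 𝟙 X') := by
  constructor
  · rintro ⟨hb, hs⟩
    exact ⟨⟨⟨(bijective_map_of_bijective_lan u₀ hb _ _).2⟩,
      ⟨fun {X Y} => (bijective_map_of_bijective_lan u₀ hb X Y).1⟩⟩, exists_retract u₀ hs⟩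
  · rintro ⟨⟨_, _⟩, hr⟩
    exact ⟨fun F G _ _ => (lanAdj u₀).fullyFaithfulLOfIsIsoUnit.map_bijective F G,
      exists_preimage u₀ hr⟩

end Groth.Agent.Topos46
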