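import Mathlib.Topology.Sheaves.Functors
import Mathlib.Topology.Sheaves.Stalks
import Mathlib.Topology.Sheaves.SheafCondition.UniqueGluing
import Mathlib.CategoryTheory.Adjunction.FullyFaithful

/-!
Push-forward of sheaves of sets along inducing maps and closed embeddings.
-/

universe u

open CategoryTheory CategoryTheory.Limits Opposite TopologicalSpace TopCat

namespace Groth.Agent.Topos46

variable {Z X : TopCat.{u}} {i : Z ⟶ X}

section Inducing

variable (hi : Topology.IsInducing i)

/-- The preimage of a morphism between push-forwards along an inducing map. -/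
noncomputable def pushPreimage {F G : Z.Sheaf (Type u)}
    (φ : (Sheaf.pushforward (Type u) i).obj F ⟶ (Sheaf.pushforward (Type u) i).obj G) : F ⟶ G :=
  ⟨{ app := fun U => F.1.map (eqToHom (hi.map_functorObj U.unop)).op ≫
        φ.1.app (op (hi.functorObj U.unop)) ≫ G.1.map (eqToHom (hi.map_functorObj U.unop).symm).op
     naturality := fun U U' k => by
      have h : F.1.map ((Opens.map i).map (hi.functor.map k.unop)).op ≫
          φ.1.app (op (hi.functorObj U'.unop)) = φ.1.app (op (hi.functorObj U.unop)) ≫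
            G.1.map ((Opens.map i).map (hi.functor.map k.unop)).op :=
        φ.1.naturality (hi.functor.map k.unop).op
      have e₁ : F.1.map k ≫ F.1.map (eqToHom (hi.map_functorObj U'.unop)).op =
          F.1.map (eqToHom (hi.map_functorObj U.unop)).op ≫
            F.1.map ((Opens.map i).map (hi.functor.map k.unop)).op :=
        (F.1.map_comp _ _).symm.trans ((congrArg F.1.map (Subsingleton.elim _ _)).trans
          (F.1.map_comp _ _))
      have e₂ : G.1.map ((Opens.map i).map (hi.functor.map k.unop)).op ≫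
            G.1.map (eqToHom (hi.map_functorObj U'.unop).symm).op =
          G.1.map (eqToHom (hi.map_functorObj U.unop).symm).op ≫ G.1.map k :=
        (G.1.map_comp _ _).symm.trans ((congrArg G.1.map (Subsingleton.elim _ _)).trans
          (G.1.map_comp _ _))
      exact (reassoc_of% e₁) _ |>.trans <| (congrArg (_ ≫ ·) ((reassoc_of% h) _)).trans <|
        (congrArg (fun q => _ ≫ _ ≫ q) e₂).trans rfl }⟩

/-- Push-forward along an inducing map is fully faithful. -/
noncomputable def pushFullyFaithful : (Sheaf.pushforward (Type u) i).FullyFaithful where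
  preimage := pushPreimage hi
  map_preimage {F G} φ := by
    refine ObjectProperty.hom_ext _ (NatTrans.ext (funext fun V => ?_))
    obtain ⟨V⟩ := V
    have hV : hi.functorObj ((Opens.map i).obj V) ≥ V := hi.le_functorObj_iff.2 le_rfl
    have h : F.1.map ((Opens.map i).map (homOfLE hV)).op ≫ φ.1.app (op V) =
        φ.1.app (op (hi.functorObj ((Opens.map i).obj V))) ≫
          G.1.map ((Opens.map i).map (homOfLE hV)).op :=
      φ.1.naturality (homOfLE hV).op
    change F.1.map (eqToHom (hi.map_functorObj _)).op ≫ _ ≫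
      G.1.map (eqToHom (hi.map_functorObj _).symm).op = φ.1.app (op V)
    refine (congrArg (F.1.map _ ≫ ·)
      ((congrArg (φ.1.app (op (hi.functorObj ((Opens.map i).obj V))) ≫ G.1.map ·)
        (Subsingleton.elim _ ((Opens.map i).map (homOfLE hV)).op)).trans h.symm)).trans ?_
    exact (Category.assoc _ _ _).symm.trans ((congrArg (· ≫ _) ((F.1.map_comp _ _).symm.trans
      ((congrArg F.1.map (Subsingleton.elim _ (𝟙 _))).trans (F.1.map_id _)))).trans
        (Category.id_comp _))
  preimage_map {F G} ψ := by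
    refine ObjectProperty.hom_ext _ (NatTrans.ext (funext fun U => ?_))
    obtain ⟨U⟩ := U
    change F.1.map (eqToHom (hi.map_functorObj _)).op ≫
      ψ.1.app (op ((Opens.map i).obj (hi.functorObj U))) ≫
        G.1.map (eqToHom (hi.map_functorObj _).symm).op = ψ.1.app (op U)
    rw [← ψ.1.naturality, ← Functor.map_comp_assoc, ← op_comp, eqToHom_trans, eqToHom_refl,
      op_id, F.1.map_id]
    exact Category.id_comp _

include hi in
lemma isIso_counit_app (F : Z.Sheaf (Type u)) :
    IsIso ((Sheaf.pullbackPushforwardAdjunction (Type u) i).counit.app F) :=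
  have := (pushFullyFaithful hi).full
  have := (pushFullyFaithful hi).faithful
  inferInstance

end Inducing

section Outside

/-- A sheaf whose stalks are singletons outside a subset. -/
def SingletonOutside (G : X.Sheaf (Type u)) (s : Set X) : Prop :=
  ∀ x : X, x ∉ s → Nonempty (Unique (G.presheaf.stalk x))

variable {G : X.Sheaf (Type u)} {s : Set X} (hG : SingletonOutside G s)

include hG

lemma subsingleton_sections {A : Opens X} (hA : ∀ x ∈ A, x ∉ s)
    (a b : G.1.obj (op A)) : a = b :=
  Presheaf.section_ext G A a b fun x hx => by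
    obtain ⟨h⟩ := hG x (hA x hx)
    exact Subsingleton.elim _ _

lemma nonempty_sections {A : Opens X} (hA : ∀ x ∈ A, x ∉ s) : Nonempty (G.1.obj (op A)) := by
  have h : ∀ x : A, ∃ (U : Opens X) (_ : (x : X) ∈ U), U ≤ A ∧ Nonempty (G.1.obj (op U)) := by
    intro x
    obtain ⟨hu⟩ := hG x (hA x x.2)
    obtain ⟨U, hU, t, -⟩ := Presheaf.exists_germ_eq G.1 (x := (x : X)) hu.default
    exact ⟨U ⊓ A, ⟨hU, x.2⟩, inf_le_right, ⟨G.1.map (homOfLE inf_le_left).op t⟩⟩
  choose U hxU hUA hsec using h
  refine ⟨(G.existsUnique_gluing' U A (fun x => homOfLE (hUA x))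
    (fun x hx => Opens.mem_iSup.2 ⟨⟨x, hx⟩, hxU ⟨x, hx⟩⟩) (fun x => (hsec x).some)
    (fun x y => ?_)).choose⟩
  exact subsingleton_sections hG (A := U x ⊓ U y) (fun z hz => hA z (hUA x hz.1)) _ _

lemma bijective_res {V V' : Opens X} (h : V ≤ V') (h' : ∀ x ∈ V', x ∈ V ∨ x ∉ s)
    (hs : IsClosed s) : Function.Bijective (G.1.map (homOfLE h).op) := by
  constructor
  · intro a b hab
    refine Presheaf.section_ext G V' a b fun x hx => ?_
    rcases h' x hx with hV | hV
    · have := congrArg (Presheaf.germ G.1 V x hV) hab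
      rwa [Presheaf.germ_res_apply, Presheaf.germ_res_apply] at this
    · obtain ⟨hu⟩ := hG x hV
      exact Subsingleton.elim _ _
  · intro a
    let A : Opens X := V' ⊓ ⟨sᶜ, hs.isOpen_compl⟩
    obtain ⟨b⟩ := nonempty_sections hG (A := A) fun x hx => hx.2
    let U : ULift.{u} Bool → Opens X := fun j => cond j.down V A
    let sf : ∀ j, G.1.obj (op (U j)) := fun
      | ⟨true⟩ => a
      | ⟨false⟩ => b
    obtain ⟨t, ht, -⟩ := G.existsUnique_gluing' U V' (fun j => homOfLE (by
        obtain ⟨_ | _⟩ := j
        exacts [inf_le_left, h]))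
      (fun x hx => Opens.mem_iSup.2 (by
        rcases h' x hx with hV | hV
        exacts [⟨⟨true⟩, hV⟩, ⟨⟨false⟩, hx, hV⟩]))
      sf (fun j k => by
        obtain ⟨_ | _⟩ := j <;> obtain ⟨_ | _⟩ := k
        · rfl
        · exact subsingleton_sections hG (A := A ⊓ V) (fun x hx => hx.1.2) _ _
        · exact subsingleton_sections hG (A := V ⊓ A) (fun x hx => hx.2.2) _ _
        · rfl)
    exact ⟨t, ht ⟨true⟩⟩

end Outside

section Closed

lemma singletonOutside_pushforward (hi : Topology.IsClosedEmbedding i) (F : Z.Sheaf (Type u)) :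
    SingletonOutside ((Sheaf.pushforward (Type u) i).obj F) (Set.range i) := by
  intro x hx
  let P := ((Sheaf.pushforward (Type u) i).obj F)
  have key : ∀ {A : Opens X}, (∀ y ∈ A, y ∉ Set.range i) →
      Subsingleton (P.1.obj (op A)) ∧ Nonempty (P.1.obj (op A)) := by
    intro A hA
    have hbot : (Opens.map i).obj A = ⊥ := by
      ext z
      simpa using fun hz => hA (i z) hz ⟨z, rfl⟩
    have hF := Sheaf.isTerminalOfEmpty F
    rw [← hbot] at hF
    change Subsingleton (F.1.obj (op ((Opens.map i).obj A))) ∧ Nonempty _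
    exact ⟨((Types.isTerminalEquivUnique _) hF).instSubsingleton,
      ⟨((Types.isTerminalEquivUnique _) hF).default⟩⟩
  let O : Opens X := ⟨(Set.range i)ᶜ, hi.isClosed_range.isOpen_compl⟩
  obtain ⟨hsub, ⟨o⟩⟩ := key (A := O) fun y hy => hy
  refine ⟨{ default := P.presheaf.germ O x hx o, uniq := fun t => ?_ }⟩
  obtain ⟨U, hU, a, rfl⟩ := Presheaf.exists_germ_eq P.1 (x := x) t
  refine Presheaf.germ_ext P.1 (U ⊓ O) ⟨hU, hx⟩ (homOfLE inf_le_left) (homOfLE inf_le_right) ?_
  exact (key (A := U ⊓ O) fun y hy => hy.2).1.elim _ _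

variable (hi : Topology.IsClosedEmbedding i) {G : X.Sheaf (Type u)}
  (hG : SingletonOutside G (Set.range i))

lemma mem_functorObj {U : Opens Z} {z : Z} :
    i z ∈ hi.isInducing.functorObj U ↔ z ∈ U := by
  conv_rhs => rw [← hi.isInducing.map_functorObj U]
  rfl

include hG

lemma isSheaf_extend : Presheaf.IsSheaf (X := Z) (hi.isInducing.functor.op ⋙ G.1) := by
  rw [Presheaf.isSheaf_iff_isSheafUniqueGluing]
  intro ι U sf hsf
  let e := hi.isInducing.functorObj
  have hA : ∀ j, e (U j) ≤ ⨆ k, e (U k) := fun j => le_iSup (fun k => e (U k)) j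
  have hcompat : Presheaf.IsCompatible G.1 (fun j => e (U j)) sf := by
    intro j k
    have hle : e (U j) ⊓ e (U k) ≤ e (U j ⊓ U k) :=
      hi.isInducing.le_functorObj_iff.2 (le_inf
        (fun z hz => (mem_functorObj hi).1 hz.1) fun z hz => (mem_functorObj hi).1 hz.2)
    have := congrArg (G.1.map (homOfLE hle).op) (hsf j k)
    refine Eq.trans ?_ (this.trans ?_) <;>
      (change _ = _; erw [← Functor.map_comp_apply]; congr 2)
  obtain ⟨t, ht, hut⟩ := G.existsUnique_gluing (fun j => e (U j)) sf hcompat
  have hle : ⨆ j, e (U j) ≤ e (iSup U) :=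
    iSup_le fun j => hi.isInducing.functor.map (homOfLE (le_iSup U j)) |>.le
  have hbij := bijective_res hG hle (fun x hx => by
    by_cases hr : x ∈ Set.range i
    · obtain ⟨z, rfl⟩ := hr
      obtain ⟨j, hj⟩ := Opens.mem_iSup.1 ((mem_functorObj hi).1 hx)
      exact Or.inl (Opens.mem_iSup.2 ⟨j, (mem_functorObj hi).2 hj⟩)
    · exact Or.inr hr) hi.isClosed_range
  have key : ∀ (a : G.1.obj (op (e (iSup U)))) j,
      G.1.map (hi.isInducing.functor.map (Opens.leSupr U j)).op a =
        G.1.map (Opens.leSupr (fun k => e (U k)) j).op (G.1.map (homOfLE hle).op a) :=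
    fun a j => by
      rw [← Functor.map_comp_apply]
      congr 2
  obtain ⟨a, ha⟩ := hbij.2 t
  refine ⟨a, fun j => ?_, fun b hb => hbij.1 ?_⟩
  · refine (key a j).trans ?_
    rw [ha]
    exact ht j
  · rw [ha]
    exact hut _ fun j => (key b j).symm.trans (hb j)

include hi in
lemma essImage_of_singletonOutside : (Sheaf.pushforward (Type u) i).essImage G := by
  let H : Z.Sheaf (Type u) := ⟨hi.isInducing.functor.op ⋙ G.1, isSheaf_extend hi hG⟩
  let η : ((Sheaf.pushforward (Type u) i).obj H).1 ⟶ G.1 :=
    { app := fun V => G.1.map (homOfLE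
        (hi.isInducing.le_functorObj_iff.2 le_rfl :
          V.unop ≤ hi.isInducing.functorObj ((Opens.map i).obj V.unop))).op
      naturality := fun V V' k => by
        change G.1.map _ ≫ G.1.map _ = G.1.map _ ≫ G.1.map _
        rw [← G.1.map_comp, ← G.1.map_comp]
        congr 1 }
  have : ∀ V, IsIso (η.app V) := fun V => (isIso_iff_bijective _).2
    (bijective_res hG _ (fun x hx => by
      by_cases hr : x ∈ Set.range i
      · obtain ⟨z, rfl⟩ := hr
        exact Or.inl ((mem_functorObj hi).1 hx)
      · exact Or.inr hr) hi.isClosed_range)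
  have : IsIso η := NatIso.isIso_of_isIso_app η
  exact ⟨H, ⟨(Sheaf.forget (Type u) X).preimageIso (@asIso _ _ _ _ η this)⟩⟩

omit hG in
include hi in
lemma essImage_iff : (Sheaf.pushforward (Type u) i).essImage G ↔
    SingletonOutside G (Set.range i) := by
  refine ⟨fun ⟨F, ⟨e⟩⟩ x hx => ?_, fun h => essImage_of_singletonOutside hi h⟩
  obtain ⟨hu⟩ := singletonOutside_pushforward hi F x hx
  exact ⟨@Equiv.unique _ _ hu (((Presheaf.stalkFunctor (Type u) x).mapIso
    ((Sheaf.forget (Type u) X).mapIso e)).toEquiv.symm)⟩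

end Closed

end Groth.Agent.Topos46
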