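import Groth.Agent.Topos46.Basis
import Mathlib.Topology.Sheaves.Functors
import Mathlib.Topology.Sheaves.SheafCondition.Sites
import Mathlib.Topology.Sheaves.SheafCondition.UniqueGluing

/-!
Extension of sheaves and morphisms from a basis to all opens.
-/

universe u

open CategoryTheory TopologicalSpace Opposite TopCat

namespace Groth.Agent.Topos46

section Extend

variable {X : Type u} [TopologicalSpace X] {B : Set (Opens X)}

/-- Compatible families of sections over the members below an open. -/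
def extSections (F : ShB.Pre B) (W : Opens X) : Type u :=
  {s : ∀ M : B, (M : Opens X) ≤ W → F.obj M //
    ∀ (M N : B) (hM : (M : Opens X) ≤ W) (hN : (N : Opens X) ≤ M),
      F.res hN (s M hM) = s N (hN.trans hM)}

/-- The extension of a presheaf on a basis. -/
def extPsh (F : ShB.Pre B) : TopCat.Presheaf (Type u) (TopCat.of X) where
  obj W := extSections F W.unop
  map {W W'} k := ↾fun s => ⟨fun M h => s.1 M (h.trans k.unop.le),
    fun M N hM hN => s.2 M N (hM.trans k.unop.le) hN⟩
  map_id W := rfl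
  map_comp f g := rfl

lemma extPsh_ext {F : ShB.Pre B} {W : Opens X} {a b : (extPsh F).obj (op W)}
    (h : ∀ M hM, a.1 M hM = b.1 M hM) : a = b :=
  Subtype.ext (funext fun M => funext fun hM => h M hM)

theorem isSheaf_extPsh (hB : Opens.IsBasis B) {F : ShB.Pre B} (hF : ShB.IsSheaf F) :
    (extPsh F).IsSheaf := by
  rw [Presheaf.isSheaf_iff_isSheafUniqueGluing]
  intro ι U sf hsf
  have agree : ∀ (i j : ι) (P : B) (hi : (P : Opens X) ≤ U i) (hj : (P : Opens X) ≤ U j),
      (sf i).1 P hi = (sf j).1 P hj := fun i j P hi hj =>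
    congrArg (fun q : extSections F (U i ⊓ U j) => q.1 P (le_inf hi hj)) (hsf i j)
  have key : ∀ (M : B), (M : Opens X) ≤ iSup U → ∃! t : F.obj M,
      ∀ (i : ι) (N : B) (hN : (N : Opens X) ≤ M) (hi : (N : Opens X) ≤ U i),
        F.res hN t = (sf i).1 N hi := by
    intro M hM
    let T := {p : ι × B // (p.2 : Opens X) ≤ M ∧ (p.2 : Opens X) ≤ U p.1}
    obtain ⟨t, ht, hu⟩ := IsSheaf.glue hB hF M (fun p : T => p.1.2) (fun p => p.2.1)
      (fun x hx => by
        obtain ⟨i, hi⟩ := Opens.mem_iSup.1 (hM hx)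
        obtain ⟨N, hxN, hN⟩ := exists_member hB (W := (M : Opens X) ⊓ U i) ⟨hx, hi⟩
        exact Opens.mem_iSup.2 ⟨⟨(i, N), hN.trans inf_le_left, hN.trans inf_le_right⟩, hxN⟩)
      (fun p => (sf p.1.1).1 p.1.2 p.2.2) fun p q P hp hq => by
        rw [(sf p.1.1).2, (sf q.1.1).2]
        exact agree _ _ P _ _
    exact ⟨t, fun i N hN hi => ht ⟨(i, N), hN, hi⟩,
      fun t' ht' => hu t' fun p => ht' p.1.1 p.1.2 p.2.1 p.2.2⟩
  choose t ht hu using key
  let s : extSections F (iSup U) := ⟨t, fun M M' hM hM' => hu M' _ _ fun i N hN hi => by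
    rw [F.res_comp]
    exact ht M hM i N _ hi⟩
  refine ⟨s, fun i => extPsh_ext fun M hM => ?_, fun s' hs' => extPsh_ext fun M hM => ?_⟩
  · change t M (hM.trans (le_iSup U i)) = (sf i).1 M hM
    have := ht M (hM.trans (le_iSup U i)) i M le_rfl hM
    rwa [F.res_id] at this
  · refine hu M hM _ fun i N hN hi => ?_
    rw [s'.2 M N hM hN]
    exact congrArg (fun q : extSections F (U i) => q.1 N hi) (hs' i)

/-- The comparison with the original presheaf on the basis. -/
def extIso (F : ShB.Pre B) : ShB.Iso (ShB.restrict B (extPsh F)) F where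
  hom := { app := fun U s => s.1 U le_rfl
           natural := fun {U V} h s => s.2 U V le_rfl h }
  inv := { app := fun U t => ⟨fun M h => F.res h t, fun M N hM hN => F.res_comp hM hN t⟩
           natural := fun {U V} h s => extPsh_ext fun M hM => (F.res_comp h hM s).symm }
  hom_inv U s := extPsh_ext fun M hM => s.2 U M le_rfl hM
  inv_hom U t := F.res_id U t

theorem existsUnique_hom (hB : Opens.IsBasis B) {F : ShB.Pre B}
    (G G' : TopCat.Sheaf (Type u) (TopCat.of X)) (e : ShB.Iso (ShB.restrict B G.presheaf) F)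
    (e' : ShB.Iso (ShB.restrict B G'.presheaf) F) :
    ∃! φ : G ⟶ G', ∀ (U : B) (s : G.presheaf.obj (op (U : Opens X))),
      e'.hom.app U (φ.1.app (op (U : Opens X)) s) = e.hom.app U s := by
  have hb : Opens.IsBasis (Set.range (Subtype.val : B → Opens (TopCat.of X))) := by
    rw [Subtype.range_val]; exact hB
  let α : (inducedFunctor (Subtype.val : B → Opens (TopCat.of X))).op ⋙ G.1 ⟶
      (inducedFunctor (Subtype.val : B → Opens (TopCat.of X))).op ⋙ G'.1 :=
    { app := fun U => ↾fun s => e'.inv.app U.unop (e.hom.app U.unop s)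
      naturality := fun U V k => by
        ext s
        have h : (show B from V.unop).1 ≤ (show B from U.unop).1 := k.unop.hom.le
        change e'.inv.app V.unop (e.hom.app V.unop (G.1.map (homOfLE h).op s)) =
          G'.1.map (homOfLE h).op (e'.inv.app U.unop (e.hom.app U.unop s))
        exact ((congrArg (e'.inv.app V.unop) (e.hom.natural h s)).symm).trans
          (e'.inv.natural h _).symm }
  refine ⟨⟨TopCat.Sheaf.restrictHomEquivHom G.1 G' hb α⟩, fun U s => ?_, fun φ hφ => ?_⟩
  · have := ConcreteCategory.congr_hom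
      (TopCat.Sheaf.extend_hom_app G.1 G' hb α U) s
    exact (congrArg (e'.hom.app U) this).trans (e'.inv_hom U _)
  · refine ObjectProperty.hom_ext _ (TopCat.Sheaf.hom_ext _ G' hb fun U => ?_)
    ext s
    have := ConcreteCategory.congr_hom
      (TopCat.Sheaf.extend_hom_app G.1 G' hb α U) s
    refine Eq.trans ?_ this.symm
    exact (e'.hom_inv U _).symm.trans (congrArg (e'.inv.app U) (hφ U s))

theorem extension (hB : Opens.IsBasis B) (F : ShB.Pre B) (hF : ShB.IsSheaf F) :
    (∃ G : TopCat.Sheaf (Type u) (TopCat.of X), Nonempty (ShB.Iso (ShB.restrict B G.presheaf) F)) ∧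
    ∀ (G G' : TopCat.Sheaf (Type u) (TopCat.of X)) (e : ShB.Iso (ShB.restrict B G.presheaf) F)
      (e' : ShB.Iso (ShB.restrict B G'.presheaf) F),
      ∃! φ : G ⟶ G', IsIso φ ∧ ∀ (U : B) (s : G.presheaf.obj (op (U : Opens X))),
        e'.hom.app U (φ.1.app (op (U : Opens X)) s) = e.hom.app U s := by
  refine ⟨⟨⟨extPsh F, isSheaf_extPsh hB hF⟩, ⟨extIso F⟩⟩, fun G G' e e' => ?_⟩
  obtain ⟨φ, hφ, huφ⟩ := existsUnique_hom hB G G' e e'
  obtain ⟨ψ, hψ, -⟩ := existsUnique_hom hB G' G e' e
  have h₁ : φ ≫ ψ = 𝟙 G := (existsUnique_hom hB G G e e).unique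
    (fun U s => (hψ U _).trans (hφ U s)) fun U s => rfl
  have h₂ : ψ ≫ φ = 𝟙 G' := (existsUnique_hom hB G' G' e' e').unique
    (fun U s => (hφ U _).trans (hψ U s)) fun U s => rfl
  exact ⟨φ, ⟨⟨ψ, h₁, h₂⟩, hφ⟩, fun φ' h => huφ φ' h.2⟩

end Extend

section FMap

variable {X Y : TopCat.{u}} (f : X ⟶ Y) (F : X.Sheaf (Type u)) (G : Y.Sheaf (Type u))
  {BX : Set (Opens X)} {BY : Set (Opens Y)}

theorem existsUnique_fmap (hBX : Opens.IsBasis BX) (hBY : Opens.IsBasis BY)
    (φ : ∀ (V : BY) (U : BX), (U : Opens X) ≤ (Opens.map f).obj V →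
      (G.presheaf.obj (op (V : Opens Y)) → F.presheaf.obj (op (U : Opens X))))
    (hφ : ∀ (V V' : BY) (U U' : BX) (hUV : (U : Opens X) ≤ (Opens.map f).obj V)
      (hU'V' : (U' : Opens X) ≤ (Opens.map f).obj V') (hV : (V' : Opens Y) ≤ V)
      (hU : (U' : Opens X) ≤ U) (s : G.presheaf.obj (op (V : Opens Y))),
      F.presheaf.map (homOfLE hU).op (φ V U hUV s) =
        φ V' U' hU'V' (G.presheaf.map (homOfLE hV).op s)) :
    ∃! ψ : G ⟶ (TopCat.Sheaf.pushforward (Type u) f).obj F,
      ∀ (V : BY) (U : BX) (hUV : (U : Opens X) ≤ (Opens.map f).obj V)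
        (s : G.presheaf.obj (op (V : Opens Y))),
        F.presheaf.map (homOfLE hUV).op (ψ.1.app (op (V : Opens Y)) s) = φ V U hUV s := by
  have hb : Opens.IsBasis (Set.range (Subtype.val : BY → Opens Y)) := by
    rw [Subtype.range_val]; exact hBY
  have refl : ∀ (V : BY) (s : G.1.obj (op (V : Opens Y))),
      G.1.map (homOfLE (le_refl (V : Opens Y))).op s = s := fun V s => by
    rw [show (homOfLE (le_refl (V : Opens Y))).op = 𝟙 _ from Subsingleton.elim _ _,
      Functor.map_id_apply]
  have key : ∀ (V : BY) (s : G.1.obj (op (V : Opens Y))),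
      ∃! t : F.1.obj (op ((Opens.map f).obj V)),
        ∀ (U : BX) (hUV : (U : Opens X) ≤ (Opens.map f).obj V),
          F.1.map (homOfLE hUV).op t = φ V U hUV s := by
    intro V s
    let T := {U : BX // (U : Opens X) ≤ (Opens.map f).obj V}
    obtain ⟨t, ht, hu⟩ := F.existsUnique_gluing' (fun U : T => (U.1 : Opens X))
      ((Opens.map f).obj V) (fun U => homOfLE U.2)
      (fun x hx => by
        obtain ⟨U, hxU, hU⟩ := exists_member hBX hx
        exact Opens.mem_iSup.2 ⟨⟨U, hU⟩, hxU⟩)
      (fun U => φ V U.1 U.2 s) fun U U' => by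
        refine F.eq_of_locally_eq' (fun P : {P : BX // (P : Opens X) ≤ (U.1 : Opens X) ⊓ U'.1} =>
          (P.1 : Opens X)) ((U.1 : Opens X) ⊓ U'.1) (fun P => homOfLE P.2) (fun x hx => by
            obtain ⟨P, hxP, hP⟩ := exists_member hBX hx
            exact Opens.mem_iSup.2 ⟨⟨P, hP⟩, hxP⟩) _ _ fun P => ?_
        have h₁ : (P.1 : Opens X) ≤ U.1 := P.2.trans inf_le_left
        have h₂ : (P.1 : Opens X) ≤ U'.1 := P.2.trans inf_le_right
        rw [← Functor.map_comp_apply, ← Functor.map_comp_apply]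
        exact ((hφ V V U.1 P.1 U.2 (h₁.trans U.2) le_rfl h₁ s).trans
          (hφ V V U'.1 P.1 U'.2 (h₁.trans U.2) le_rfl h₂ s).symm)
    exact ⟨t, fun U hUV => ht ⟨U, hUV⟩, fun t' ht' => hu t' fun U => ht' U.1 U.2⟩
  choose t ht hu using key
  let P := (TopCat.Sheaf.pushforward (Type u) f).obj F
  let α : (inducedFunctor (Subtype.val : BY → Opens Y)).op ⋙ G.1 ⟶
      (inducedFunctor (Subtype.val : BY → Opens Y)).op ⋙ P.1 :=
    { app := fun V => ↾fun s => t V.unop s
      naturality := fun V V' k => by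
        ext s
        have h : (show BY from V'.unop).1 ≤ (show BY from V.unop).1 := k.unop.hom.le
        change t V'.unop (G.1.map (homOfLE h).op s) =
          F.1.map ((Opens.map f).map (homOfLE h)).op (t V.unop s)
        refine (hu _ _ _ fun U hU => ?_).symm
        rw [← Functor.map_comp_apply]
        have hUV : (U : Opens X) ≤ (Opens.map f).obj (show BY from V.unop).1 :=
          hU.trans ((Opens.map f).map (homOfLE h)).le
        refine (ht _ s U hUV).trans ?_
        have := hφ V.unop V'.unop U U hUV hU h le_rfl s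
        rw [show (homOfLE (le_refl (U : Opens X))).op = 𝟙 _ from Subsingleton.elim _ _] at this
        exact (Functor.map_id_apply F.1 _ _).symm.trans this }
  have happ : ∀ (V : BY) (s : G.1.obj (op (V : Opens Y))),
      (TopCat.Sheaf.restrictHomEquivHom G.1 P hb α).app (op (V : Opens Y)) s = t V s := fun V s =>
    ConcreteCategory.congr_hom (TopCat.Sheaf.extend_hom_app G.1 P hb α V) s
  refine ⟨⟨TopCat.Sheaf.restrictHomEquivHom G.1 P hb α⟩, fun V U hUV s => ?_, fun ψ hψ => ?_⟩
  · exact (congrArg _ (happ V s)).trans (ht V s U hUV)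
  · refine ObjectProperty.hom_ext _ (TopCat.Sheaf.hom_ext _ P hb fun V => ?_)
    ext s
    exact (hu V s _ fun U hUV => hψ V U hUV s).trans (happ V s).symm

end FMap

end Groth.Agent.Topos46
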