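import Groth.Agent.Topos46.DeligneStep
import Mathlib.CategoryTheory.Sites.Point.Conservative
import Mathlib.CategoryTheory.Functor.OfSequence
import Mathlib.CategoryTheory.Limits.FunctorCategory.Basic
import Mathlib.CategoryTheory.Limits.Types.Filtered

/-!
Enough points for sites with finite limits and finitary coverings.
-/

universe u

open CategoryTheory CategoryTheory.Limits Opposite

namespace Groth.Agent.Topos46.Deligne

variable {C : Type u} [SmallCategory C] [HasFiniteLimits C] {J : GrothendieckTopology C}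
  {X : C} {S : Sieve X}

/-- A stage of the construction. -/
structure St (J : GrothendieckTopology C) (X : C) (S : Sieve X) where
  /-- The functor. -/
  F : C ⥤ Type u
  cof : IsCofiltered F.Elements
  /-- The element. -/
  x : F.obj X
  good : Good J F x S

omit [HasFiniteLimits C] in
lemma isCofiltered_elements_hom (X : C) : IsCofiltered (coyoneda.obj (op X)).Elements := by
  have key : ∀ (Z : (coyoneda.obj (op X)).Elements),
      ∃ f : (coyoneda.obj (op X)).elementsMk X (𝟙 X) ⟶ Z, ∀ g, g = f := fun Z =>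
    ⟨CategoryOfElements.homMk _ _ Z.2 (Category.id_comp _), fun g =>
      Subtype.ext ((Category.id_comp _).symm.trans g.2)⟩
  have : IsCofilteredOrEmpty (coyoneda.obj (op X)).Elements :=
    { cone_objs := fun A B => ⟨_, (key A).choose, (key B).choose, trivial⟩
      cone_maps := fun A B f g => ⟨_, (key A).choose,
        ((key B).choose_spec _).trans ((key B).choose_spec _).symm⟩ }
  exact { nonempty := ⟨(coyoneda.obj (op X)).elementsMk X (𝟙 X)⟩ }

variable (hJ : ∀ (U : C) (S : Sieve U), S ∈ J U →
      ∃ (n : ℕ) (V : Fin n → C) (g : ∀ k, V k ⟶ U), (∀ k, S (g k)) ∧ Sieve.ofArrows V g ∈ J U)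

include hJ

theorem exists_point (hS : S ∉ J X) : ∃ (Φ : GrothendieckTopology.Point.{u} J) (x : Φ.fiber.obj X),
    ∀ (Y : C) (g : Y ⟶ X), S g → ∀ y : Φ.fiber.obj Y, Φ.fiber.map g y ≠ x := by
  classical
  let s₀ : St J X S :=
    { F := coyoneda.obj (op X)
      cof := isCofiltered_elements_hom X
      x := 𝟙 X
      good := fun U a q hq hc => hS (by
        have := J.pullback_stable a hc
        rw [← Sieve.pullback_comp, show a ≫ q = 𝟙 X from hq, Sieve.pullback_id] at this
        exact this) }
  have hstep : ∀ s : St J X S, ∃ (t : St J X S) (η : s.F ⟶ t.F), η.app X s.x = t.x ∧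
      ∀ r : Req J s.F, ∃ (k : Fin r.m) (z : t.F.obj (r.V k)),
        t.F.map (r.g k) z = η.app r.Y r.y := fun s => by
    have := s.cof
    obtain ⟨G, hG, η, hgood, hlift⟩ := exists_step s.good
    exact ⟨⟨G, hG, η.app X s.x, hgood⟩, η, rfl, hlift⟩
  choose nxt η hx hlift using hstep
  let st : ℕ → St J X S := fun n => Nat.rec s₀ (fun _ s => nxt s) n
  let D : ℕ ⥤ (C ⥤ Type u) := Functor.ofSequence (X := fun n => (st n).F) fun n => η (st n)
  let F := colimit D
  have hsurj : ∀ (Y : C) (y : F.obj Y), ∃ n a, (colimit.ι D n).app Y a = y := fun Y y => by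
    obtain ⟨n, a, ha⟩ := Types.jointly_surjective _
      (isColimitOfPreserves ((evaluation C (Type u)).obj Y) (colimit.isColimit D)) y
    exact ⟨n, a, ha⟩
  have hw : ∀ {n m : ℕ} (h : n ≤ m) (Y : C) (a : (D.obj n).obj Y),
      (colimit.ι D m).app Y ((D.map (homOfLE h)).app Y a) = (colimit.ι D n).app Y a :=
    fun h Y a => ConcreteCategory.congr_hom (NatTrans.congr_app (colimit.w D (homOfLE h)) Y) a
  have heq : ∀ {n : ℕ} (Y : C) (a b : (D.obj n).obj Y),
      (colimit.ι D n).app Y a = (colimit.ι D n).app Y b →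
      ∃ (m : ℕ) (h : n ≤ m), (D.map (homOfLE h)).app Y a = (D.map (homOfLE h)).app Y b := by
    intro n Y a b h
    obtain ⟨m, f, hf⟩ := (Types.FilteredColimit.isColimit_eq_iff'
      (isColimitOfPreserves ((evaluation C (Type u)).obj Y) (colimit.isColimit D)) a b).1 h
    exact ⟨m, leOfHom f, hf⟩
  have hstage : ∀ (Y : C) (y : F.obj Y) (n : ℕ), ∃ (m : ℕ) (_ : n ≤ m) (a : (D.obj m).obj Y),
      (colimit.ι D m).app Y a = y := fun Y y n => by
    obtain ⟨k, a, rfl⟩ := hsurj Y y
    exact ⟨max n k, le_max_left _ _, _, hw (le_max_right n k) Y a⟩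
  have hcof : ∀ n, IsCofiltered (D.obj n).Elements := fun n => (st n).cof
  have hF : IsCofiltered F.Elements := by
    have : IsCofilteredOrEmpty F.Elements := by
      constructor
      · rintro ⟨A, a⟩ ⟨B, b⟩
        obtain ⟨n, a', ha'⟩ := hsurj A a
        obtain ⟨m, hm, b', hb'⟩ := hstage B b n
        have := hcof m
        obtain ⟨U, c, f, g, hf, hg⟩ := exists_over ((D.map (homOfLE hm)).app A a') b'
        refine ⟨F.elementsMk U ((colimit.ι D m).app U c),
          CategoryOfElements.homMk _ _ f ?_, CategoryOfElements.homMk _ _ g ?_, trivial⟩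
        · refine ((colimit.ι D m).naturality_apply f c).symm.trans ?_
          rw [hf]
          exact (hw hm A a').trans ha'
        · refine ((colimit.ι D m).naturality_apply g c).symm.trans ?_
          rw [hg]
          exact hb'
      · rintro ⟨A, a⟩ ⟨B, b⟩ ⟨f, hf⟩ ⟨g, hg⟩
        obtain ⟨n, a', ha'⟩ := hsurj A a
        obtain ⟨m, hm, e⟩ := heq B ((D.obj n).map f a') ((D.obj n).map g a') (by
          rw [(colimit.ι D n).naturality_apply, (colimit.ι D n).naturality_apply, ha']
          exact hf.trans hg.symm)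
        rw [NatTrans.naturality_apply, NatTrans.naturality_apply] at e
        have := hcof m
        obtain ⟨W, c, i, hi, hie⟩ := exists_equalize _ f g e
        refine ⟨F.elementsMk W ((colimit.ι D m).app W c), CategoryOfElements.homMk _ _ i ?_,
          Subtype.ext hie⟩
        refine ((colimit.ι D m).naturality_apply i c).symm.trans ?_
        rw [hi]
        exact (hw hm A a').trans ha'
    exact { nonempty := ⟨F.elementsMk X ((colimit.ι D 0).app X s₀.x)⟩ }
  have hxn : ∀ n, (colimit.ι D n).app X (st n).x = (colimit.ι D 0).app X s₀.x := by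
    intro n
    induction n with
    | zero => rfl
    | succ n ih =>
      rw [← ih, ← hw (Nat.le_succ n) X (st n).x]
      refine congrArg ((colimit.ι D (n + 1)).app X) ?_
      rw [Functor.ofSequence_map_homOfLE_succ]
      exact (hx (st n)).symm
  let Φ : GrothendieckTopology.Point.{u} J :=
    { fiber := F
      isCofiltered := hF
      initiallySmall := InitiallySmall.mk' (𝟭 _)
      jointly_surjective := fun {Y} R hR y => by
        obtain ⟨n, a, rfl⟩ := hsurj Y y
        obtain ⟨m, V, g, hg, hcov⟩ := hJ Y R hR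
        obtain ⟨k, z, hz⟩ := hlift (st n) ⟨Y, a, m, V, g, hcov⟩
        refine ⟨V k, g k, hg k, (colimit.ι D (n + 1)).app (V k) z, ?_⟩
        refine ((colimit.ι D (n + 1)).naturality_apply (g k) z).symm.trans ?_
        refine (congrArg _ hz).trans ?_
        have h1 := hw (Nat.le_succ n) Y a
        rw [Functor.ofSequence_map_homOfLE_succ] at h1
        exact h1 }
  refine ⟨Φ, (colimit.ι D 0).app X s₀.x, fun Y g hg y hy => ?_⟩
  obtain ⟨n, a, rfl⟩ := hsurj Y y
  obtain ⟨m, hm, e⟩ := heq X ((D.obj n).map g a) (st n).x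
    (((colimit.ι D n).naturality_apply g a).trans (hy.trans (hxn n).symm))
  have key : ∀ m, n ≤ m → ∀ h : n ≤ m, (D.map (homOfLE h)).app X (st n).x = (st m).x := by
    intro m hm
    induction hm with
    | refl =>
      intro h
      rw [show homOfLE h = 𝟙 n from rfl, D.map_id]
      rfl
    | @step m hm' ih =>
      intro h
      rw [show homOfLE h = homOfLE hm' ≫ homOfLE (Nat.le_succ m) from rfl, D.map_comp,
        Functor.ofSequence_map_homOfLE_succ]
      exact (congrArg ((η (st m)).app X) (ih hm')).trans (hx (st m))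
  rw [key m hm hm, NatTrans.naturality_apply] at e
  exact (st m).good.not_mem _ g e hg

theorem hasEnoughPoints : GrothendieckTopology.HasEnoughPoints.{u} J := by
  classical
  choose Φ x hx using fun p : {p : Σ X : C, Sieve X // p.2 ∉ J p.1} => exists_point hJ p.2
  refine ⟨ObjectProperty.ofObj Φ, inferInstance, .mk' fun {X} S hS => ?_⟩
  by_contra hne
  obtain ⟨Y, g, hg, y, hy⟩ :=
    hS ⟨Φ ⟨⟨X, S⟩, hne⟩, ObjectProperty.ofObj_apply _ _⟩ (x ⟨⟨X, S⟩, hne⟩)
  exact hx ⟨⟨X, S⟩, hne⟩ Y g hg y hy

end Groth.Agent.Topos46.Deligne
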