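import Groth.Agent.Topos46.Eps
import Mathlib.CategoryTheory.Limits.FunctorCategory.Basic
import Mathlib.CategoryTheory.Limits.Types.Filtered
import Mathlib.Logic.Equiv.Fintype

/-!
Filtered colimits in a sheaf topos and quasi-compact objects.
-/

universe u

open CategoryTheory CategoryTheory.Limits Opposite ToposFin

namespace Groth.Agent.Topos46

variable {C : Type u} [SmallCategory C] {J : GrothendieckTopology C}
  {I : Type u} [SmallCategory I] [IsFiltered I] (D : I ⥤ Sh J)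

lemma isEpiFam_colimit_ι : IsEpiFam (fun i => colimit.ι D i) :=
  fun _ _ _ h => colimit.hom_ext h

/-- Equality in a filtered colimit holds locally at a finite stage. -/
lemma exists_local_eq {V : C} {i : I} (x y : (D.obj i).obj.obj (op V))
    (h : (colimit.ι D i).hom.app (op V) x = (colimit.ι D i).hom.app (op V) y) :
    ∃ S ∈ J V, ∀ ⦃W : C⦄ (g : W ⟶ V), S g → ∃ (j : I) (f : i ⟶ j),
      (D.map f).hom.app (op W) ((D.obj i).obj.map g.op x) =
        (D.map f).hom.app (op W) ((D.obj i).obj.map g.op y) := by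
  let E := colimit.cocone (D ⋙ sheafToPresheaf J (Type u))
  let c := Sheaf.sheafifyCocone E
  have hc : ∀ z : (D.obj i).obj.obj (op V), (c.ι.app i).hom.app (op V) z =
      (colimit.desc D c).hom.app (op V) ((colimit.ι D i).hom.app (op V) z) := fun z =>
    (ConcreteCategory.congr_hom
      (congr_app ((sheafToPresheaf J _).congr_map (colimit.ι_desc c i)) (op V)) z).symm
  have hxy : (c.ι.app i).hom.app (op V) x = (c.ι.app i).hom.app (op V) y := by rw [hc, hc, h]
  rw [Sheaf.sheafifyCocone_ι_app_val] at hxy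
  refine ⟨_, Presheaf.equalizerSieve_mem J (toSheafify J E.pt) (X := op V)
    ((E.ι.app i).app (op V) x) ((E.ι.app i).app (op V) y) hxy, fun W g hg => ?_⟩
  have hg' : (E.ι.app i).app (op W) ((D.obj i).obj.map g.op x) =
      (E.ι.app i).app (op W) ((D.obj i).obj.map g.op y) :=
    ((E.ι.app i).naturality_apply g.op x).trans
      (hg.trans ((E.ι.app i).naturality_apply g.op y).symm)
  exact (Types.FilteredColimit.isColimit_eq_iff'
    (isColimitOfPreserves ((evaluation Cᵒᵖ (Type u)).obj (op W))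
      (colimit.isColimit (D ⋙ sheafToPresheaf J (Type u)))) _ _).1 hg'

lemma isEpiFam_eq_at_stage {W : Sh J} {i : I} {a b : W ⟶ D.obj i}
    (h : a ≫ colimit.ι D i = b ≫ colimit.ι D i) :
    IsEpiFam (fun p : Σ j : I, (i ⟶ j) => equalizer.ι (a ≫ D.map p.2) (b ≫ D.map p.2)) := by
  intro Z u v huv
  obtain ⟨ι, F, π, hF, hπ⟩ := genBy_eps W
  refine hπ u v fun k => ?_
  obtain ⟨V, hV⟩ := hF k
  generalize π k = t
  revert t
  rw [hV]
  intro t
  obtain ⟨S, hS, hS'⟩ := exists_local_eq D (epsEquiv (t ≫ a)) (epsEquiv (t ≫ b))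
    (by rw [← epsEquiv_comp, ← epsEquiv_comp, Category.assoc, Category.assoc, h])
  refine eps_hom_ext_of_mem hS fun U g hg => ?_
  obtain ⟨j, f, hf⟩ := hS' g hg
  rw [← epsEquiv_epsMap_comp, ← epsEquiv_epsMap_comp, ← epsEquiv_comp, ← epsEquiv_comp] at hf
  have hf' : (epsMap g ≫ t) ≫ a ≫ D.map f = (epsMap g ≫ t) ≫ b ≫ D.map f := by
    simpa using epsEquiv.injective hf
  simpa using equalizer.lift (epsMap g ≫ t) hf' ≫= huv ⟨j, f⟩

omit D in
lemma exists_common {κ : Type*} [Finite κ] {i : I} {j : κ → I} (f : ∀ k, i ⟶ j k) :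
    ∃ (m : I) (g : i ⟶ m), ∀ k, ∃ h : j k ⟶ m, f k ≫ h = g := by
  obtain ⟨n, ⟨e⟩⟩ := Finite.exists_equiv_fin κ
  suffices ∀ (n : ℕ) (j : Fin n → I) (f : ∀ k, i ⟶ j k),
      ∃ (m : I) (g : i ⟶ m), ∀ k, ∃ h : j k ⟶ m, f k ≫ h = g by
    obtain ⟨m, g, hg⟩ := this n (fun k => j (e.symm k)) (fun k => f (e.symm k))
    refine ⟨m, g, fun k => ?_⟩
    obtain ⟨k, rfl⟩ := e.symm.surjective k
    exact hg k
  intro n
  induction n with
  | zero => exact fun _ _ => ⟨i, 𝟙 i, fun k => k.elim0⟩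
  | succ n ih =>
    intro j f
    obtain ⟨m, g, hg⟩ := ih _ fun k : Fin n => f k.succ
    obtain ⟨s, p, q, hpq⟩ := IsFiltered.span (f 0) g
    refine ⟨s, g ≫ q, Fin.cases ⟨p, hpq⟩ fun k => ?_⟩
    obtain ⟨h, hh⟩ := hg k
    exact ⟨h ≫ q, by rw [reassoc_of% hh]⟩

omit D in
lemma exists_common_obj {κ : Type*} [Finite κ] (j : κ → I) :
    ∃ m : I, ∀ k, Nonempty (j k ⟶ m) := by
  classical
  cases nonempty_fintype κ
  obtain ⟨m, hm⟩ := IsFiltered.sup_objs_exists (Finset.univ.image j)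
  exact ⟨m, fun k => hm (Finset.mem_image_of_mem j (Finset.mem_univ k))⟩

lemma exists_eq_of_isQC {W : Sh J} (hW : IsQC W) {i : I} {a b : W ⟶ D.obj i}
    (h : a ≫ colimit.ι D i = b ≫ colimit.ι D i) :
    ∃ (j : I) (f : i ⟶ j), a ≫ D.map f = b ≫ D.map f := by
  obtain ⟨n, σ, hσ⟩ := exists_finite_subfamily hW (isEpiFam_eq_at_stage D h)
  obtain ⟨m, g, hg⟩ := exists_common fun k => (σ k).2
  refine ⟨m, g, hσ _ _ fun k => ?_⟩
  obtain ⟨q, hq⟩ := hg k
  simp only [← hq, Functor.map_comp, ← Category.assoc]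
  exact congrArg (· ≫ D.map q) (by
    simpa using equalizer.condition (a ≫ D.map (σ k).2) (b ≫ D.map (σ k).2))

omit [IsFiltered I] in
lemma post_coyoneda_apply (X : Sh J) (i : I) (a : X ⟶ D.obj i) :
    colimit.post D (coyoneda.obj (op X)) (colimit.ι (D ⋙ coyoneda.obj (op X)) i a) =
      a ≫ colimit.ι D i :=
  ConcreteCategory.congr_hom (colimit.ι_post D (coyoneda.obj (op X)) i) a

lemma post_injective_iff (X : Sh J) :
    Function.Injective (colimit.post D (coyoneda.obj (op X))) ↔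
      ∀ (i : I) (a b : X ⟶ D.obj i), a ≫ colimit.ι D i = b ≫ colimit.ι D i →
        ∃ (j : I) (f : i ⟶ j), a ≫ D.map f = b ≫ D.map f := by
  constructor
  · intro h i a b hab
    exact (Types.FilteredColimit.isColimit_eq_iff' (colimit.isColimit _) a b).1
      (h ((post_coyoneda_apply D X i a).trans (hab.trans (post_coyoneda_apply D X i b).symm)))
  · intro h x y hxy
    obtain ⟨i, a, rfl⟩ := Types.jointly_surjective' x
    obtain ⟨i', b, rfl⟩ := Types.jointly_surjective' y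
    rw [post_coyoneda_apply, post_coyoneda_apply] at hxy
    obtain ⟨j, f, hf⟩ := h (IsFiltered.max i i') (a ≫ D.map (IsFiltered.leftToMax i i'))
      (b ≫ D.map (IsFiltered.rightToMax i i')) (by simpa using hxy)
    refine (Types.FilteredColimit.colimit_eq_iff _).2
      ⟨j, IsFiltered.leftToMax i i' ≫ f, IsFiltered.rightToMax i i' ≫ f, ?_⟩
    simpa using hf

omit [IsFiltered I] in
lemma post_surjective_iff (X : Sh J) :
    Function.Surjective (colimit.post D (coyoneda.obj (op X))) ↔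
      ∀ s : X ⟶ colimit D, ∃ (i : I) (a : X ⟶ D.obj i), a ≫ colimit.ι D i = s := by
  constructor
  · intro h s
    obtain ⟨x, rfl⟩ := h s
    obtain ⟨i, a, rfl⟩ := Types.jointly_surjective' x
    exact ⟨i, a, (post_coyoneda_apply D X i a).symm⟩
  · intro h s
    obtain ⟨i, a, rfl⟩ := h s
    exact ⟨colimit.ι (D ⋙ coyoneda.obj (op X)) i a, post_coyoneda_apply D X i a⟩

lemma exists_lift_of_isCoherent (hE : GenBy (IsQC (J := J))) {X : Sh J} (hX : IsCoherent X)
    (s : X ⟶ colimit D) : ∃ (i : I) (a : X ⟶ D.obj i), a ≫ colimit.ι D i = s := by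
  obtain ⟨n, W, c, σ, l, hW, hc, hl⟩ :=
    hE.exists_finite_refinement hX.1 ((isEpiFam_colimit_ι D).pullback_fst s)
  have ht : ∀ k, (l k ≫ pullback.snd _ _) ≫ colimit.ι D (σ k) = c k ≫ s := fun k => by
    rw [← hl k]; simp [pullback.condition]
  obtain ⟨m, hm⟩ := exists_common_obj σ
  let t : ∀ k, W k ⟶ D.obj m := fun k => (l k ≫ pullback.snd _ _) ≫ D.map (hm k).some
  have ht' : ∀ k, t k ≫ colimit.ι D m = c k ≫ s := fun k => by
    simp only [t, Category.assoc, colimit.w]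
    simpa using ht k
  have key : ∀ p : Fin n × Fin n, ∃ (j : I) (f : m ⟶ j),
      (pullback.fst (c p.1) (c p.2) ≫ t p.1) ≫ D.map f =
        (pullback.snd (c p.1) (c p.2) ≫ t p.2) ≫ D.map f := fun p => by
    refine exists_eq_of_isQC D (hX.2 _ _ _ _ (hW p.1) (hW p.2)) ?_
    simp [ht', pullback.condition_assoc]
  choose j f hf using key
  obtain ⟨m', g, hg⟩ := exists_common f
  obtain ⟨a, ha⟩ := hc.exists_desc (fun k => t k ≫ D.map g) fun k k' => by
    obtain ⟨q, hq⟩ := hg (k, k')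
    rw [← hq, Functor.map_comp]
    simpa using congrArg (· ≫ D.map q) (hf (k, k'))
  refine ⟨m', a, hc _ _ fun k => ?_⟩
  rw [reassoc_of% ha k, colimit.w, ht' k]

lemma isFP_of_isCoherent (hE : GenBy (IsQC (J := J))) {X : Sh J} (hX : IsCoherent X) : IsFP X :=
  fun _ _ _ D => ⟨(post_injective_iff D X).2 fun _ _ _ => exists_eq_of_isQC D hX.1,
    (post_surjective_iff D X).2 (exists_lift_of_isCoherent D hE hX)⟩

end Groth.Agent.Topos46
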