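import Groth.Agent.Topos46.Colim
import Groth.Agent.Topos46.Coprod
import Mathlib.CategoryTheory.Limits.Shapes.Equalizers
import Mathlib.Data.Finset.Sum

/-!
Objects of finite presentation in a topos with a generating family of coherent objects.
-/

universe u

open CategoryTheory CategoryTheory.Limits Opposite ToposFin

namespace Groth.Agent.Topos46

variable {C : Type u} [SmallCategory C] {J : GrothendieckTopology C} {X Y : Sh J}

lemma isFP_of_retract (i : X ⟶ Y) (p : Y ⟶ X) (hip : i ≫ p = 𝟙 X) (h : IsFP Y) : IsFP X := by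
  intro I _ _ D
  obtain ⟨h₁, h₂⟩ := h I D
  rw [post_injective_iff] at h₁
  rw [post_surjective_iff] at h₂
  refine ⟨(post_injective_iff D X).2 fun k a b hab => ?_, (post_surjective_iff D X).2 fun s => ?_⟩
  · obtain ⟨j, f, hf⟩ := h₁ k (p ≫ a) (p ≫ b) (by simp [hab])
    exact ⟨j, f, by simpa [reassoc_of% hip] using i ≫= hf⟩
  · obtain ⟨k, a, ha⟩ := h₂ (p ≫ s)
    exact ⟨k, i ≫ a, by simp [ha, reassoc_of% hip]⟩

lemma isFP_coequalizer {X₀ X₁ : Sh J} (a b : X₁ ⟶ X₀) (h₀ : IsFP X₀) (h₁ : IsFP X₁) :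
    IsFP (coequalizer a b) := by
  intro I _ _ D
  obtain ⟨hi₀, hs₀⟩ := h₀ I D
  obtain ⟨hi₁, -⟩ := h₁ I D
  rw [post_injective_iff] at hi₀ hi₁
  rw [post_surjective_iff] at hs₀
  refine ⟨(post_injective_iff D _).2 fun k x y hxy => ?_, (post_surjective_iff D _).2 fun s => ?_⟩
  · obtain ⟨j, f, hf⟩ := hi₀ k (coequalizer.π a b ≫ x) (coequalizer.π a b ≫ y) (by simp [hxy])
    exact ⟨j, f, coequalizer.hom_ext (by simpa using hf)⟩
  · obtain ⟨k, x, hx⟩ := hs₀ (coequalizer.π a b ≫ s)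
    obtain ⟨j, f, hf⟩ := hi₁ k (a ≫ x) (b ≫ x) (by rw [Category.assoc, Category.assoc, hx, coequalizer.condition_assoc])
    exact ⟨j, coequalizer.desc (x ≫ D.map f) (by simpa using hf),
      coequalizer.hom_ext (by simp [hx])⟩

lemma isCoherent_of_retract (i : X ⟶ Y) (p : Y ⟶ X) (hip : i ≫ p = 𝟙 X) (h : IsCoherent Y) :
    IsCoherent X :=
  have : IsSplitEpi p := ⟨⟨⟨i, hip⟩⟩⟩
  have : IsSplitMono i := ⟨⟨⟨p, hip⟩⟩⟩
  ⟨isQC_of_epi p h.1, isQS_of_isQSHom (isQSHom_of_mono' i) h.2⟩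

lemma isCoherent_sigma {ι : Type u} [Finite ι] (F : ι → Sh J) (h : ∀ i, IsCoherent (F i)) :
    IsCoherent (∐ F) :=
  ⟨isQC_of_finite_epiFam (isEpiFam_inj (coproductIsCoproduct F)) fun i => (h i).1,
    isQS_cofan (coproductIsCoproduct F) fun i => (h i).2⟩

/-- Every object is a filtered colimit of coequalizers of coherent objects. -/
lemma exists_filtered_presentation (hE : GenBy (IsCoherent (J := J))) (X : Sh J) :
    ∃ (I : Type u) (_ : SmallCategory I) (_ : IsFiltered I) (D : I ⥤ Sh J) (c : Cocone D)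
      (_ : c.pt ≅ X), Nonempty (IsColimit c) ∧ ∀ i, ∃ (X₀ X₁ : Sh J) (a b : X₁ ⟶ X₀),
        IsCoherent X₀ ∧ IsCoherent X₁ ∧ Nonempty (D.obj i ≅ coequalizer a b) := by
  classical
  obtain ⟨ι, F, π, hF, hπ⟩ := hE X
  choose κ G ρ hG hρ using fun p : ι × ι => hE (pullback (π p.1) (π p.2))
  let P := {st : Finset ι × Finset (Σ p : ι × ι, κ p) //
    ∀ r ∈ st.2, r.1.1 ∈ st.1 ∧ r.1.2 ∈ st.1}
  have hdir : IsDirected P (· ≤ ·) := ⟨fun x y =>
    ⟨⟨(x.1.1 ∪ y.1.1, x.1.2 ∪ y.1.2), fun r hr => by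
      rcases Finset.mem_union.1 hr with h | h
      · exact ⟨Finset.mem_union_left _ (x.2 r h).1, Finset.mem_union_left _ (x.2 r h).2⟩
      · exact ⟨Finset.mem_union_right _ (y.2 r h).1, Finset.mem_union_right _ (y.2 r h).2⟩⟩,
      ⟨Finset.subset_union_left, Finset.subset_union_left⟩,
      ⟨Finset.subset_union_right, Finset.subset_union_right⟩⟩⟩
  have : Nonempty P := ⟨⟨(∅, ∅), fun r hr => absurd hr (Finset.notMem_empty r)⟩⟩
  let E₀ : P → Sh J := fun x => ∐ fun i : x.1.1 => F i.1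
  let E₁ : P → Sh J := fun x => ∐ fun r : x.1.2 => G r.1.1 r.1.2
  let a : ∀ x, E₁ x ⟶ E₀ x := fun x => Sigma.desc fun r : x.1.2 =>
    ρ r.1.1 r.1.2 ≫ pullback.fst _ _ ≫ Sigma.ι (fun i : x.1.1 => F i.1) ⟨_, (x.2 r.1 r.2).1⟩
  let b : ∀ x, E₁ x ⟶ E₀ x := fun x => Sigma.desc fun r : x.1.2 =>
    ρ r.1.1 r.1.2 ≫ pullback.snd _ _ ≫ Sigma.ι (fun i : x.1.1 => F i.1) ⟨_, (x.2 r.1 r.2).2⟩
  have hrel : ∀ (x : P) (r : x.1.2),
      ρ r.1.1 r.1.2 ≫ pullback.fst _ _ ≫ Sigma.ι (fun i : x.1.1 => F i.1) ⟨_, (x.2 r.1 r.2).1⟩ ≫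
          coequalizer.π (a x) (b x) =
        ρ r.1.1 r.1.2 ≫ pullback.snd _ _ ≫ Sigma.ι (fun i : x.1.1 => F i.1) ⟨_, (x.2 r.1 r.2).2⟩ ≫
          coequalizer.π (a x) (b x) := fun x r => by
    simpa [a, b] using Sigma.ι (fun r : x.1.2 => G r.1.1 r.1.2) r ≫=
      coequalizer.condition (a x) (b x)
  let m : ∀ {x y : P}, (x ⟶ y) → (E₀ x ⟶ coequalizer (a y) (b y)) := fun {x y} f =>
    Sigma.desc fun i : x.1.1 =>
      Sigma.ι (fun i : y.1.1 => F i.1) ⟨i.1, f.le.1 i.2⟩ ≫ coequalizer.π (a y) (b y)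
  let D : P ⥤ Sh J :=
    { obj := fun x => coequalizer (a x) (b x)
      map := fun {x y} f => coequalizer.desc (m f) (Sigma.hom_ext _ _ fun r => by
        simpa [a, b, m] using hrel y ⟨r.1, f.le.2 r.2⟩)
      map_id := fun x => coequalizer.hom_ext (Sigma.hom_ext _ _ fun i => by simp [m])
      map_comp := fun f g => coequalizer.hom_ext (Sigma.hom_ext _ _ fun i => by simp [m]) }
  let c : Cocone D :=
    { pt := X
      ι :=
        { app := fun x => coequalizer.desc (Sigma.desc fun i : x.1.1 => π i.1)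
            (Sigma.hom_ext _ _ fun r => by simp [a, b, pullback.condition])
          naturality := fun x y f => coequalizer.hom_ext (Sigma.hom_ext _ _ fun i => by
            simp [D, m]) } }
  let one : ι → P := fun i => ⟨({i}, ∅), fun r hr => absurd hr (Finset.notMem_empty r)⟩
  let e : ∀ i, F i ⟶ D.obj (one i) := fun i =>
    Sigma.ι (fun j : ({i} : Finset ι) => F j.1) ⟨i, Finset.mem_singleton_self i⟩ ≫
      coequalizer.π (a (one i)) (b (one i))
  have he : ∀ i, e i ≫ c.ι.app (one i) = π i := fun i => by simp [e, c, one]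
  have hcone : ∀ (s : Cocone D) (x : P) (i : x.1.1),
      Sigma.ι (fun i : x.1.1 => F i.1) i ≫ coequalizer.π (a x) (b x) ≫ s.ι.app x =
        e i.1 ≫ s.ι.app (one i.1) := by
    intro s x i
    let f : one i.1 ⟶ x :=
      homOfLE ⟨Finset.singleton_subset_iff.2 i.2, Finset.empty_subset _⟩
    rw [← s.w f]
    simp [e, D, m, one]
  have hdesc : ∀ s : Cocone D, ∃ d : X ⟶ s.pt, ∀ i, π i ≫ d = e i ≫ s.ι.app (one i) := by
    intro s
    refine hπ.exists_desc _ fun i j => hρ (i, j) _ _ fun k => ?_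
    let x : P := ⟨({i, j}, {⟨(i, j), k⟩}), fun r hr => by
      rw [Finset.mem_singleton.1 hr]; simp⟩
    have := congrArg (· ≫ s.ι.app x) (hrel x ⟨⟨(i, j), k⟩, Finset.mem_singleton_self _⟩)
    simpa [hcone s x] using this
  choose d hd using hdesc
  refine ⟨P, inferInstance, inferInstance, D, c, Iso.refl _,
    ⟨{ desc := d
       fac := fun s x => coequalizer.hom_ext (Sigma.hom_ext _ _ fun i => ?_)
       uniq := fun s f hf => hπ _ _ fun i => by rw [hd, ← he i, Category.assoc, hf] }⟩, fun x => ?_⟩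
  · rw [hcone s x i, ← hd s i.1]
    simp [c]
  · exact ⟨_, _, a x, b x, isCoherent_sigma _ fun i => hF i.1,
      isCoherent_sigma _ fun r => hG r.1.1 r.1.2, ⟨Iso.refl _⟩⟩

lemma exists_retract_of_isFP (hE : GenBy (IsCoherent (J := J))) (hX : IsFP X) :
    ∃ (X₀ X₁ : Sh J) (a b : X₁ ⟶ X₀) (i : X ⟶ coequalizer a b) (p : coequalizer a b ⟶ X),
      IsCoherent X₀ ∧ IsCoherent X₁ ∧ i ≫ p = 𝟙 X := by
  obtain ⟨I, _, _, D, c, e, ⟨hc⟩, hD⟩ := exists_filtered_presentation hE X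
  let θ : colimit D ≅ X := (colimit.isColimit D).coconePointUniqueUpToIso hc ≪≫ e
  obtain ⟨k, a, ha⟩ := (post_surjective_iff D X).1 (hX I D).2 θ.inv
  obtain ⟨X₀, X₁, f, g, h₀, h₁, ⟨ε⟩⟩ := hD k
  exact ⟨X₀, X₁, f, g, a ≫ ε.hom, ε.inv ≫ colimit.ι D k ≫ θ.hom, h₀, h₁,
    by simp [reassoc_of% ha]⟩

end Groth.Agent.Topos46
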