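import Groth.Agent.Topos46.Quot
import Mathlib.CategoryTheory.Subobject.FactorThru
import Mathlib.CategoryTheory.Sites.Subsheaf

/-!
Subobjects and epimorphisms in categories of sheaves of sets: generalised elements up to epimorphic
refinement.
-/

universe w v u

open CategoryTheory CategoryTheory.Limits Opposite

namespace Groth.Agent.Topos46

section General

variable {A : Type*} [Category A] {X Y T : A}

lemma sub_le_iff_factors {S S' : Subobject X} :
    S ≤ S' ↔ ∀ ⦃T : A⦄ (x : T ⟶ X), S.Factors x → S'.Factors x :=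
  ⟨fun h _ x hx => Subobject.factors_of_le x h hx,
    fun h => Subobject.le_of_factors (h _ S.factors_self)⟩

lemma sub_pullback_factors_iff [HasPullbacks A] {f : X ⟶ Y} {S : Subobject Y} (x : T ⟶ X) :
    ((Subobject.pullback f).obj S).Factors x ↔ S.Factors (x ≫ f) := by
  obtain ⟨φ, hφ⟩ := Subobject.isPullback_aux f S
  constructor
  · intro h
    rw [← Subobject.factorThru_arrow _ x h, Category.assoc, ← hφ.w, ← Category.assoc]
    exact Subobject.factors_comp_arrow _
  · intro h
    rw [Subobject.factors_iff]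
    exact ⟨hφ.lift (S.factorThru _ h) x (Subobject.factorThru_arrow _ _ h), hφ.lift_snd _ _ _⟩

lemma sub_mk_factors_iff (m : X ⟶ Y) [Mono m] (x : T ⟶ Y) :
    (Subobject.mk m).Factors x ↔ ∃ g, g ≫ m = x :=
  Subobject.mk_factors_iff _ _

lemma sub_factors_of_epi [IsRegularEpiCategory A] {S : Subobject X} {T' : A} (e : T' ⟶ T) [Epi e]
    {x : T ⟶ X} (h : S.Factors (e ≫ x)) : S.Factors x := by
  have := IsRegularEpiCategory.regularEpiOfEpi e
  have sq : CommSq (S.factorThru _ h) e S.arrow x := ⟨S.factorThru_arrow _ h⟩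
  exact sq.fac_right ▸ Subobject.factors_comp_arrow _

section Lift

variable [HasPullbacks A] [(MorphismProperty.epimorphisms A).IsStableUnderBaseChange]

/-- Elements lift along an epimorphism after an epimorphic refinement. -/
lemma exists_epi_lift {X B W : A} (π : X ⟶ B) [Epi π] (a : W ⟶ B) :
    ∃ (W' : A) (e : W' ⟶ W) (_ : Epi e) (x : W' ⟶ X), x ≫ π = e ≫ a :=
  ⟨pullback a π, pullback.fst a π,
    MorphismProperty.of_isPullback (P := MorphismProperty.epimorphisms A)
      (IsPullback.of_hasPullback a π).flip ‹Epi π›,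
    pullback.snd a π, pullback.condition.symm⟩

/-- Simultaneous lifting of two elements. -/
lemma exists_epi_lift₂ {X B X' B' W : A} (π : X ⟶ B) [Epi π] (π' : X' ⟶ B') [Epi π']
    (a : W ⟶ B) (b : W ⟶ B') :
    ∃ (W' : A) (e : W' ⟶ W) (_ : Epi e) (x : W' ⟶ X) (y : W' ⟶ X'),
      x ≫ π = e ≫ a ∧ y ≫ π' = e ≫ b := by
  obtain ⟨W₁, e₁, _, x, hx⟩ := exists_epi_lift π a
  obtain ⟨W₂, e₂, _, y, hy⟩ := exists_epi_lift π' (e₁ ≫ b)
  exact ⟨W₂, e₂ ≫ e₁, inferInstance, e₂ ≫ x, y, by simp [hx], by simp [hy]⟩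

end Lift

end General

variable {C : Type u} [Category.{v} C] {J : GrothendieckTopology C} [HasSheafify J (Type w)]
  {X B W : Sheaf J (Type w)}

/-- The image of a morphism of sheaves of sets, as a subobject. -/
noncomputable def imageSub (f : X ⟶ B) : Subobject B := Subobject.mk (Sheaf.imageι f)

lemma imageSub_factors_iff (f : X ⟶ B) (a : W ⟶ B) :
    (imageSub f).Factors a ↔
      ∃ (W' : Sheaf J (Type w)) (e : W' ⟶ W) (_ : Epi e) (x : W' ⟶ X), x ≫ f = e ≫ a := by
  constructor
  · intro h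
    obtain ⟨g, rfl⟩ := (sub_mk_factors_iff _ _).1 h
    obtain ⟨W', e, he, x, hx⟩ := exists_epi_lift (Sheaf.toImage f) g
    exact ⟨W', e, he, x, by rw [← reassoc_of% hx, Sheaf.toImage_ι]⟩
  · rintro ⟨W', e, he, x, hx⟩
    refine sub_factors_of_epi e ((sub_mk_factors_iff _ _).2 ⟨x ≫ Sheaf.toImage f, ?_⟩)
    rw [Category.assoc, Sheaf.toImage_ι, hx]

lemma pullback_obj_injective (π : X ⟶ B) [Epi π] :
    Function.Injective (Subobject.pullback π).obj := by
  have key : ∀ S S' : Subobject B, (Subobject.pullback π).obj S ≤ (Subobject.pullback π).obj S' →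
      S ≤ S' := fun S S' h => sub_le_iff_factors.2 fun T a ha => by
    obtain ⟨W', e, _, x, hx⟩ := exists_epi_lift π a
    refine sub_factors_of_epi e (hx ▸ (sub_pullback_factors_iff x).1
      (Subobject.factors_of_le x h ((sub_pullback_factors_iff x).2 ?_)))
    rw [hx]
    exact Subobject.factors_of_factors_right e ha
  exact fun S S' h => le_antisymm (key _ _ h.le) (key _ _ h.ge)

section Quotient

variable {R : Sheaf J (Type w)} {p₁ p₂ : R ⟶ X}
  (e : UniversallyEffectiveEquivalenceRelation p₁ p₂)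

include e

lemma epi_quotient : Epi e.π := ⟨fun a b h =>
  e.isPushout.hom_ext h h⟩

lemma exists_rel {x y : W ⟶ X} (h : x ≫ e.π = y ≫ e.π) :
    ∃ r : W ⟶ R, r ≫ p₁ = x ∧ r ≫ p₂ = y :=
  ⟨e.isKernelPair.lift x y h, e.isKernelPair.lift_fst _ _ _, e.isKernelPair.lift_snd _ _ _⟩

lemma range_pullback :
    Set.range (Subobject.pullback e.π).obj =
      {Y : Subobject X | (Subobject.pullback p₁).obj Y = (Subobject.pullback p₂).obj Y} := by
  ext Y
  constructor
  · rintro ⟨S, rfl⟩
    refine le_antisymm (sub_le_iff_factors.2 fun T r hr => ?_)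
      (sub_le_iff_factors.2 fun T r hr => ?_)
    · simpa [sub_pullback_factors_iff, e.isKernelPair.w] using hr
    · simpa [sub_pullback_factors_iff, e.isKernelPair.w] using hr
  · intro hY
    refine ⟨imageSub (Y.arrow ≫ e.π), le_antisymm (sub_le_iff_factors.2 fun T x hx => ?_)
      (sub_le_iff_factors.2 fun T x hx => ?_)⟩
    · rw [sub_pullback_factors_iff, imageSub_factors_iff] at hx
      obtain ⟨W', k, hk, y, hy⟩ := hx
      obtain ⟨r, hr₁, hr₂⟩ := exists_rel e (x := y ≫ Y.arrow) (y := k ≫ x) (by simpa using hy)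
      refine sub_factors_of_epi k ?_
      rw [← hr₂, ← sub_pullback_factors_iff, ← hY, sub_pullback_factors_iff, hr₁]
      exact Subobject.factors_comp_arrow _
    · rw [sub_pullback_factors_iff, imageSub_factors_iff]
      exact ⟨T, 𝟙 T, inferInstance, Y.factorThru x hx, by simp⟩

end Quotient

end Groth.Agent.Topos46
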