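import Groth.Agent.Topos46.Local

/-!
Inverse image functors and finiteness conditions.
-/

universe u

open CategoryTheory CategoryTheory.Limits Opposite ToposFin

namespace Groth.Agent.Topos46

variable {C D : Type u} [SmallCategory C] [SmallCategory D]
  {J : GrothendieckTopology C} {K : GrothendieckTopology D}
  {F : Sh K ⥤ Sh J} {R : Sh J ⥤ Sh K} (adj : F ⊣ R)

include adj

lemma isEpiFam_map {ι : Type*} {X : Sh K} {G : ι → Sh K} {π : ∀ i, G i ⟶ X} (h : IsEpiFam π) :
    IsEpiFam (fun i => F.map (π i)) := by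
  intro Z a b hab
  apply (adj.homEquiv _ _).injective
  refine h _ _ fun i => ?_
  rw [← adj.homEquiv_naturality_left, ← adj.homEquiv_naturality_left]
  exact congrArg _ (hab i)

lemma isQC_obj_of_gen {P : Sh K → Prop} (hP : GenBy P) (h : ∀ W, P W → IsQC (F.obj W))
    {X : Sh K} (hX : IsQC X) : IsQC (F.obj X) := by
  obtain ⟨n, V, c, hV, hc⟩ := hP.exists_finite_cover hX
  exact isQC_of_finite_epiFam (isEpiFam_map adj hc) fun k => h _ (hV k)

end Groth.Agent.Topos46
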