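import Groth.Agent.Topos46.GrpQuot

/-!
The category of sheaves of sets satisfies the hypotheses of the quotient formalism.
-/

universe w v u

open CategoryTheory

namespace Groth.Agent.Topos46

instance {C : Type u} [Category.{v} C] {J : GrothendieckTopology C} [HasSheafify J (Type w)] :
    HasEffRel (Sheaf J (Type w)) :=
  ⟨fun p₁ p₂ => isUniversallyEffective_sheaf p₁ p₂⟩

end Groth.Agent.Topos46
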