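import Groth.Agent.Topos46.GrpQuot

/-!
Morphisms into a quotient by an equivalence relation, described by stable subobjects.
-/

universe v u

open CategoryTheory CategoryTheory.Limits MonoidalCategory CartesianMonoidalCategory

namespace Groth.Agent.Topos46

variable {A : Type u} [Category.{v} A] [CartesianMonoidalCategory A] [HasPullbacks A]
  [IsRegularEpiCategory A] [(MorphismProperty.epimorphisms A).IsStableUnderBaseChange]

theorem maps_to_quotient {R X : A} {p₁ p₂ : R ⟶ X}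
    (e : UniversallyEffectiveEquivalenceRelation p₁ p₂) (Y : A) :
    (∀ (Z : A) (ι : Z ⟶ X ⊗ Y), Mono ι →
      (∀ (W : A) (r : W ⟶ R) (y : W ⟶ Y),
        (∃ z : W ⟶ Z, z ≫ ι = lift (r ≫ p₁) y) ↔ (∃ z : W ⟶ Z, z ≫ ι = lift (r ≫ p₂) y)) →
      Epi (ι ≫ snd X Y) →
      (∀ (W : A) (z₁ z₂ : W ⟶ Z), z₁ ≫ ι ≫ snd X Y = z₂ ≫ ι ≫ snd X Y →
        ∃ r : W ⟶ R, r ≫ p₁ = z₁ ≫ ι ≫ fst X Y ∧ r ≫ p₂ = z₂ ≫ ι ≫ fst X Y) →
      ∃! f : Y ⟶ e.B, IsPullback (ι ≫ fst X Y) (ι ≫ snd X Y) e.π f) ∧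
    (∀ f : Y ⟶ e.B, ∃ (Z : A) (ι : Z ⟶ X ⊗ Y), Mono ι ∧
      (∀ (W : A) (r : W ⟶ R) (y : W ⟶ Y),
        (∃ z : W ⟶ Z, z ≫ ι = lift (r ≫ p₁) y) ↔ (∃ z : W ⟶ Z, z ≫ ι = lift (r ≫ p₂) y)) ∧
      Epi (ι ≫ snd X Y) ∧
      (∀ (W : A) (z₁ z₂ : W ⟶ Z), z₁ ≫ ι ≫ snd X Y = z₂ ≫ ι ≫ snd X Y →
        ∃ r : W ⟶ R, r ≫ p₁ = z₁ ≫ ι ≫ fst X Y ∧ r ≫ p₂ = z₂ ≫ ι ≫ fst X Y) ∧
      IsPullback (ι ≫ fst X Y) (ι ≫ snd X Y) e.π f) := by
  have hepi : Epi e.π := ⟨fun a b h => e.isPushout.hom_ext h h⟩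
  refine ⟨fun Z ι hι hstab hs hrel => ?_, fun f => ?_⟩
  · have := IsRegularEpiCategory.regularEpiOfEpi (ι ≫ snd X Y)
    have hc : ∀ {W : A} (a b : W ⟶ Z), a ≫ ι ≫ snd X Y = b ≫ ι ≫ snd X Y →
        a ≫ (ι ≫ fst X Y) ≫ e.π = b ≫ (ι ≫ fst X Y) ≫ e.π := fun a b hab => by
      obtain ⟨r, h₁, h₂⟩ := hrel _ a b hab
      simp only [← Category.assoc] at h₁ h₂ ⊢
      rw [← h₁, ← h₂, Category.assoc, Category.assoc, e.isPushout.w]
    let f : Y ⟶ e.B := EffectiveEpi.desc (ι ≫ snd X Y) ((ι ≫ fst X Y) ≫ e.π) fun a b h => hc a b h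
    have hf : (ι ≫ snd X Y) ≫ f = (ι ≫ fst X Y) ≫ e.π := EffectiveEpi.fac _ _ _
    refine ⟨f, IsPullback.of_isLimit' ⟨hf.symm⟩ (PullbackCone.IsLimit.mk _
      (fun s => (Subobject.mk ι).factorThru (lift s.fst s.snd) ?_ ≫ (Subobject.underlyingIso ι).hom)
      (fun s => ?_) (fun s => ?_) fun s m h₁ h₂ => ?_), fun f' hf' =>
        (cancel_epi (ι ≫ snd X Y)).1 (hf'.w.symm.trans hf.symm)⟩
    · obtain ⟨W', k, hk, z, hz⟩ := exists_epi_lift (ι ≫ snd X Y) s.snd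
      have hx : (z ≫ ι ≫ fst X Y) ≫ e.π = (k ≫ s.fst) ≫ e.π := by
        rw [Category.assoc, ← hf, ← Category.assoc, hz, Category.assoc, Category.assoc, s.condition]
      refine sub_factors_of_epi k ((sub_mk_factors_iff _ _).2 ?_)
      have := (hstab W' (e.isKernelPair.lift _ _ hx) (k ≫ s.snd)).1
        ⟨z, CartesianMonoidalCategory.hom_ext _ _
          (by rw [lift_fst, e.isKernelPair.lift_fst, Category.assoc])
          (by rw [lift_snd, ← hz, Category.assoc])⟩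
      rwa [e.isKernelPair.lift_snd, ← comp_lift] at this
    · simp
    · simp
    · rw [← cancel_mono ι]
      apply CartesianMonoidalCategory.hom_ext
      · simpa using h₁
      · simpa using h₂
  · have hι : Mono (lift (pullback.fst e.π f) (pullback.snd e.π f)) := ⟨fun a b hab =>
      pullback.hom_ext (by simpa using hab =≫ fst X Y) (by simpa using hab =≫ snd X Y)⟩
    refine ⟨pullback e.π f, lift (pullback.fst e.π f) (pullback.snd e.π f), hι,
      fun W r y => ?_, ?_, fun W z₁ z₂ h => ?_, by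
        rw [lift_fst, lift_snd]; exact IsPullback.of_hasPullback _ _⟩
    · have key : ∀ x : W ⟶ X, (∃ z, z ≫ lift (pullback.fst e.π f) (pullback.snd e.π f) =
          lift x y) ↔ x ≫ e.π = y ≫ f := fun x => by
        refine ⟨fun ⟨z, hz⟩ => ?_, fun h => ⟨pullback.lift x y h, ?_⟩⟩
        · have h₁ : z ≫ pullback.fst e.π f = x := by simpa using hz =≫ fst X Y
          have h₂ : z ≫ pullback.snd e.π f = y := by simpa using hz =≫ snd X Y
          rw [← h₁, ← h₂, Category.assoc, Category.assoc, pullback.condition]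
        · apply CartesianMonoidalCategory.hom_ext <;> simp [pullback.lift_fst, pullback.lift_snd]
      rw [key, key, Category.assoc, Category.assoc, e.isPushout.w]
    · rw [lift_snd]
      exact MorphismProperty.of_isPullback (P := MorphismProperty.epimorphisms A)
        (IsPullback.of_hasPullback e.π f) hepi
    · rw [lift_fst]
      rw [lift_snd] at h
      exact ⟨e.isKernelPair.lift (z₁ ≫ pullback.fst e.π f) (z₂ ≫ pullback.fst e.π f)
        (by rw [Category.assoc, Category.assoc, pullback.condition, reassoc_of% h]),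
        e.isKernelPair.lift_fst _ _ _, e.isKernelPair.lift_snd _ _ _⟩

end Groth.Agent.Topos46
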