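import Mathlib.CategoryTheory.Sites.Coverage

/-!
The topology generated by a stable precoverage and a precoverage living on a class of objects.
-/

universe w v u

open CategoryTheory Opposite

namespace Groth.Agent.Topos46

variable {C : Type u} [Category.{v} C]

/-- The hypotheses on the pair of precoverages. -/
structure TwoPre (C' : C → Prop) (P P' : Precoverage C) : Prop where
  mem_C' : ∀ ⦃X : C⦄ ⦃R : Presieve X⦄, R ∈ P' X → C' X ∧ ∀ ⦃Y : C⦄ ⦃f : Y ⟶ X⦄, R f → C' Y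
  single : ∀ ⦃X : C⦄, C' X → Presieve.singleton (𝟙 X) ∈ P' X
  pull : ∀ ⦃X : C⦄ ⦃R : Presieve X⦄, R ∈ P' X → ∀ ⦃T : C⦄ (g : T ⟶ X), C' T →
      ∃ _ : R.HasPullbacks g, Presieve.pullbackArrows g R ∈ P' T
  cover : ∀ X : C, ∃ R ∈ P X, ∀ ⦃Y : C⦄ ⦃f : Y ⟶ X⦄, R f → C' Y
  comp : ∀ ⦃S : C⦄ ⦃R₁ : Presieve S⦄, R₁ ∈ P' S →
      ∀ (R₂ : ∀ ⦃Y : C⦄ ⦃f : Y ⟶ S⦄, R₁ f → Presieve Y),
        (∀ ⦃Y : C⦄ ⦃f : Y ⟶ S⦄ (hf : R₁ f), R₂ hf ∈ P Y ∧ ∀ ⦃Z : C⦄ ⦃g : Z ⟶ Y⦄, R₂ hf g → C' Z) →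
      ∀ (R₃ : ∀ ⦃Y : C⦄ ⦃f : Y ⟶ S⦄ (hf : R₁ f) ⦃Z : C⦄ ⦃g : Z ⟶ Y⦄, R₂ hf g → Presieve Z),
        (∀ ⦃Y : C⦄ ⦃f : Y ⟶ S⦄ (hf : R₁ f) ⦃Z : C⦄ ⦃g : Z ⟶ Y⦄ (hg : R₂ hf g), R₃ hf hg ∈ P' Z) →
      ∃ T ∈ P' S, ∀ ⦃W : C⦄ ⦃q : W ⟶ S⦄, T q →
        ∃ (Y Z V : C) (f : Y ⟶ S) (hf : R₁ f) (g : Z ⟶ Y) (hg : R₂ hf g) (h : V ⟶ Z) (_ : R₃ hf hg h)
          (r : W ⟶ V), r ≫ h ≫ g ≫ f = q

/-- Sieves containing a composite family of a `P`-family and `P'`-families. -/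
def TwoCover (C' : C → Prop) (P P' : Precoverage C) (X : C) (S' : Sieve X) : Prop :=
  ∃ (R : Presieve X) (_ : R ∈ P X) (_ : ∀ ⦃Y : C⦄ ⦃f : Y ⟶ X⦄, R f → C' Y)
    (R' : ∀ ⦃Y : C⦄ ⦃f : Y ⟶ X⦄, R f → Presieve Y),
    (∀ ⦃Y : C⦄ ⦃f : Y ⟶ X⦄ (hf : R f), R' hf ∈ P' Y) ∧
    ∀ ⦃Y : C⦄ ⦃f : Y ⟶ X⦄ (hf : R f) ⦃Z : C⦄ ⦃g : Z ⟶ Y⦄, R' hf g → S' (g ≫ f)

variable {C' : C → Prop} {P P' : Precoverage C} [P.HasPullbacks] [P.IsStableUnderBaseChange]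
  [P.IsStableUnderComposition]

lemma TwoPre.exists_refine (h : TwoPre C' P P') {X : C} {R : Presieve X} (hR : R ∈ P X) :
    ∃ R₂ ∈ P X, (∀ ⦃Z : C⦄ ⦃q : Z ⟶ X⦄, R₂ q → C' Z) ∧
      ∀ ⦃Z : C⦄ ⦃q : Z ⟶ X⦄, R₂ q → ∃ (Y : C) (f : Y ⟶ X) (_ : R f) (g : Z ⟶ Y), g ≫ f = q := by
  choose Rb hRb hRbC using h.cover
  obtain ⟨ι, Y, f, rfl⟩ := R.exists_eq_ofArrows
  choose σ Z g hg using fun i => (Rb (Y i)).exists_eq_ofArrows
  refine ⟨_, Precoverage.comp_mem_coverings (σ := σ) f hR g fun i => (hg i) ▸ hRb (Y i),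
    ?_, ?_⟩
  · rintro W q ⟨p⟩
    exact hRbC _ (show Rb _ (g p.1 p.2) by rw [hg]; exact .mk _)
  · rintro W q ⟨p⟩
    exact ⟨_, f p.1, .mk _, g p.1 p.2, rfl⟩

lemma TwoPre.twoCover_top (h : TwoPre C' P P') (X : C) : TwoCover C' P P' X ⊤ := by
  obtain ⟨R, hR, hRC⟩ := h.cover X
  exact ⟨R, hR, hRC, fun Y _ _ => Presieve.singleton (𝟙 Y), fun Y f hf => h.single (hRC hf),
    fun _ _ _ _ _ _ => trivial⟩

lemma TwoPre.twoCover_pullback (h : TwoPre C' P P') {X T : C} {S : Sieve X}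
    (hS : TwoCover C' P P' X S) (k : T ⟶ X) : TwoCover C' P P' T (S.pullback k) := by
  obtain ⟨R, hR, hRC, R', hR', hle⟩ := hS
  have := P.hasPullbacks_of_mem k hR
  obtain ⟨R₂, hR₂, hC₂, hfac⟩ := h.exists_refine (P.pullbackArrows_mem k hR)
  have key : ∀ ⦃Z : C⦄ ⦃q : Z ⟶ T⦄, R₂ q →
      ∃ (Y : C) (f : Y ⟶ X) (_ : R f) (m : Z ⟶ Y), m ≫ f = q ≫ k := fun Z q hq => by
    obtain ⟨W, p, hp, g, rfl⟩ := hfac hq
    obtain ⟨Y, f, hf⟩ := hp
    have := R.hasPullback k hf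
    exact ⟨Y, f, hf, g ≫ Limits.pullback.fst f k, by simp [Limits.pullback.condition]⟩
  choose Y f hf m hm using key
  choose hpb hmem using fun Z q (hq : R₂ q) => h.pull (hR' (hf (Z := Z) (q := q) hq)) (m hq) (hC₂ hq)
  refine ⟨R₂, hR₂, hC₂, fun Z q hq =>
    @Presieve.pullbackArrows _ _ _ _ (m hq) (R' (hf hq)) (hpb Z q hq), fun Z q hq => hmem Z q hq,
    fun Z q hq V r hr => ?_⟩
  obtain ⟨U, g, hg⟩ := hr
  have := hpb Z q hq
  have := (R' (hf hq)).hasPullback (m hq) hg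
  have hS' := S.downward_closed (hle (hf hq) hg) (Limits.pullback.fst g (m hq))
  change S ((_ ≫ q) ≫ k)
  rwa [Category.assoc, ← hm hq, ← Limits.pullback.condition_assoc]

lemma TwoPre.twoCover_trans (h : TwoPre C' P P') {X : C} {S S' : Sieve X}
    (hS : TwoCover C' P P' X S)
    (hS' : ∀ ⦃Y : C⦄ ⦃f : Y ⟶ X⦄, S f → TwoCover C' P P' Y (S'.pullback f)) :
    TwoCover C' P P' X S' := by
  obtain ⟨R, hR, hRC, R', hR', hle⟩ := hS
  refine ⟨R, hR, hRC, ?_⟩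
  have key : ∀ ⦃Y : C⦄ ⦃f : Y ⟶ X⦄, R f →
      ∃ T ∈ P' Y, ∀ ⦃W : C⦄ ⦃q : W ⟶ Y⦄, T q → S' (q ≫ f) := fun Y f hf => by
    choose R₂ hR₂ hC₂ R₃ hR₃ hle₃ using fun Z g (hg : R' hf g) => hS' (hle hf (Z := Z) hg)
    obtain ⟨T, hT, hfac⟩ := h.comp (hR' hf) (fun Z g hg => R₂ Z g hg)
      (fun Z g hg => ⟨hR₂ Z g hg, hC₂ Z g hg⟩) (fun Z g hg V k hk => R₃ Z g hg hk)
      (fun Z g hg V k hk => hR₃ Z g hg hk)
    refine ⟨T, hT, fun W q hq => ?_⟩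
    obtain ⟨Z, V, U, g, hg, k, hk, l, hl, r, rfl⟩ := hfac hq
    have := S'.downward_closed (hle₃ Z g hg hk hl) r
    simpa using this
  choose T hT hTle using key
  exact ⟨fun Y f hf => T hf, fun Y f hf => hT hf, fun Y f hf Z g hg => hTle hf hg⟩

theorem TwoPre.mem_iff (h : TwoPre C' P P') (X : C) (S' : Sieve X) :
    S' ∈ (P ⊔ P').toGrothendieck X ↔ TwoCover C' P P' X S' := by
  constructor
  · intro hS
    induction hS with
    | of X R hR =>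
      rcases hR with hR | hR
      · obtain ⟨R₂, hR₂, hC₂, hfac⟩ := h.exists_refine hR
        refine ⟨R₂, hR₂, hC₂, fun Y _ _ => Presieve.singleton (𝟙 Y),
          fun Y f hf => h.single (hC₂ hf), fun Y f hf Z g hg => ?_⟩
        cases hg
        obtain ⟨W, p, hp, g, rfl⟩ := hfac hf
        exact ⟨W, g, p, hp, (Category.id_comp _).symm⟩
      · obtain ⟨R₀, hR₀, hC₀⟩ := h.cover X
        choose hpb hmem using fun Y f (hf : R₀ f) => h.pull hR (T := Y) f (hC₀ hf)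
        refine ⟨R₀, hR₀, hC₀, fun Y f hf => @Presieve.pullbackArrows _ _ _ _ f R (hpb Y f hf),
          fun Y f hf => hmem Y f hf, fun Y f hf Z g hg => ?_⟩
        obtain ⟨U, k, hk⟩ := hg
        have := hpb _ f hf
        have := R.hasPullback f hk
        exact ⟨U, Limits.pullback.fst k f, k, hk, Limits.pullback.condition⟩
    | top X => exact h.twoCover_top X
    | pullback X S _ Y f ih => exact h.twoCover_pullback ih f
    | transitive X S R _ _ ih₁ ih₂ => exact h.twoCover_trans ih₁ ih₂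
  · rintro ⟨R, hR, -, R', hR', hle⟩
    refine (P ⊔ P').toGrothendieck.transitive
      (Precoverage.generate_mem_toGrothendieck (Or.inl hR)) _ ?_
    rintro Y _ ⟨W, g, f, hf, rfl⟩
    rw [Sieve.pullback_comp]
    refine GrothendieckTopology.pullback_stable _ g (GrothendieckTopology.superset_covering _
      ((Sieve.generate_le_iff _ _).2 fun Z k hk => hle hf hk)
      (Precoverage.generate_mem_toGrothendieck (Or.inr (hR' hf))))

theorem TwoPre.isSheaf_iff (h : TwoPre C' P P') (F : Cᵒᵖ ⥤ Type w) :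
    Presieve.IsSheaf (P ⊔ P').toGrothendieck F ↔
      (∀ ⦃X : C⦄ ⦃R : Presieve X⦄, R ∈ P X → Presieve.IsSheafFor F R) ∧
      (∀ ⦃X : C⦄ ⦃R : Presieve X⦄, R ∈ P' X → Presieve.IsSheafFor F R) := by
  refine ⟨fun hF => ⟨fun X R hR => ?_, fun X R hR => ?_⟩, fun ⟨hP, hP'⟩ => ?_⟩
  · exact (Presieve.isSheafFor_iff_generate R).2
      (hF _ (Precoverage.generate_mem_toGrothendieck (Or.inl hR)))
  · exact (Presieve.isSheafFor_iff_generate R).2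
      (hF _ (Precoverage.generate_mem_toGrothendieck (Or.inr hR)))
  have sep : Presieve.IsSeparated (P ⊔ P').toGrothendieck F := fun X S hS x s t hs ht => by
    obtain ⟨R, hR, -, R', hR', hle⟩ := (h.mem_iff X S).1 hS
    refine (hP hR).isSeparatedFor.ext fun Y f hf => (hP' (hR' hf)).isSeparatedFor.ext
      fun Z g hg => ?_
    rw [← Functor.map_comp_apply, ← Functor.map_comp_apply, ← op_comp]
    exact (hs _ (hle hf hg)).trans (ht _ (hle hf hg)).symm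
  intro X S hS
  rw [← Presieve.isSeparatedFor_and_exists_isAmalgamation_iff_isSheafFor]
  refine ⟨sep S hS, fun x hx => ?_⟩
  obtain ⟨R, hR, -, R', hR', hle⟩ := (h.mem_iff X S).1 hS
  have key : ∀ ⦃Y : C⦄ ⦃f : Y ⟶ X⦄, R f → ∃ t : F.obj (op Y),
      ∀ ⦃Z : C⦄ (k : Z ⟶ Y) (hk : S (k ≫ f)), F.map k.op t = x _ hk := fun Y f hf => by
    let y : Presieve.FamilyOfElements F (R' hf) := fun Z g hg => x _ (hle hf hg)
    have hy : y.Compatible := fun Z₁ Z₂ W g₁ g₂ f₁ f₂ h₁ h₂ e =>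
      hx g₁ g₂ _ _ (by rw [reassoc_of% e])
    refine ⟨(hP' (hR' hf)).amalgamate y hy, fun Z k hk => ?_⟩
    refine (sep _ (GrothendieckTopology.pullback_stable _ k
      (Precoverage.generate_mem_toGrothendieck (Or.inr (hR' hf))))).ext ?_
    rintro V l ⟨U, m, g, hg, e⟩
    rw [← Functor.map_comp_apply, ← op_comp, ← e, op_comp, Functor.map_comp_apply,
      Presieve.IsSheafFor.valid_glue _ hy g hg]
    exact hx m l _ _ (by rw [← Category.assoc, e, Category.assoc])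
  choose t ht using key
  let y : Presieve.FamilyOfElements F R := fun Y f hf => t hf
  have hy : y.Compatible := fun Y₁ Y₂ W g₁ g₂ f₁ f₂ h₁ h₂ e => by
    refine (sep _ (GrothendieckTopology.pullback_stable _ (g₁ ≫ f₁) hS)).ext fun V l hl => ?_
    have hl₁ : S ((l ≫ g₁) ≫ f₁) := by
      change S (l ≫ g₁ ≫ f₁) at hl
      simpa using hl
    have hl₂ : S ((l ≫ g₂) ≫ f₂) := by
      change S (l ≫ g₁ ≫ f₁) at hl
      rw [Category.assoc, ← e]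
      exact hl
    rw [← Functor.map_comp_apply, ← Functor.map_comp_apply, ← op_comp, ← op_comp,
      ht h₁ (l ≫ g₁) hl₁, ht h₂ (l ≫ g₂) hl₂]
    congr 1
    rw [Category.assoc, Category.assoc, e]
  refine ⟨(hP hR).amalgamate y hy, fun Z k hk => ?_⟩
  refine (sep _ (GrothendieckTopology.pullback_stable _ k
    (Precoverage.generate_mem_toGrothendieck (Or.inl hR)))).ext ?_
  rintro V l ⟨U, m, g, hg, e⟩
  rw [← Functor.map_comp_apply, ← op_comp, ← e, op_comp, Functor.map_comp_apply,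
    Presieve.IsSheafFor.valid_glue _ hy g hg]
  refine (ht hg m (e ▸ S.downward_closed hk l)).trans ?_
  have := hx l (𝟙 V) hk (S.downward_closed hk l) (Category.id_comp _).symm
  rw [this, op_id, Functor.map_id_apply]
  congr 1

end Groth.Agent.Topos46
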