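import Groth.Prelude.Def_W4sga3iivvp2RelPsh
import Mathlib.CategoryTheory.Sites.Over
import Mathlib.CategoryTheory.Sites.SheafOfTypes

/-!
The sheaf condition for the relative presheaf over a representable sheaf.
-/

universe v u

open CategoryTheory Opposite ShfCat

namespace Groth.Agent.Topos46

variable {C : Type u} [Category.{v} C] {J : GrothendieckTopology C} {S : C} {F : Cᵒᵖ ⥤ Type v}
  {φ : F ⟶ yoneda.obj S}

lemma phi_map {X Y : C} (g : Y ⟶ X) (s : F.obj (op X)) :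
    φ.app (op Y) (F.map g.op s) = g ≫ φ.app (op X) s :=
  NatTrans.naturality_apply φ g.op s

lemma isSeparated_of_relPsh (hS : Presieve.IsSheaf J (yoneda.obj S))
    (h : Presieve.IsSeparated (J.over S) (relPsh φ)) : Presieve.IsSeparated J F := by
  intro X R hR x s t hs ht
  have heq : φ.app (op X) s = φ.app (op X) t := (hS.isSeparated R hR).ext fun Y g hg => by
    change g ≫ φ.app (op X) s = g ≫ φ.app (op X) t
    rw [← phi_map, ← phi_map, hs g hg, ht g hg]
  exact congrArg Subtype.val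
    ((h ((Sieve.overEquiv (Over.mk (φ.app (op X) t))).symm R)
      (J.overEquiv_symm_mem_over (Over.mk (φ.app (op X) t)) R hR)).ext
      (t₁ := (⟨s, heq⟩ : RelSections φ (Over.mk (φ.app (op X) t)))) (t₂ := ⟨t, rfl⟩)
      fun Z g hg => Subtype.ext ((hs g.left ((Sieve.overEquiv_symm_iff R g).1 hg)).trans
        (ht g.left ((Sieve.overEquiv_symm_iff R g).1 hg)).symm))

lemma isSeparated_relPsh (h : Presieve.IsSeparated J F) :
    Presieve.IsSeparated (J.over S) (relPsh φ) := by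
  intro Y R hR x s t hs ht
  refine Subtype.ext ((h _ ((J.mem_over_iff R).1 hR)).ext fun Z g hg => ?_)
  have hg' := (Sieve.overEquiv_iff R g).1 hg
  exact congrArg Subtype.val ((hs _ hg').trans (ht _ hg').symm)

lemma isSheaf_of_relPsh (hS : Presieve.IsSheaf J (yoneda.obj S))
    (h : Presieve.IsSheaf (J.over S) (relPsh φ)) : Presieve.IsSheaf J F := by
  intro X R hR
  rw [← Presieve.isSeparatedFor_and_exists_isAmalgamation_iff_isSheafFor]
  refine ⟨isSeparated_of_relPsh hS h.isSeparated R hR, fun x hx => ?_⟩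
  let y : Presieve.FamilyOfElements (yoneda.obj S) R.arrows := fun Z g hg => φ.app (op Z) (x g hg)
  have hy : y.Compatible := fun Z₁ Z₂ W g₁ g₂ f₁ f₂ h₁ h₂ e =>
    (phi_map g₁ _).symm.trans ((congrArg _ (hx g₁ g₂ h₁ h₂ e)).trans (phi_map g₂ _))
  obtain ⟨a, ha⟩ : ∃ a : X ⟶ S, ∀ ⦃Z : C⦄ (g : Z ⟶ X) (hg : R g),
      g ≫ a = φ.app (op Z) (x g hg) :=
    ⟨(hS R hR).amalgamate y hy, fun Z g hg => (hS R hR).valid_glue hy g hg⟩
  let x' : Presieve.FamilyOfElements (relPsh φ) ((Sieve.overEquiv (Over.mk a)).symm R).arrows :=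
    fun Z g hg => ⟨x g.left ((Sieve.overEquiv_symm_iff R g).1 hg),
      (ha g.left _).symm.trans (Over.w g)⟩
  have hx' : x'.Compatible := fun Z₁ Z₂ W g₁ g₂ f₁ f₂ h₁ h₂ e => Subtype.ext
    (hx g₁.left g₂.left _ _ (congrArg Over.Hom.left e))
  have hR' := J.overEquiv_symm_mem_over (Over.mk a) R hR
  refine ⟨((h _ hR').amalgamate x' hx').1, fun Z g hg => ?_⟩
  exact congrArg Subtype.val ((h _ hR').valid_glue hx' (Over.homMk g : Over.mk (g ≫ a) ⟶ Over.mk a)
    ((Sieve.overEquiv_symm_iff R (Over.homMk g : Over.mk (g ≫ a) ⟶ Over.mk a)).2 hg))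

lemma isSheaf_relPsh (hS : Presieve.IsSheaf J (yoneda.obj S)) (h : Presieve.IsSheaf J F) :
    Presieve.IsSheaf (J.over S) (relPsh φ) := by
  intro Y R hR
  rw [← Presieve.isSeparatedFor_and_exists_isAmalgamation_iff_isSheafFor]
  refine ⟨isSeparated_relPsh h.isSeparated R hR, fun x hx => ?_⟩
  have hR' := (J.mem_over_iff R).1 hR
  let z : Presieve.FamilyOfElements F (Sieve.overEquiv Y R).arrows :=
    fun Z g hg => (x _ ((Sieve.overEquiv_iff R g).1 hg)).1
  have hz : z.Compatible := fun Z₁ Z₂ W g₁ g₂ f₁ f₂ h₁ h₂ e =>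
    congrArg Subtype.val (hx
      (Over.homMk g₁ : Over.mk (g₁ ≫ f₁ ≫ Y.hom) ⟶ Over.mk (f₁ ≫ Y.hom))
      (Over.homMk (U := Over.mk (g₁ ≫ f₁ ≫ Y.hom)) (V := Over.mk (f₂ ≫ Y.hom)) g₂ (by
        change g₂ ≫ f₂ ≫ Y.hom = g₁ ≫ f₁ ≫ Y.hom
        rw [reassoc_of% e]))
      ((Sieve.overEquiv_iff R f₁).1 h₁) ((Sieve.overEquiv_iff R f₂).1 h₂) (Over.OverMorphism.ext e))
  have ht : φ.app (op Y.left) ((h _ hR').amalgamate z hz) = Y.hom :=
    (hS.isSeparated _ hR').ext fun Z g hg => by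
      change g ≫ φ.app (op Y.left) _ = g ≫ Y.hom
      rw [← phi_map, (h _ hR').valid_glue hz g hg]
      exact (x _ ((Sieve.overEquiv_iff R g).1 hg)).2
  refine ⟨⟨(h _ hR').amalgamate z hz, ht⟩, fun Z f hf => Subtype.ext ?_⟩
  have hf' : Sieve.overEquiv Y R f.left := by
    rw [Sieve.overEquiv_iff]
    have := R.downward_closed hf
      (Over.homMk (𝟙 Z.left) : Over.mk (f.left ≫ Y.hom) ⟶ Z)
    convert this using 1
    exact Over.OverMorphism.ext (Category.id_comp _).symm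
  refine ((h _ hR').valid_glue hz f.left hf').trans ?_
  have := congrArg Subtype.val (hx (𝟙 (Over.mk (f.left ≫ Y.hom)))
    (Over.homMk (𝟙 Z.left) : Over.mk (f.left ≫ Y.hom) ⟶ Z)
    ((Sieve.overEquiv_iff R f.left).1 hf') hf
    (Over.OverMorphism.ext (by simp)))
  simpa [relPsh_map_val] using this

end Groth.Agent.Topos46
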