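import Groth.Prelude.Def_BigSite
import Mathlib.CategoryTheory.Sites.LocallyBijective
import Mathlib.CategoryTheory.Sites.Limits
import Mathlib.CategoryTheory.Sites.LeftExact
import Mathlib.CategoryTheory.IsConnected

/-!
Restriction of sheaves along an almost cocontinuous functor.
-/

universe u

open CategoryTheory CategoryTheory.Limits Opposite

namespace Groth.Agent.Topos46

variable {C D : Type u} [SmallCategory C] [SmallCategory D] {J : GrothendieckTopology C}
  {K : GrothendieckTopology D} (u : C ⥤ D)

lemma sheaf_unique_of_bot_mem (F : Sheaf K (Type u)) {V : D} (hV : (⊥ : Sieve V) ∈ K V) :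
    Subsingleton (F.1.obj (op V)) ∧ Nonempty (F.1.obj (op V)) := by
  have h := ((isSheaf_iff_isSheaf_of_type _ _).1 F.2) (⊥ : Sieve V) hV
  refine ⟨⟨fun a b => h.isSeparatedFor.ext fun Y f hf => False.elim hf⟩, ?_⟩
  exact ⟨h.amalgamate (fun Y f hf => False.elim hf) fun Y₁ Y₂ Z g₁ g₂ f₁ f₂ h₁ => False.elim h₁⟩

variable (hu : BigSite.IsAlmostCocontinuous u J K) (G : Dᵒᵖ ⥤ Type u)
  (hG : ∀ V : D, (⊥ : Sieve V) ∈ K V → Nonempty (Unique (G.obj (op V))))

include hu hG

lemma isLocallyInjective_whiskerLeft :
    Presheaf.IsLocallyInjective J (Functor.whiskerLeft u.op (toSheafify K G)) where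
  equalizerSieve_mem := by
    rintro ⟨U⟩ a b h
    obtain ⟨R, hR, hR'⟩ := hu U _ (Presheaf.equalizerSieve_mem K (toSheafify K G)
      (X := op (u.obj U)) a b h)
    refine J.superset_covering (fun V g hg => ?_) hR
    rcases hR' g hg with hE | hE
    · obtain ⟨i⟩ := hG _ hE
      exact @Subsingleton.elim _ i.instSubsingleton _ _
    · exact hE

lemma isLocallySurjective_whiskerLeft :
    Presheaf.IsLocallySurjective J (Functor.whiskerLeft u.op (toSheafify K G)) where
  imageSieve_mem := by
    intro U x
    obtain ⟨R, hR, hR'⟩ := hu U _ (Presheaf.imageSieve_mem K (toSheafify K G)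
      (U := op (u.obj U)) x)
    refine J.superset_covering (fun V g hg => ?_) hR
    rcases hR' g hg with hE | hE
    · obtain ⟨i⟩ := hG _ hE
      exact ⟨i.default,
        (sheaf_unique_of_bot_mem ((presheafToSheaf K (Type u)).obj G) hE).1.elim _ _⟩
    · exact hE

theorem isIso_comparison [u.IsContinuous J K] :
    IsIso (((sheafificationAdjunction J (Type u)).homEquiv (u.op ⋙ G)
      ((u.sheafPushforwardContinuous (Type u) J K).obj ((presheafToSheaf K (Type u)).obj G))).symm
        (Functor.whiskerLeft u.op (toSheafify K G))) := by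
  have := isLocallyInjective_whiskerLeft u hu G hG
  have := isLocallySurjective_whiskerLeft u hu G hG
  have := (J.W_iff _).1 (J.W_of_isLocallyBijective (A := Type u)
    (Functor.whiskerLeft u.op (toSheafify K G)))
  rw [Adjunction.homEquiv_counit]
  refine @IsIso.comp_isIso _ _ _ _ _ _ _ ?_ ?_
  · exact this
  · infer_instance

omit hu hG

lemma nonempty_unique_colimit {I : Type} [SmallCategory I] [IsConnected I] (A : I ⥤ Type u)
    {c : Cocone A} (hc : IsColimit c) (hA : ∀ i, Subsingleton (A.obj i) ∧ Nonempty (A.obj i)) :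
    Nonempty (Unique c.pt) := by
  have a : ∀ i, A.obj i := fun i => (hA i).2.some
  obtain ⟨i₀⟩ : Nonempty I := inferInstance
  have hconst : ∀ i, c.ι.app i (a i) = c.ι.app i₀ (a i₀) := fun i =>
    constant_of_preserves_morphisms (fun j => c.ι.app j (a j)) (fun j₁ j₂ f => by
      rw [← (hA j₂).1.elim (A.map f (a j₁)) (a j₂)]
      exact (ConcreteCategory.congr_hom (c.w f) (a j₁)).symm) i i₀
  refine ⟨⟨⟨c.ι.app i₀ (a i₀)⟩, fun x => ?_⟩⟩
  obtain ⟨i, y, rfl⟩ := Types.jointly_surjective _ hc x
  rw [(hA i).1.elim y (a i)]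
  exact hconst i

include hu in
theorem preservesColimitsOfShape_pushforward [u.IsContinuous J K] (I : Type) [SmallCategory I]
    [IsConnected I] :
    PreservesColimitsOfShape I (u.sheafPushforwardContinuous (Type u) J K) where
  preservesColimit {A} := by
    let E := colimit.cocone (A ⋙ sheafToPresheaf K (Type u))
    have hE : IsColimit E := colimit.isColimit _
    refine preservesColimit_of_preserves_colimit_cocone
      (Sheaf.isColimitSheafifyCocone E hE) ?_
    let E' : Cocone ((A ⋙ u.sheafPushforwardContinuous (Type u) J K) ⋙ sheafToPresheaf J (Type u)) :=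
      ((Functor.whiskeringLeft Cᵒᵖ Dᵒᵖ (Type u)).obj u.op).mapCocone E
    have hE' : IsColimit E' :=
      isColimitOfPreserves ((Functor.whiskeringLeft Cᵒᵖ Dᵒᵖ (Type u)).obj u.op) hE
    have := isIso_comparison u hu E.pt fun V hV => by
      exact nonempty_unique_colimit _
        (isColimitOfPreserves ((evaluation Dᵒᵖ (Type u)).obj (op V)) hE)
        fun i => sheaf_unique_of_bot_mem (A.obj i) hV
    let φ := ((sheafificationAdjunction J (Type u)).homEquiv (u.op ⋙ E.pt)
      ((u.sheafPushforwardContinuous (Type u) J K).obj ((presheafToSheaf K (Type u)).obj E.pt))).symm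
        (Functor.whiskerLeft u.op (toSheafify K E.pt))
    have hφ : IsIso φ := this
    refine IsColimit.ofIsoColimit (Sheaf.isColimitSheafifyCocone E' hE')
      (Cocone.ext (@asIso _ _ _ _ φ hφ) fun i => ?_)
    apply (sheafToPresheaf J (Type u)).map_injective
    have h₁ : toSheafify J (u.op ⋙ E.pt) ≫ φ.hom = Functor.whiskerLeft u.op (toSheafify K E.pt) := by
      refine Eq.trans ?_ (((sheafificationAdjunction J (Type u)).homEquiv (u.op ⋙ E.pt)
        ((u.sheafPushforwardContinuous (Type u) J K).obj
          ((presheafToSheaf K (Type u)).obj E.pt))).apply_symm_apply _)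
      rw [Adjunction.homEquiv_unit]
      rfl
    refine Eq.trans (congrArg (· ≫ φ.hom) (Sheaf.sheafifyCocone_ι_app_val E' i)) ?_
    refine Eq.trans ((Category.assoc _ _ _).trans (congrArg (E'.ι.app i ≫ ·) h₁)) ?_
    exact (congrArg (Functor.whiskerLeft u.op) (Sheaf.sheafifyCocone_ι_app_val E i)).symm

end Groth.Agent.Topos46
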