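import Mathlib.Topology.Sheaves.SheafCondition.Sites
import Mathlib.Topology.Sheaves.SheafCondition.UniqueGluing
import Mathlib.Topology.Sheaves.Stalks
import Mathlib.CategoryTheory.Adjunction.FullyFaithful

/-!
Extension by the empty set of sheaves of sets on an open subspace.
-/

universe u

open CategoryTheory TopologicalSpace Opposite TopCat

namespace Groth.Agent.Topos46

variable {X : TopCat.{u}} (U : Opens X)

/-- The trace on `U` of an open of `X`. -/
abbrev trace (W : Opens X) : Opens (TopCat.of U) :=
  ⟨Subtype.val ⁻¹' (W : Set X), W.2.preimage continuous_subtype_val⟩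

/-- The open of `X` underlying an open of `U`. -/
abbrev imOpen (V : Opens (TopCat.of U)) : Opens X :=
  ⟨Subtype.val '' (V : Set U), U.2.isOpenMap_subtype_val _ V.2⟩

variable {U}

lemma imOpen_le (V : Opens (TopCat.of U)) : imOpen U V ≤ U := by
  rintro _ ⟨v, -, rfl⟩
  exact v.2

lemma trace_imOpen_le (V : Opens (TopCat.of U)) : trace U (imOpen U V) ≤ V := by
  rintro x ⟨y, hy, h⟩
  rwa [← Subtype.ext h]

lemma le_trace_imOpen (V : Opens (TopCat.of U)) : V ≤ trace U (imOpen U V) :=
  fun v hv => ⟨v, hv, rfl⟩

lemma imOpen_trace_le (W : Opens X) : imOpen U (trace U W) ≤ W := by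
  rintro _ ⟨v, hv, rfl⟩
  exact hv

lemma le_imOpen_trace {W : Opens X} (h : W ≤ U) : W ≤ imOpen U (trace U W) :=
  fun x hx => ⟨⟨x, h hx⟩, hx, rfl⟩

lemma trace_mono {W W' : Opens X} (h : W ≤ W') : trace U W ≤ trace U W' := fun _ hx => h hx

lemma map_map_eq {Y : TopCat.{u}} (P : TopCat.Presheaf (Type u) Y) {a b c : Opens Y} (h : b ≤ a)
    (h' : c ≤ b) (h'' : c ≤ a) (s : P.obj (op a)) :
    P.map (homOfLE h').op (P.map (homOfLE h).op s) = P.map (homOfLE h'').op s := by
  rw [← Functor.map_comp_apply]
  rfl

lemma map_le_refl {Y : TopCat.{u}} (P : TopCat.Presheaf (Type u) Y) {a : Opens Y} (h : a ≤ a)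
    (s : P.obj (op a)) : P.map (homOfLE h).op s = s := by
  rw [show (homOfLE h).op = 𝟙 (op a) from Subsingleton.elim _ _, Functor.map_id_apply]

variable (F : (TopCat.of U).Sheaf (Type u))

/-- The extension by the empty set, as a presheaf. -/
def extEmptyPsh : TopCat.Presheaf (Type u) X where
  obj W := {_s : F.1.obj (op (trace U W.unop)) // W.unop ≤ U}
  map {W W'} k := ↾fun s =>
    ⟨F.1.map (homOfLE (trace_mono k.unop.le)).op s.1, k.unop.le.trans s.2⟩
  map_id W := by
    ext s
    exact map_le_refl F.1 (le_refl (trace U W.unop)) s.1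
  map_comp f g := by
    ext s
    exact (map_map_eq F.1 (trace_mono f.unop.le) (trace_mono g.unop.le)
      (trace_mono (g.unop.le.trans f.unop.le)) s.1).symm

lemma isSheaf_extEmptyPsh : (extEmptyPsh F).IsSheaf := by
  rw [Presheaf.isSheaf_iff_isSheafUniqueGluing]
  intro ι W sf hsf
  have hle : iSup W ≤ U := iSup_le fun i => (sf i).2
  obtain ⟨t, ht, hu⟩ := F.existsUnique_gluing' (fun i => trace U (W i)) (trace U (iSup W))
    (fun i => homOfLE (trace_mono (le_iSup W i)))
    (fun x hx => by
      obtain ⟨i, hi⟩ := Opens.mem_iSup.1 hx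
      exact Opens.mem_iSup.2 ⟨i, hi⟩)
    (fun i => (sf i).1) fun i j => congrArg Subtype.val (hsf i j)
  exact ⟨⟨t, hle⟩, fun i => Subtype.ext (ht i),
    fun s hs => Subtype.ext (hu s.1 fun i => congrArg Subtype.val (hs i))⟩

variable (U) in
/-- Extension by the empty set. -/
noncomputable def extEmpty : (TopCat.of U).Sheaf (Type u) ⥤ X.Sheaf (Type u) where
  obj F := ⟨extEmptyPsh F, isSheaf_extEmptyPsh F⟩
  map {F G} ψ := ⟨{ app := fun W => ↾fun s => ⟨ψ.1.app _ s.1, s.2⟩
                    naturality := fun W W' k => by
                      ext s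
                      refine Subtype.ext ?_
                      exact NatTrans.naturality_apply ψ.1 (homOfLE (trace_mono k.unop.le)).op s.1 }⟩
  map_id F := rfl
  map_comp ψ χ := rfl

variable (U) in
/-- Extension by the empty set is left adjoint to restriction. -/
noncomputable def extEmptyAdj : extEmpty U ⊣ U.sheafRestrict (C := Type u) :=
  Adjunction.mkOfHomEquiv
    { homEquiv := fun F G =>
        { toFun := fun φ =>
            ⟨{ app := fun V => ↾fun s => φ.1.app (op (imOpen U V.unop))
                  ⟨F.1.map (homOfLE (trace_imOpen_le V.unop)).op s, imOpen_le _⟩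
               naturality := fun V V' k => by
                ext s
                have hk : imOpen U V'.unop ≤ imOpen U V.unop := Set.image_mono k.unop.le
                change φ.1.app (op (imOpen U V'.unop))
                    ⟨F.1.map (homOfLE (trace_imOpen_le V'.unop)).op (F.1.map k s), imOpen_le _⟩ =
                  G.1.map (homOfLE hk).op (φ.1.app (op (imOpen U V.unop))
                    ⟨F.1.map (homOfLE (trace_imOpen_le V.unop)).op s, imOpen_le _⟩)
                rw [← NatTrans.naturality_apply φ.1]
                congr 1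
                refine Subtype.ext ?_
                change F.1.map _ (F.1.map (homOfLE k.unop.le).op s) =
                  F.1.map (homOfLE (trace_mono hk)).op (F.1.map _ s)
                rw [map_map_eq F.1 _ _ ((trace_imOpen_le _).trans k.unop.le),
                  map_map_eq F.1 _ _ ((trace_imOpen_le _).trans k.unop.le)] }⟩
          invFun := fun ψ =>
            ⟨{ app := fun W => ↾fun (s : (extEmptyPsh F).obj W) =>
                  G.1.map (homOfLE (le_imOpen_trace s.2)).op (ψ.1.app (op (trace U W.unop)) s.1)
               naturality := fun W W' k => by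
                ext s
                have hk : W'.unop ≤ W.unop := k.unop.le
                change G.1.map _ (ψ.1.app (op (trace U W'.unop))
                    (F.1.map (homOfLE (trace_mono hk)).op s.1)) =
                  G.1.map (homOfLE hk).op (G.1.map _ (ψ.1.app (op (trace U W.unop)) s.1))
                rw [NatTrans.naturality_apply ψ.1]
                change G.1.map _ (G.1.map (homOfLE (show imOpen U (trace U W'.unop) ≤ imOpen U (trace U W.unop) from
                  Set.image_mono (trace_mono hk))).op _) = _
                exact (map_map_eq G.1 _ _ ((le_imOpen_trace s.2).trans' hk) _).trans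
                  (map_map_eq G.1 _ _ ((le_imOpen_trace s.2).trans' hk) _).symm }⟩
          left_inv := fun φ => by
            refine ObjectProperty.hom_ext _ (NatTrans.ext (funext fun W => ?_))
            ext s
            change G.1.map (homOfLE (le_imOpen_trace s.2)).op (φ.1.app (op _)
              ⟨F.1.map (homOfLE (trace_imOpen_le (trace U W.unop))).op s.1, imOpen_le _⟩) = _
            rw [← NatTrans.naturality_apply φ.1]
            refine congrArg (φ.1.app (op W.unop)) (Subtype.ext ?_)
            change F.1.map (homOfLE (trace_mono (le_imOpen_trace s.2))).op (F.1.map _ s.1) = s.1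
            rw [map_map_eq F.1 _ _ le_rfl, map_le_refl]
          right_inv := fun ψ => by
            refine ObjectProperty.hom_ext _ (NatTrans.ext (funext fun V => ?_))
            ext s
            change G.1.map _ (ψ.1.app (op (trace U (imOpen U V.unop)))
              (F.1.map (homOfLE (trace_imOpen_le V.unop)).op s)) = _
            rw [NatTrans.naturality_apply ψ.1]
            change G.1.map _ (G.1.map (homOfLE (show imOpen U (trace U (imOpen U V.unop)) ≤ imOpen U V.unop from
              Set.image_mono (trace_imOpen_le V.unop))).op _) = _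
            exact (map_map_eq G.1 _ _ le_rfl _).trans (map_le_refl _ _ _) }
      homEquiv_naturality_left_symm := fun {F' F G} f g => by
        refine ObjectProperty.hom_ext _ (NatTrans.ext (funext fun W => ?_))
        ext s
        rfl
      homEquiv_naturality_right := fun {F G G'} f g => by
        refine ObjectProperty.hom_ext _ (NatTrans.ext (funext fun V => ?_))
        ext s
        rfl }

instance isIso_extEmptyAdj_unit : IsIso (extEmptyAdj U).unit := by
  have : ∀ F, IsIso ((extEmptyAdj U).unit.app F) := fun F => by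
    have happ : ∀ V, IsIso (((extEmptyAdj U).unit.app F).1.app V) := fun V => by
      rw [isIso_iff_bijective]
      refine ⟨fun a b h => ?_, fun t => ?_⟩
      · have h' := congrArg (F.1.map (homOfLE (le_trace_imOpen V.unop)).op)
          (congrArg Subtype.val h)
        change F.1.map _ (F.1.map (homOfLE (trace_imOpen_le V.unop)).op a) =
          F.1.map _ (F.1.map (homOfLE (trace_imOpen_le V.unop)).op b) at h'
        rwa [map_map_eq F.1 _ _ le_rfl, map_map_eq F.1 _ _ le_rfl, map_le_refl, map_le_refl] at h'
      · refine ⟨F.1.map (homOfLE (le_trace_imOpen V.unop)).op t.1, Subtype.ext ?_⟩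
        change F.1.map (homOfLE (trace_imOpen_le V.unop)).op (F.1.map _ t.1) = t.1
        exact (map_map_eq F.1 _ _ le_rfl _).trans (map_le_refl _ _ _)
    have : IsIso ((extEmptyAdj U).unit.app F).1 := NatIso.isIso_of_isIso_app _
    exact (ObjectProperty.isIso_hom_iff _).1 this
  exact NatIso.isIso_of_isIso_app _

lemma isEmpty_stalk_extEmpty {x : X} (hx : x ∉ U) :
    IsEmpty (((extEmpty U).obj F).presheaf.stalk x) := by
  refine ⟨fun t => ?_⟩
  obtain ⟨W, hW, s, -⟩ := Presheaf.exists_germ_eq ((extEmpty U).obj F).1 (x := x) t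
  exact hx ((s : {_s : F.1.obj (op (trace U W)) // W ≤ U}).2 hW)

lemma isIso_counit_of_isEmpty {G : X.Sheaf (Type u)}
    (h : ∀ x : X, x ∉ U → IsEmpty (G.presheaf.stalk x)) :
    IsIso ((extEmptyAdj U).counit.app G) := by
  have hle : ∀ {W : Opens X}, G.1.obj (op W) → W ≤ U := fun {W} s x hx => by
    by_contra hxU
    exact (h x hxU).elim (Presheaf.germ G.1 W x hx s)
  have happ : ∀ W, IsIso (((extEmptyAdj U).counit.app G).1.app W) := fun W => by
    rw [isIso_iff_bijective]
    refine ⟨fun a b e => ?_, fun t => ?_⟩
    · obtain ⟨a, ha⟩ := a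
      obtain ⟨b, hb⟩ := b
      refine Subtype.ext ?_
      change G.1.map (homOfLE (le_imOpen_trace ha)).op a =
        G.1.map (homOfLE (le_imOpen_trace ha)).op b at e
      have e' := congrArg (G.1.map (homOfLE (imOpen_trace_le (U := U) W.unop)).op) e
      rwa [map_map_eq G.1 _ _ le_rfl, map_map_eq G.1 _ _ le_rfl, map_le_refl, map_le_refl] at e'
    · refine ⟨⟨G.1.map (homOfLE (imOpen_trace_le (U := U) W.unop)).op t, hle t⟩, ?_⟩
      change G.1.map (homOfLE (le_imOpen_trace (hle t))).op (G.1.map _ t) = t
      exact (map_map_eq G.1 _ _ le_rfl _).trans (map_le_refl _ _ _)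
  have : IsIso ((extEmptyAdj U).counit.app G).1 := NatIso.isIso_of_isIso_app _
  exact (ObjectProperty.isIso_hom_iff _).1 this

theorem leftAdjoint_restrict_spec (L : (TopCat.of U).Sheaf (Type u) ⥤ X.Sheaf (Type u))
    (adj : L ⊣ U.sheafRestrict (C := Type u)) :
    L.Full ∧ L.Faithful ∧
    ∀ G : X.Sheaf (Type u), L.essImage G ↔ ∀ x : X, x ∉ U → IsEmpty (G.presheaf.stalk x) := by
  let e : extEmpty U ≅ L := (extEmptyAdj U).leftAdjointUniq adj
  have := (extEmptyAdj U).fullyFaithfulLOfIsIsoUnit.full
  have := (extEmptyAdj U).fullyFaithfulLOfIsIsoUnit.faithful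
  refine ⟨Functor.Full.of_iso e, Functor.Faithful.of_iso e, fun G => ⟨?_, fun h => ?_⟩⟩
  · rintro ⟨F, ⟨i⟩⟩ x hx
    have := isEmpty_stalk_extEmpty F hx
    exact ⟨fun z => this.false ((((Presheaf.stalkFunctor (Type u) x).mapIso
      ((Sheaf.forget (Type u) X).mapIso (e.app F ≪≫ i))).toEquiv.symm) z)⟩
  · have := isIso_counit_of_isEmpty h
    exact ⟨_, ⟨(e.app (U.sheafRestrict.obj G)).symm ≪≫ asIso ((extEmptyAdj U).counit.app G)⟩⟩

end Groth.Agent.Topos46
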