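import Groth.Prelude.Def_W4stktopologysheavesBas
import Mathlib.Topology.Bases
import Mathlib.Topology.Sets.Opens

/-!
Sheaves of sets on a basis: cofinal systems of coverings, and germs.
-/

universe u

open TopologicalSpace

namespace Groth.Agent.Topos46

variable {X : Type u} [TopologicalSpace X] {B : Set (Opens X)}

/-- Sections agreeing on every member below both members. -/
def AgreeBelow (F : ShB.Pre B) {ι : Type u} (V : ι → B) (s : ∀ i, F.obj (V i)) : Prop :=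
  ∀ (i j : ι) (M : B) (hi : (M : Opens X) ≤ V i) (hj : (M : Opens X) ≤ V j),
    F.res hi (s i) = F.res hj (s j)

lemma exists_member (hB : Opens.IsBasis B) {W : Opens X} {x : X} (hx : x ∈ W) :
    ∃ M : B, x ∈ (M : Opens X) ∧ (M : Opens X) ≤ W := by
  obtain ⟨M, hM, hxM, hle⟩ := Opens.isBasis_iff_nbhd.1 hB hx
  exact ⟨⟨M, hM⟩, hxM, hle⟩

lemma res_congr (F : ShB.Pre B) {U V : B} (h₁ h₂ : (V : Opens X) ≤ U) (s : F.obj U) :
    F.res h₁ s = F.res h₂ s := rfl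

/-- Cover data with all members below two given ones. -/
noncomputable def mkCover (hB : Opens.IsBasis B) (U : B) {ι : Type u} (V : ι → B)
    (hle : ∀ i, (V i : Opens X) ≤ U) (hcov : (U : Opens X) ≤ ⨆ i, (V i : Opens X)) : ShB.Cover B where
  U := U
  ι := ι
  V := V
  V_le := hle
  V_cover := hcov
  κ i j := {M : B // (M : Opens X) ≤ V i ∧ (M : Opens X) ≤ V j}
  W _ _ k := k.1
  W_le_left _ _ k := k.2.1
  W_le_right _ _ k := k.2.2
  W_cover i j := fun x hx => by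
    obtain ⟨M, hxM, hle⟩ := exists_member hB hx
    exact Opens.mem_iSup.2 ⟨⟨M, hle.trans inf_le_left, hle.trans inf_le_right⟩, hxM⟩

/-- A sheaf on a basis glues families agreeing below. -/
lemma IsSheaf.glue (hB : Opens.IsBasis B) {F : ShB.Pre B} (hF : ShB.IsSheaf F) (U : B)
    {ι : Type u} (V : ι → B) (hle : ∀ i, (V i : Opens X) ≤ U)
    (hcov : (U : Opens X) ≤ ⨆ i, (V i : Opens X)) (s : ∀ i, F.obj (V i)) (hs : AgreeBelow F V s) :
    ∃! t : F.obj U, ∀ i, F.res (hle i) t = s i :=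
  hF (mkCover hB U V hle hcov) s fun i j k => hs i j k.1 k.2.1 k.2.2

lemma IsSheaf.ext (hB : Opens.IsBasis B) {F : ShB.Pre B} (hF : ShB.IsSheaf F) {U : B}
    {a b : F.obj U} (h : ∀ x ∈ (U : Opens X), ∃ (M : B) (_ : x ∈ (M : Opens X))
      (hM : (M : Opens X) ≤ U), F.res hM a = F.res hM b) : a = b := by
  choose M hxM hMU heq using fun x : (U : Opens X) => h x.1 x.2
  exact (IsSheaf.glue hB hF U M hMU (fun x hx => Opens.mem_iSup.2 ⟨⟨x, hx⟩, hxM ⟨x, hx⟩⟩)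
    (fun x => F.res (hMU x) a) (fun x y N hx hy => by rw [F.res_comp, F.res_comp])).unique
    (fun _ => rfl) fun x => (heq x).symm

section Cofinal

variable {F : ShB.Pre B} (C : ∀ U : B, Set (ShB.Cover B))

/-- The cofinality hypothesis. -/
def IsCofinal : Prop :=
  ∀ (U : B) (ι : Type u) (V : ι → B), (∀ i, (V i : Opens X) ≤ (U : Opens X)) →
    (U : Opens X) ≤ ⨆ i, (V i : Opens X) →
    ∃ c ∈ C U, ∀ i' : c.ι, ∃ i, (c.V i' : Opens X) ≤ (V i : Opens X)

variable {C}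

theorem isSheaf_of_cofinal (hB : Opens.IsBasis B) (hCU : ∀ U, ∀ c ∈ C U, c.U = U)
    (hC : IsCofinal C)
    (hu : ∀ U, ∀ c ∈ C U, ∀ a b : F.obj c.U,
      (∀ i, F.res (c.V_le i) a = F.res (c.V_le i) b) → a = b)
    (he : ∀ U, ∀ c ∈ C U, ∀ s : ∀ i, F.obj (c.V i), AgreeBelow F c.V s →
      ∃ t : F.obj c.U, ∀ i, F.res (c.V_le i) t = s i) : ShB.IsSheaf F := by
  have sep : ∀ (U : B) {ι : Type u} (V : ι → B) (hle : ∀ i, (V i : Opens X) ≤ U)
      (_ : (U : Opens X) ≤ ⨆ i, (V i : Opens X)) (a b : F.obj U),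
      (∀ i, F.res (hle i) a = F.res (hle i) b) → a = b := by
    intro U ι V hle hcov a b hab
    obtain ⟨c, hc, href⟩ := hC U ι V hle hcov
    obtain rfl := hCU U c hc
    refine hu _ c hc a b fun i' => ?_
    obtain ⟨i, hi⟩ := href i'
    rw [← F.res_comp (hle i) hi, hab, F.res_comp]
  intro c₀ s hs
  have agree : AgreeBelow F c₀.V s := by
    intro i j M hi hj
    let T := {N : B // (N : Opens X) ≤ M ∧ ∃ k, (N : Opens X) ≤ c₀.W i j k}
    refine sep M (fun N : T => N.1) (fun N => N.2.1) (fun x hx => ?_) _ _ fun N => ?_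
    · obtain ⟨k, hk⟩ := Opens.mem_iSup.1 (c₀.W_cover i j ⟨hi hx, hj hx⟩)
      obtain ⟨N, hxN, hN⟩ := exists_member hB (W := (M : Opens X) ⊓ c₀.W i j k) ⟨hx, hk⟩
      exact Opens.mem_iSup.2
        ⟨⟨N, hN.trans inf_le_left, k, hN.trans inf_le_right⟩, hxN⟩
    · obtain ⟨k, hk⟩ := N.2.2
      rw [F.res_comp, F.res_comp, ← F.res_comp (c₀.W_le_left i j k) hk, hs i j k, F.res_comp]
  obtain ⟨c, hc, href⟩ := hC c₀.U c₀.ι c₀.V c₀.V_le c₀.V_cover
  choose σ hσ using href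
  have hU := hCU _ c hc
  obtain ⟨t, ht⟩ := he _ c hc (fun i' => F.res (hσ i') (s (σ i')))
    fun i j M hi hj => by rw [F.res_comp, F.res_comp]; exact agree _ _ M _ _
  have key : ∀ (U' : B) (_ : U' = c.U) (hle : ∀ i, (c₀.V i : Opens X) ≤ U'),
      ∃ t' : F.obj U', ∀ i, F.res (hle i) t' = s i := by
    rintro _ rfl hle
    refine ⟨t, fun i => ?_⟩
    let T := {N : B // (N : Opens X) ≤ c₀.V i ∧ ∃ i', (N : Opens X) ≤ c.V i'}
    refine sep (c₀.V i) (fun N : T => N.1) (fun N => N.2.1) (fun x hx => ?_) _ _ fun N => ?_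
    · obtain ⟨i', hi'⟩ := Opens.mem_iSup.1 (c.V_cover (hle i hx))
      obtain ⟨N, hxN, hN⟩ := exists_member hB (W := (c₀.V i : Opens X) ⊓ c.V i') ⟨hx, hi'⟩
      exact Opens.mem_iSup.2
        ⟨⟨N, hN.trans inf_le_left, i', hN.trans inf_le_right⟩, hxN⟩
    · obtain ⟨i', hi'⟩ := N.2.2
      rw [F.res_comp, ← F.res_comp (c.V_le i') hi', ht i', F.res_comp]
      exact agree _ _ N.1 _ _
  obtain ⟨t', ht'⟩ := key c₀.U hU.symm c₀.V_le
  exact ⟨t', ht', fun t'' ht'' =>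
    sep _ c₀.V c₀.V_le c₀.V_cover _ _ fun i => (ht'' i).trans (ht' i).symm⟩

theorem isSheaf_iff_cofinal (hB : Opens.IsBasis B) (hCU : ∀ U, ∀ c ∈ C U, c.U = U)
    (hC : IsCofinal C) : ShB.IsSheaf F ↔ ∀ U, ∀ c ∈ C U, ShB.GluesUniquely F c := by
  refine ⟨fun hF U c _ => hF c, fun h => isSheaf_of_cofinal hB hCU hC (fun U c hc a b hab => ?_)
    fun U c hc s hs => (h U c hc s fun i j k => hs i j _ _ _).exists⟩
  exact (h U c hc (fun i => F.res (c.V_le i) a)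
    fun i j k => by rw [F.res_comp, F.res_comp]).unique (fun _ => rfl) fun i => (hab i).symm

theorem isSheaf_iff_cofinal_inter (hB : Opens.IsBasis B)
    (hBi : ∀ U ∈ B, ∀ U' ∈ B, ∀ U'' ∈ B, U' ≤ U → U'' ≤ U → U' ⊓ U'' ∈ B)
    (hCU : ∀ U, ∀ c ∈ C U, c.U = U) (hC : IsCofinal C) :
    ShB.IsSheaf F ↔ ∀ (U : B), ∀ c ∈ C U, ∀ s : ∀ i, F.obj (c.V i),
      (∀ i j, F.res (U := c.V i) (V := ⟨(c.V i : Opens X) ⊓ c.V j,
          hBi c.U c.U.2 _ (c.V i).2 _ (c.V j).2 (c.V_le i) (c.V_le j)⟩) inf_le_left (s i) =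
        F.res (U := c.V j) (V := ⟨(c.V i : Opens X) ⊓ c.V j,
          hBi c.U c.U.2 _ (c.V i).2 _ (c.V j).2 (c.V_le i) (c.V_le j)⟩) inf_le_right (s j)) →
      ∃! t : F.obj c.U, ∀ i, F.res (c.V_le i) t = s i := by
  refine ⟨fun hF U c hc s hs => IsSheaf.glue hB hF c.U c.V c.V_le c.V_cover s
    fun i j M hi hj => ?_, fun h => isSheaf_of_cofinal hB hCU hC (fun U c hc a b hab => ?_)
      fun U c hc s hs => (h U c hc s fun i j => hs i j _ _ _).exists⟩
  · have hM : (M : Opens X) ≤ (c.V i : Opens X) ⊓ c.V j := le_inf hi hj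
    have := congrArg (F.res (V := M) hM) (hs i j)
    rwa [F.res_comp, F.res_comp] at this
  · exact (h U c hc (fun i => F.res (c.V_le i) a)
      fun i j => by rw [F.res_comp, F.res_comp]).unique (fun _ => rfl) fun i => (hab i).symm

end Cofinal

section Germs

variable (hB : Opens.IsBasis B) {F : ShB.Pre B}

include hB

lemma germ_eq_iff {U V : B} {x : X} (hU : x ∈ (U : Opens X)) (hV : x ∈ (V : Opens X))
    (a : F.obj U) (b : F.obj V) :
    ShB.germ F x hU a = ShB.germ F x hV b ↔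
      ∃ (W : B) (_ : x ∈ (W : Opens X)) (ha : (W : Opens X) ≤ U) (hb : (W : Opens X) ≤ V),
        F.res ha a = F.res hb b := by
  have he : Equivalence (ShB.StalkRel F x) := by
    refine ⟨fun p => ⟨p.1.1, p.1.2, le_rfl, le_rfl, rfl⟩,
      fun ⟨W, h, ha, hb, e⟩ => ⟨W, h, hb, ha, e.symm⟩,
      fun {p q r} ⟨W, h, ha, hb, e⟩ ⟨W', h', ha', hb', e'⟩ => ?_⟩
    obtain ⟨N, hN, hle⟩ := exists_member hB (W := (W : Opens X) ⊓ W') ⟨h, h'⟩
    refine ⟨N, hN, (hle.trans inf_le_left).trans ha, (hle.trans inf_le_right).trans hb', ?_⟩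
    have e₁ := congrArg (F.res (V := N) (hle.trans inf_le_left)) e
    have e₂ := congrArg (F.res (V := N) (hle.trans inf_le_right)) e'
    rw [F.res_comp, F.res_comp] at e₁ e₂
    exact e₁.trans e₂
  exact he.quot_mk_eq_iff _ _

lemma germ_res {U V : B} {x : X} (h : (V : Opens X) ≤ U) (hx : x ∈ (V : Opens X)) (a : F.obj U) :
    ShB.germ F x hx (F.res h a) = ShB.germ F x (h hx) a :=
  (germ_eq_iff hB _ _ _ _).2 ⟨V, hx, le_rfl, h, F.res_id _ _⟩

theorem germs_injective (hF : ShB.IsSheaf F) (U : B) :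
    Function.Injective
      (fun (s : F.obj U) (x : (U : Opens X)) => ShB.germ F x.1 x.2 s) := by
  intro a b hab
  refine IsSheaf.ext hB hF fun x hx => ?_
  obtain ⟨W, hW, ha, hb, e⟩ := (germ_eq_iff hB _ _ a b).1 (congrFun hab ⟨x, hx⟩)
  exact ⟨W, hW, ha, e⟩

theorem germs_range (hF : ShB.IsSheaf F) (U : B) (f : ∀ x : (U : Opens X), ShB.Stalk F x.1) :
    (∃ s : F.obj U, ∀ x, ShB.germ F x.1 x.2 s = f x) ↔
      ∀ x : (U : Opens X), ∃ (V : B) (hxV : x.1 ∈ (V : Opens X))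
        (hVU : (V : Opens X) ≤ (U : Opens X)) (σ : F.obj V),
        ∀ (y : X) (hy : y ∈ (V : Opens X)), ShB.germ F y hy σ = f ⟨y, hVU hy⟩ := by
  constructor
  · rintro ⟨s, hs⟩ x
    exact ⟨U, x.2, le_rfl, s, fun y hy => hs ⟨y, hy⟩⟩
  · intro h
    choose V hxV hVU σ hσ using h
    obtain ⟨t, ht, -⟩ := IsSheaf.glue hB hF U V hVU
      (fun x hx => Opens.mem_iSup.2 ⟨⟨x, hx⟩, hxV ⟨x, hx⟩⟩) σ fun x y M hx hy => by
        refine germs_injective hB hF M (funext fun z => ?_)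
        change ShB.germ F z.1 z.2 _ = ShB.germ F z.1 z.2 _
        rw [germ_res hB, germ_res hB, hσ, hσ]
    refine ⟨t, fun x => ?_⟩
    rw [← hσ x x.1 (hxV x), ← ht x, germ_res hB]

end Germs

end Groth.Agent.Topos46
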