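import Mathlib.CategoryTheory.Sites.Point.OfIsCofiltered
import Mathlib.CategoryTheory.Limits.Shapes.FiniteProducts
import Mathlib.CategoryTheory.Limits.Constructions.FiniteProductsOfBinaryProducts
import Mathlib.CategoryTheory.CofilteredSystem

/-!
One step in the construction of points of a site with finitary coverings: adjoining witnesses
for all finite coverings at once.
-/

universe u

open CategoryTheory CategoryTheory.Limits Opposite

namespace Groth.Agent.Topos46.Deligne

variable {C : Type u} [SmallCategory C] {J : GrothendieckTopology C}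

/-- A finite covering of an element of a set-valued functor. -/
structure Req (J : GrothendieckTopology C) (F : C ⥤ Type u) : Type u where
  /-- The base object. -/
  Y : C
  /-- The element. -/
  y : F.obj Y
  /-- The number of members. -/
  m : ℕ
  /-- The members. -/
  V : Fin m → C
  /-- The maps. -/
  g : ∀ k, V k ⟶ Y
  cov : Sieve.ofArrows V g ∈ J Y

variable {F : C ⥤ Type u}

/-- `x` is not in the image of the sieve `S`, in a stable way. -/
def Good (J : GrothendieckTopology C) (F : C ⥤ Type u) {X : C} (x : F.obj X) (S : Sieve X) : Prop :=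
  ∀ (U : C) (a : F.obj U) (q : U ⟶ X), F.map q a = x → S.pullback q ∉ J U

lemma Good.not_mem {X : C} {x : F.obj X} {S : Sieve X} (h : Good J F x S) {U : C} (a : F.obj U)
    (q : U ⟶ X) (ha : F.map q a = x) : ¬ S q := fun hq => h U a q ha (by
  rw [Sieve.pullback_eq_top_of_mem _ hq]
  exact J.top_mem U)

variable [HasFiniteLimits C]

/-- The product of the bases of finitely many requirements. -/
noncomputable abbrev prodY (E : Finset (Req J F)) : C := ∏ᶜ fun r : {r // r ∈ E} => r.1.Y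

/-- A projection from the product of the bases. -/
noncomputable abbrev prY (E : Finset (Req J F)) (r : Req J F) (hr : r ∈ E) : prodY E ⟶ r.Y :=
  Pi.π (fun r : {r // r ∈ E} => r.1.Y) ⟨r, hr⟩

/-- The product of the chosen members. -/
noncomputable abbrev prodV (E : Finset (Req J F)) (σ : ∀ r : {r // r ∈ E}, Fin r.1.m) : C :=
  ∏ᶜ fun r : {r // r ∈ E} => r.1.V (σ r)

/-- The product of the chosen maps. -/
noncomputable abbrev prodG (E : Finset (Req J F)) (σ : ∀ r : {r // r ∈ E}, Fin r.1.m) :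
    prodV E σ ⟶ prodY E :=
  Limits.Pi.map fun r => r.1.g (σ r)

/-- A stage: an element lying over the bases of finitely many requirements. -/
structure Stage (J : GrothendieckTopology C) (F : C ⥤ Type u) where
  /-- The requirements. -/
  E : Finset (Req J F)
  /-- The object. -/
  U : C
  /-- The element. -/
  a : F.obj U
  /-- The map to the bases. -/
  q : U ⟶ prodY E
  hq : ∀ r, F.map (q ≫ Pi.π _ r) a = r.1.y

namespace Stage

/-- A morphism of stages. -/
@[ext]
structure Hom (s t : Stage J F) : Type u where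
  /-- The map of objects. -/
  h : s.U ⟶ t.U
  sub : t.E ⊆ s.E
  ha : F.map h s.a = t.a
  comm : ∀ (r) (hr : r ∈ t.E), h ≫ t.q ≫ Pi.π _ ⟨r, hr⟩ = s.q ≫ Pi.π _ ⟨r, sub hr⟩

instance : SmallCategory (Stage J F) where
  Hom := Hom
  id s := ⟨𝟙 _, fun _ h => h, by simp, fun r hr => by simp⟩
  comp f g := ⟨f.h ≫ g.h, fun _ h => f.sub (g.sub h), by simp [f.ha, g.ha], fun r hr => by
    rw [Category.assoc, g.comm r hr, f.comm r (g.sub hr)]⟩
  id_comp f := by ext; simp
  comp_id f := by ext; simp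
  assoc f g h := by ext; simp

@[simp] lemma comp_h {s t r : Stage J F} (f : s ⟶ t) (g : t ⟶ r) : (f ≫ g).h = f.h ≫ g.h := rfl

@[simp] lemma id_h (s : Stage J F) : Hom.h (𝟙 s) = 𝟙 _ := rfl

@[ext]
lemma hom_ext {s t : Stage J F} {f g : s ⟶ t} (h : f.h = g.h) : f = g := Hom.ext h

/-- Restriction of a stage to fewer requirements. -/
noncomputable def restrict (s : Stage J F) (E : Finset (Req J F)) (h : E ⊆ s.E) : Stage J F where
  E := E
  U := s.U
  a := s.a
  q := Pi.lift fun r => s.q ≫ prY s.E r.1 (h r.2)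
  hq r := by rw [Pi.lift_π]; exact s.hq _

end Stage

variable [IsCofiltered F.Elements]

omit [HasFiniteLimits C] in
lemma exists_over {U₁ U₂ : C} (a₁ : F.obj U₁) (a₂ : F.obj U₂) :
    ∃ (U : C) (a : F.obj U) (h₁ : U ⟶ U₁) (h₂ : U ⟶ U₂), F.map h₁ a = a₁ ∧ F.map h₂ a = a₂ :=
  let p := IsCofiltered.min (F.elementsMk U₁ a₁) (F.elementsMk U₂ a₂)
  let l : p ⟶ F.elementsMk U₁ a₁ := IsCofiltered.minToLeft _ _
  let r : p ⟶ F.elementsMk U₂ a₂ := IsCofiltered.minToRight _ _
  ⟨p.1, p.2, l.1, r.1, l.2, r.2⟩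

omit [HasFiniteLimits C] in
lemma exists_equalize {U V : C} (a : F.obj U) (f g : U ⟶ V) (h : F.map f a = F.map g a) :
    ∃ (W : C) (b : F.obj W) (e : W ⟶ U), F.map e b = a ∧ e ≫ f = e ≫ g := by
  let f' : F.elementsMk U a ⟶ F.elementsMk V (F.map f a) := CategoryOfElements.homMk _ _ f rfl
  let g' : F.elementsMk U a ⟶ F.elementsMk V (F.map f a) := CategoryOfElements.homMk _ _ g h.symm
  exact ⟨(IsCofiltered.eq f' g').1, (IsCofiltered.eq f' g').2, (IsCofiltered.eqHom f' g').1,
    (IsCofiltered.eqHom f' g').2, congrArg Subtype.val (IsCofiltered.eq_condition f' g')⟩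

lemma exists_equalize_pi {U : C} (a : F.obj U) {E : Finset (Req J F)} (q₁ q₂ : U ⟶ prodY E)
    (h : ∀ r, F.map (q₁ ≫ Pi.π _ r) a = F.map (q₂ ≫ Pi.π _ r) a) :
    ∃ (W : C) (b : F.obj W) (e : W ⟶ U), F.map e b = a ∧ e ≫ q₁ = e ≫ q₂ := by
  suffices H : ∀ s : Finset {r // r ∈ E}, ∃ (W : C) (b : F.obj W) (e : W ⟶ U), F.map e b = a ∧
      ∀ r ∈ s, e ≫ q₁ ≫ Pi.π _ r = e ≫ q₂ ≫ Pi.π _ r by
    obtain ⟨W, b, e, he, hs⟩ := H Finset.univ
    exact ⟨W, b, e, he, Pi.hom_ext _ _ fun r => by simpa using hs r (Finset.mem_univ r)⟩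
  intro s
  classical
  induction s using Finset.induction with
  | empty => exact ⟨U, a, 𝟙 U, by simp, by simp⟩
  | insert r s _ ih =>
    obtain ⟨W, b, e, he, hs⟩ := ih
    obtain ⟨W', b', e', he', hr⟩ := exists_equalize b (e ≫ q₁ ≫ Pi.π _ r) (e ≫ q₂ ≫ Pi.π _ r)
      (by simp only [Functor.map_comp_apply, he]; simpa using h r)
    refine ⟨W', b', e' ≫ e, by simp [he', he], fun t ht => ?_⟩
    rcases Finset.mem_insert.1 ht with rfl | ht
    · simpa using hr
    · simp [hs t ht]

lemma exists_stage (E : Finset (Req J F)) : ∃ (U : C) (a : F.obj U) (q : U ⟶ prodY E),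
    ∀ r, F.map (q ≫ Pi.π _ r) a = r.1.y := by
  classical
  obtain ⟨o, ho⟩ := IsCofiltered.inf_objs_exists
    (Finset.univ.image fun r : {r // r ∈ E} => F.elementsMk r.1.Y r.1.y)
  let f := fun r : {r // r ∈ E} => (ho (Finset.mem_image_of_mem _ (Finset.mem_univ r))).some
  exact ⟨o.1, o.2, Pi.lift fun r => (f r).1, fun r => by rw [Pi.lift_π]; exact (f r).2⟩

lemma Stage.exists_refine (s : Stage J F) (E : Finset (Req J F)) (hE : s.E ⊆ E) :
    ∃ (t : Stage J F), t.E = E ∧ Nonempty (t ⟶ s) := by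
  obtain ⟨U, a, q, hq⟩ := exists_stage E
  obtain ⟨W, b, h₁, h₂, hb₁, hb₂⟩ := exists_over s.a a
  obtain ⟨W', b', e, he, heq⟩ := exists_equalize_pi b (h₁ ≫ s.q)
    (Pi.lift fun r : {r // r ∈ s.E} => h₂ ≫ q ≫ Pi.π (fun r : {r // r ∈ E} => r.1.Y) ⟨r.1, hE r.2⟩)
    (fun r => by
      rw [Pi.lift_π, Category.assoc, Functor.map_comp_apply, hb₁, s.hq]
      rw [Functor.map_comp_apply, hb₂, hq])
  refine ⟨⟨E, W', b', e ≫ h₂ ≫ q, fun r => ?_⟩, rfl,
    ⟨⟨e ≫ h₁, hE, ?_, fun r hr => ?_⟩⟩⟩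
  · rw [Category.assoc, Category.assoc, Functor.map_comp_apply, he, Functor.map_comp_apply, hb₂,
      hq]
  · rw [Functor.map_comp_apply, he, hb₁]
  · have := heq =≫ Pi.π _ ⟨r, hr⟩
    simpa using this

instance : IsCofiltered (Stage J F) := by
  classical
  have : IsCofilteredOrEmpty (Stage J F) := by
    constructor
    · intro s t
      obtain ⟨s', hs', ⟨f⟩⟩ := s.exists_refine (s.E ∪ t.E) Finset.subset_union_left
      obtain ⟨t', ht', ⟨g⟩⟩ := t.exists_refine (s.E ∪ t.E) Finset.subset_union_right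
      obtain ⟨W, b, h₁, h₂, hb₁, hb₂⟩ := exists_over s'.a t'.a
      have hsub : t'.E ⊆ s'.E := by rw [hs', ht']
      obtain ⟨W', b', e, he, heq⟩ := exists_equalize_pi b
        (h₂ ≫ t'.q) (h₁ ≫ Pi.lift fun r => s'.q ≫ prY s'.E r.1 (hsub r.2)) (fun r => by
          rw [Category.assoc, Category.assoc, Pi.lift_π, Functor.map_comp_apply, hb₂, t'.hq,
            Functor.map_comp_apply, hb₁, s'.hq])
      let o : Stage J F := ⟨s'.E, W', b', e ≫ h₁ ≫ s'.q, fun r => by
        rw [Category.assoc, Category.assoc, Functor.map_comp_apply, he, Functor.map_comp_apply,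
          hb₁, s'.hq]⟩
      let u : o ⟶ s' := ⟨e ≫ h₁, fun _ h => h, by rw [Functor.map_comp_apply, he, hb₁],
        fun r hr => by simp [o]⟩
      let v : o ⟶ t' := ⟨e ≫ h₂, hsub, by rw [Functor.map_comp_apply, he, hb₂],
        fun r hr => by simpa [o] using heq =≫ Pi.π _ ⟨r, hr⟩⟩
      exact ⟨o, u ≫ f, v ≫ g, trivial⟩
    · intro s t f g
      obtain ⟨W, b, e, he, heq⟩ := exists_equalize s.a f.h g.h (f.ha.trans g.ha.symm)
      refine ⟨⟨s.E, W, b, e ≫ s.q, fun r => by
        rw [Category.assoc, Functor.map_comp_apply, he, s.hq]⟩,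
        ⟨e, fun _ h => h, he, fun r hr => by simp⟩, Stage.hom_ext heq⟩
  obtain ⟨U, a, q, hq⟩ := exists_stage (∅ : Finset (Req J F))
  exact { nonempty := ⟨⟨∅, U, a, q, hq⟩⟩ }

section Choice

attribute [local simp] pullback.lift_fst pullback.lift_fst_assoc pullback.lift_snd pullback.lift_snd_assoc

variable {X : C} {x : F.obj X} {S : Sieve X}

/-- The object of a stage for a given choice of members. -/
noncomputable abbrev stageP (s : Stage J F) (σ : ∀ r : {r // r ∈ s.E}, Fin r.1.m) : C :=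
  pullback s.q (prodG s.E σ)

/-- Compatibility of a finite choice with goodness. -/
def OK (J : GrothendieckTopology C) {F : C ⥤ Type u} {X : C} (x : F.obj X) (S : Sieve X)
    (E : Finset (Req J F)) (σ : ∀ r : {r // r ∈ E}, Fin r.1.m) : Prop :=
  ∀ (U : C) (a : F.obj U) (q : U ⟶ prodY E), (∀ r, F.map (q ≫ Pi.π _ r) a = r.1.y) →
    ∀ h : U ⟶ X, F.map h a = x → S.pullback (pullback.fst q (prodG E σ) ≫ h) ∉ J _

omit [IsCofiltered F.Elements] in
lemma mem_of_forall_pullback {E : Finset (Req J F)} {U : C} (q : U ⟶ prodY E) (T : Sieve U)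
    (h : ∀ σ, T.pullback (pullback.fst q (prodG E σ)) ∈ J _) : T ∈ J U := by
  classical
  let A : {r // r ∈ E} → Sieve U := fun r =>
    (Sieve.ofArrows r.1.V r.1.g).pullback (q ≫ Pi.π _ r)
  have hA : ∀ s : Finset {r // r ∈ E}, s.inf A ∈ J U := by
    intro s
    induction s using Finset.induction with
    | empty => rw [Finset.inf_empty]; exact J.top_mem U
    | insert r s _ ih =>
      rw [Finset.inf_insert]
      exact J.intersection_covering (J.pullback_stable _ r.1.cov) ih
  refine J.transitive (hA Finset.univ) T fun {W} k hk => ?_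
  have hk' : ∀ r, ∃ (i : Fin r.1.m) (l : W ⟶ r.1.V i), l ≫ r.1.g i = k ≫ q ≫ Pi.π _ r := fun r => by
    obtain ⟨_, l, _, ⟨i⟩, e⟩ := (Finset.inf_le (Finset.mem_univ r) : Finset.univ.inf A ≤ A r) _ hk
    exact ⟨i, l, e⟩
  choose σ l hl using hk'
  let m : W ⟶ pullback q (prodG E σ) := pullback.lift k (Pi.lift l)
    (Pi.hom_ext _ _ fun r => by simp [hl r])
  have := J.pullback_stable m (h σ)
  rwa [← Sieve.pullback_comp, pullback.lift_fst] at this

lemma exists_ok (hgood : Good J F x S) (E : Finset (Req J F)) : ∃ σ, OK J x S E σ := by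
  by_contra hne
  simp only [OK, not_exists, not_forall, not_not] at hne
  choose U a q hq h hx hc using hne
  classical
  obtain ⟨U₀, a₀, q₀, hq₀⟩ := exists_stage E
  suffices H : ∀ T₀ : Finset (∀ r : {r // r ∈ E}, Fin r.1.m),
      ∃ (W : C) (b : F.obj W) (q' : W ⟶ prodY E) (h' : W ⟶ X), F.map h' b = x ∧
        (∀ r, F.map (q' ≫ Pi.π _ r) b = r.1.y) ∧
        ∀ σ ∈ T₀, (S.pullback h').pullback (pullback.fst q' (prodG E σ)) ∈ J _ by
    obtain ⟨W, b, q', h', hb, -, hall⟩ := H Finset.univ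
    exact hgood W b h' hb (mem_of_forall_pullback q' _ fun σ => hall σ (Finset.mem_univ σ))
  intro T₀
  induction T₀ using Finset.induction with
  | empty =>
    obtain ⟨W, b, h₁, h₂, hb₁, hb₂⟩ := exists_over a₀ x
    exact ⟨W, b, h₁ ≫ q₀, h₂, hb₂, fun r => by
      rw [Category.assoc, Functor.map_comp_apply, hb₁, hq₀], by simp⟩
  | insert σ T₀ _ ih =>
    obtain ⟨W, b, q', h', hb, hqb, hall⟩ := ih
    obtain ⟨W₁, b₁, l₁, l₂, hl₁, hl₂⟩ := exists_over b (a σ)
    obtain ⟨W₂, b₂, e, he, heq⟩ := exists_equalize_pi b₁ (l₁ ≫ q') (l₂ ≫ q σ) (fun r => by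
      rw [Category.assoc, Category.assoc, Functor.map_comp_apply, hl₁, hqb,
        Functor.map_comp_apply, hl₂, hq])
    obtain ⟨W₃, b₃, e', he', heq'⟩ := exists_equalize b₂ (e ≫ l₁ ≫ h') (e ≫ l₂ ≫ h σ) (by
      simp only [Functor.map_comp_apply, he, hl₁, hl₂, hb, hx])
    refine ⟨W₃, b₃, e' ≫ e ≫ l₁ ≫ q', e' ≫ e ≫ l₁ ≫ h',
      by simp only [Functor.map_comp_apply, he', he, hl₁, hb],
      fun r => by simp only [Category.assoc, Functor.map_comp_apply, he', he, hl₁, ← hqb r],
      fun τ hτ => ?_⟩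
    rw [← Sieve.pullback_comp]
    rcases Finset.mem_insert.1 hτ with rfl | hτ
    · let m : pullback (e' ≫ e ≫ l₁ ≫ q') (prodG E τ) ⟶ pullback (q τ) (prodG E τ) :=
        pullback.map _ _ _ _ (e' ≫ e ≫ l₂) (𝟙 _) (𝟙 _) (by simpa using e' ≫= heq) (by simp)
      have := J.pullback_stable m (hc τ)
      rw [← Sieve.pullback_comp] at this
      simp only [m, pullback.map, pullback.lift_fst_assoc, Category.assoc] at this
      rwa [← heq'] at this
    · let m : pullback (e' ≫ e ≫ l₁ ≫ q') (prodG E τ) ⟶ pullback q' (prodG E τ) :=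
        pullback.map _ _ _ _ (e' ≫ e ≫ l₁) (𝟙 _) (𝟙 _) (by simp) (by simp)
      have := J.pullback_stable m (hall τ hτ)
      rw [← Sieve.pullback_comp, ← Sieve.pullback_comp] at this
      simpa only [m, pullback.map, pullback.lift_fst_assoc, Category.assoc] using this

lemma ok_restrict {E E' : Finset (Req J F)} (hE : E ⊆ E') {σ : ∀ r : {r // r ∈ E'}, Fin r.1.m}
    (hσ : OK J x S E' σ) : OK J x S E fun r => σ ⟨r.1, hE r.2⟩ := by
  intro U a q hq h hx hc
  obtain ⟨⟨E₁, W, b, q', hq'⟩, hE₁, ⟨⟨g, sub, hg, comm⟩⟩⟩ :=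
    (⟨E, U, a, q, hq⟩ : Stage J F).exists_refine E' hE
  obtain rfl : E₁ = E' := hE₁
  refine hσ W b q' hq' (g ≫ h) (by rw [Functor.map_comp_apply]; simp only [hg, hx]) ?_
  let m : pullback q' (prodG E₁ σ) ⟶ pullback q (prodG E fun r => σ ⟨r.1, hE r.2⟩) :=
    pullback.map _ _ _ _ g (Pi.lift fun r => Pi.π _ (⟨r.1, hE r.2⟩ : {r // r ∈ E₁}))
      (Pi.lift fun r => Pi.π _ (⟨r.1, hE r.2⟩ : {r // r ∈ E₁}))
      (Pi.hom_ext _ _ fun r => by simpa using (comm r.1 r.2).symm)
      (Pi.hom_ext _ _ fun r => by simp)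
  have := J.pullback_stable m hc
  rw [← Sieve.pullback_comp] at this
  simpa only [m, pullback.map, pullback.lift_fst_assoc, Category.assoc] using this

lemma exists_choice (hgood : Good J F x S) :
    ∃ c : ∀ r : Req J F, Fin r.m, ∀ E, OK J x S E fun r => c r.1 := by
  classical
  let G : (Finset (Req J F))ᵒᵖ ⥤ Type u :=
    { obj := fun E => {σ : ∀ r : {r // r ∈ E.unop}, Fin r.1.m // OK J x S E.unop σ}
      map := fun {E E'} h => ↾fun σ =>
        ⟨fun r => σ.1 ⟨r.1, leOfHom h.unop r.2⟩, ok_restrict (leOfHom h.unop) σ.2⟩ }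
  have : ∀ E, Finite (G.obj E) := fun E => Subtype.finite
  have : ∀ E, Nonempty (G.obj E) := fun E =>
    let ⟨σ, hσ⟩ := exists_ok hgood E.unop
    ⟨⟨σ, hσ⟩⟩
  obtain ⟨s, hs⟩ := nonempty_sections_of_finite_inverse_system G
  let c : ∀ r : Req J F, Fin r.m := fun r => (s (op {r})).1 ⟨r, Finset.mem_singleton_self r⟩
  refine ⟨c, fun E => ?_⟩
  have e : (s (op E)).1 = fun r : {r // r ∈ E} => c r.1 := funext fun r : {r // r ∈ E} =>
    congrArg (fun σ : G.obj (op {r.1}) => σ.1 ⟨r.1, Finset.mem_singleton_self r.1⟩)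
      (hs (homOfLE (Finset.singleton_subset_iff.2 r.2)).op)
  exact e ▸ (s (op E)).2

variable (c : ∀ r : Req J F, Fin r.m)

/-- The functor of witnesses. -/
noncomputable def stageFun : Stage J F ⥤ C where
  obj s := stageP s fun r => c r.1
  map {s t} f := pullback.map _ _ _ _ f.h
    (Pi.lift fun r => Pi.π _ (⟨r.1, f.sub r.2⟩ : {r // r ∈ s.E}))
    (Pi.lift fun r => Pi.π _ (⟨r.1, f.sub r.2⟩ : {r // r ∈ s.E}))
    (Pi.hom_ext _ _ fun r => by simpa using (f.comm r.1 r.2).symm)
    (Pi.hom_ext _ _ fun r => by simp)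
  map_id s := by
    apply pullback.hom_ext
    · simp [pullback.map]
    · exact Pi.hom_ext _ _ fun r => by simp [pullback.map]
  map_comp f g := by
    apply pullback.hom_ext
    · simp [pullback.map]
    · exact Pi.hom_ext _ _ fun r => by simp [pullback.map]

omit [IsCofiltered F.Elements] in
@[simp, reassoc]
lemma stageFun_map_fst {s t : Stage J F} (f : s ⟶ t) :
    (stageFun c).map f ≫ pullback.fst t.q _ = pullback.fst s.q _ ≫ f.h :=
  pullback.lift_fst _ _ _

open GrothendieckTopology.Point.ofIsCofiltered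

instance : InitiallySmall.{u} (Stage J F) := InitiallySmall.mk' (𝟭 _)

theorem exists_step (hgood : Good J F x S) :
    ∃ (G : C ⥤ Type u) (_ : IsCofiltered G.Elements) (η : F ⟶ G),
      Good J G (η.app X x) S ∧ ∀ r : Req J F, ∃ (k : Fin r.m) (z : G.obj (r.V k)),
        G.map (r.g k) z = η.app r.Y r.y := by
  classical
  obtain ⟨c, hc⟩ := exists_choice hgood
  let p := stageFun c
  let base : ∀ (Y : C), F.obj Y → Stage J F := fun Y y =>
    ⟨∅, Y, y, Pi.lift fun r => absurd r.2 (Finset.notMem_empty r.1),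
      fun r => absurd r.2 (Finset.notMem_empty r.1)⟩
  have hbase : ∀ (Y : C) (y : F.obj Y) (s : Stage J F) (h : s.U ⟶ Y), F.map h s.a = y →
      fiberMk.{u} (p := p) (U := base Y y) (pullback.fst _ _) =
        fiberMk.{u} (p := p) (U := s) (pullback.fst _ _ ≫ h) := by
    intro Y y s h hh
    let f : s ⟶ base Y y :=
      ⟨h, Finset.empty_subset _, hh, fun r hr => absurd hr (Finset.notMem_empty r)⟩
    rw [← fiberMk_map_comp p f (pullback.fst _ _)]
    exact congrArg fiberMk (stageFun_map_fst c f)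
  let η : F ⟶ fiber.{u} p :=
    { app := fun Y => ↾fun y => fiberMk.{u} (p := p) (U := base Y y) (pullback.fst _ _)
      naturality := fun Y Y' g => by
        apply ConcreteCategory.hom_ext
        intro y
        refine (hbase Y' (F.map g y) (base Y y) g rfl).trans ?_
        exact (fiber_map_fiberMk p (U := base Y y) (pullback.fst _ _) g).symm }
  refine ⟨fiber.{u} p, IsCofiltered.of_initial (functor.{u} p), η, ?_, fun r => ?_⟩
  · intro Z z t ht hcov
    obtain ⟨s, f, rfl⟩ := fiberMk_jointly_surjective z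
    let o := IsCofiltered.min s (base X x)
    let u := IsCofiltered.minToLeft s (base X x)
    let v := IsCofiltered.minToRight s (base X x)
    have ht' : fiberMk.{u} (p := p) (p.map u ≫ f ≫ t) =
        fiberMk.{u} (p := p) (p.map v ≫ pullback.fst _ _) := by
      rw [fiberMk_map_comp, fiberMk_map_comp, ← fiber_map_fiberMk]
      exact ht
    obtain ⟨o', w, hw⟩ := exists_of_fiberMk_eq_fiberMk ht'
    refine hc o'.E o'.U o'.a o'.q o'.hq (w ≫ v).h (w ≫ v).ha ?_
    have e : pullback.fst o'.q (prodG o'.E fun r => c r.1) ≫ (w ≫ v).h =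
        (p.map w ≫ p.map u ≫ f) ≫ t := by
      rw [Category.assoc, Category.assoc, hw, ← Category.assoc, ← p.map_comp]
      exact (stageFun_map_fst c (w ≫ v)).symm
    have := J.pullback_stable (p.map w ≫ p.map u ≫ f) hcov
    rw [← Sieve.pullback_comp, ← e] at this
    exact this
  · obtain ⟨U, a, q, hq⟩ := exists_stage ({r} : Finset (Req J F))
    let s : Stage J F := ⟨{r}, U, a, q, hq⟩
    let i : {r' // r' ∈ ({r} : Finset (Req J F))} := ⟨r, Finset.mem_singleton_self r⟩
    refine ⟨c r, fiberMk.{u} (p := p) (U := s) (pullback.snd _ _ ≫ Pi.π _ i), ?_⟩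
    refine Eq.trans ?_ (hbase r.Y r.y s (q ≫ Pi.π _ i) (hq i)).symm
    rw [fiber_map_fiberMk]
    exact congrArg fiberMk (((Category.assoc _ _ _).trans
      (congrArg (pullback.snd _ _ ≫ ·) (Limits.Pi.map_π (fun r' => r'.1.g (c r'.1)) i).symm)).trans
        (pullback.condition_assoc (Pi.π (fun r' : {r' // r' ∈ ({r} : Finset (Req J F))} => r'.1.Y) i)).symm)

end Choice

end Groth.Agent.Topos46.Deligne
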