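import Groth.Agent.Topos46.SubQuot
import Mathlib.CategoryTheory.Monoidal.Cartesian.Grp
import Mathlib.Tactic.Group

/-!
Quotients of sheaves of groups by subgroup sheaves, with generalised elements.
-/

universe v u

open CategoryTheory CategoryTheory.Limits MonoidalCategory CartesianMonoidalCategory MonObj

namespace Groth.Agent.Topos46

/-- All equivalence relations are universally effective. -/
class HasEffRel (A : Type u) [Category.{v} A] : Prop where
  eff : ∀ {R X : A} (p₁ p₂ : R ⟶ X) [IsEquivalenceRelation p₁ p₂],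
    IsUniversallyEffectiveEquivalenceRelation p₁ p₂

variable {A : Type u} [Category.{v} A] [CartesianMonoidalCategory A] [HasPullbacks A]
  [HasCoequalizers A] [IsRegularEpiCategory A]
  [(MorphismProperty.epimorphisms A).IsStableUnderBaseChange]
  [HasEffRel A]

section Descent

variable {X Y B B' W Z : A}

lemma exists_desc_of_epi (π : X ⟶ B) [Epi π] (a : X ⟶ Z)
    (h : ∀ {W : A} (x y : W ⟶ X), x ≫ π = y ≫ π → x ≫ a = y ≫ a) :
    ∃ d : B ⟶ Z, π ≫ d = a :=
  have := IsRegularEpiCategory.regularEpiOfEpi π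
  ⟨EffectiveEpi.desc π a fun x y hxy => h x y hxy, EffectiveEpi.fac _ _ _⟩

lemma epi_of_local_lift (f : X ⟶ B)
    (h : ∀ {W : A} (a : W ⟶ B), ∃ (W' : A) (e : W' ⟶ W) (_ : Epi e)
      (x : W' ⟶ X), x ≫ f = e ≫ a) : Epi f := by
  obtain ⟨W', e, he, x, hx⟩ := h (𝟙 B)
  rw [Category.comp_id] at hx
  exact epi_of_epi_fac hx

lemma epi_tensorHom (f : X ⟶ B) (g : Y ⟶ B') [Epi f] [Epi g] : Epi (f ⊗ₘ g) :=
  epi_of_local_lift _ fun a => by
    obtain ⟨W', e, he, x, y, hx, hy⟩ := exists_epi_lift₂ f g (a ≫ fst _ _) (a ≫ snd _ _)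
    exact ⟨W', e, he, lift x y, CartesianMonoidalCategory.hom_ext _ _ (by simpa using hx)
      (by simpa using hy)⟩

lemma epi_whiskerLeft (P : A) (g : Y ⟶ B') [Epi g] : Epi (P ◁ g) :=
  epi_of_local_lift _ fun a => by
    obtain ⟨W', e, he, y, hy⟩ := exists_epi_lift g (a ≫ snd _ _)
    exact ⟨W', e, he, lift (e ≫ a ≫ fst _ _) y, CartesianMonoidalCategory.hom_ext _ _
      (by simp) (by simpa using hy)⟩

end Descent

section Coset

variable {H G : A} [GrpObj H] [GrpObj G] (u : H ⟶ G) [IsMonHom u]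

/-- The second map `(g, h) ↦ g * u h` of the coset relation. -/
abbrev cosetMap : G ⊗ H ⟶ G := (G ◁ u) ≫ μ[G]

/-- The quotient map of the coset relation. -/
noncomputable abbrev qmap : G ⟶ coequalizer (fst G H) (cosetMap u) :=
  coequalizer.π _ _

omit [IsMonHom u] [GrpObj H] in
lemma comp_cosetMap {W : A} (a : W ⟶ G ⊗ H) :
    a ≫ cosetMap u = (a ≫ fst G H) * (a ≫ snd G H ≫ u) := by
  rw [Hom.mul_def, ← Category.assoc]
  congr 1
  ext <;> simp

variable [Mono u]

lemma isEquivalenceRelation_coset : IsEquivalenceRelation (fst G H) (cosetMap u) := by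
  have hjm : JointlyMono₂ (fst G H) (cosetMap u) := ⟨fun W a b h₁ h₂ => by
    rw [comp_cosetMap, comp_cosetMap, h₁] at h₂
    exact CartesianMonoidalCategory.hom_ext _ _ h₁
      ((cancel_mono u).1 (by simpa using mul_left_cancel h₂))⟩
  have hw := pullback.condition (f := cosetMap u) (g := fst G H)
  refine ⟨⟨{ right_cancellation := hjm.right_cancellation
             r := lift (𝟙 G) 1
             reflexivity₁ := lift_fst _ _
             reflexivity₂ := ?_
             s := lift (cosetMap u) (snd G H)⁻¹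
             symmetry₁ := lift_fst _ _
             symmetry₂ := ?_
             c := pullback.cone (cosetMap u) (fst G H)
             isLimit := pullback.isLimit _ _
             t := lift (pullback.fst (cosetMap u) (fst G H) ≫ fst G H)
               ((pullback.fst (cosetMap u) (fst G H) ≫ snd G H) *
                (pullback.snd (cosetMap u) (fst G H) ≫ snd G H))
             transitivity₁ := lift_fst _ _
             transitivity₂ := ?_ }⟩⟩
  · simp [comp_cosetMap, lift_snd_assoc, MonObj.one_comp]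
  · rw [comp_cosetMap, lift_fst, lift_snd_assoc, GrpObj.inv_comp]
    conv_lhs => arg 1; rw [← Category.id_comp (cosetMap u), comp_cosetMap]
    simp
  · change _ = pullback.snd _ _ ≫ cosetMap u
    rw [comp_cosetMap, comp_cosetMap, lift_fst, lift_snd_assoc, MonObj.mul_comp, ← hw,
      comp_cosetMap]
    simp [_root_.mul_assoc]

lemma isKernelPair_qmap : IsKernelPair (qmap u) (fst G H) (cosetMap u) := by
  have := isEquivalenceRelation_coset u
  obtain ⟨e⟩ := (HasEffRel.eff
    (fst G H) (cosetMap u)).nonempty_universallyEffectiveEquivalenceRelation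
  let i := (e.isCoequalizer).coconePointUniqueUpToIso
    (colimit.isColimit (parallelPair (fst G H) (cosetMap u)))
  have hi : e.π ≫ i.hom = qmap u :=
    IsColimit.comp_coconePointUniqueUpToIso_hom e.isCoequalizer
      (colimit.isColimit (parallelPair (fst G H) (cosetMap u))) WalkingParallelPair.one
  exact IsPullback.of_iso e.isKernelPair (Iso.refl _) (Iso.refl _) (Iso.refl _) i
    (by simp) (by simp) (by simpa using hi) (by simpa using hi)

variable {W : A}

lemma qmap_eq_iff (x y : W ⟶ G) :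
    x ≫ qmap u = y ≫ qmap u ↔ ∃ h : W ⟶ H, x * (h ≫ u) = y := by
  constructor
  · intro h
    obtain ⟨a, ha, hb⟩ : ∃ a : W ⟶ G ⊗ H, a ≫ fst G H = x ∧ a ≫ cosetMap u = y :=
      ⟨(isKernelPair_qmap u).lift x y h, (isKernelPair_qmap u).lift_fst _ _ _,
        (isKernelPair_qmap u).lift_snd _ _ _⟩
    exact ⟨a ≫ snd G H, by rw [← hb, comp_cosetMap, ha, Category.assoc]⟩
  · rintro ⟨h, rfl⟩
    have := lift x h ≫= coequalizer.condition (fst G H) (cosetMap u)
    rwa [lift_fst_assoc, ← Category.assoc (lift x h), comp_cosetMap, lift_fst, lift_snd_assoc]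
      at this

/-- Being contained in `H` as a subgroup: the normality condition. -/
def IsNormalHom {H G : A} [GrpObj G] (u : H ⟶ G) : Prop :=
  ∀ (Y : A) (g : Y ⟶ G) (h : Y ⟶ H), ∃ h' : Y ⟶ H, g * (h ≫ u) * g⁻¹ = h' ≫ u

lemma IsNormalHom.exists_right (hn : IsNormalHom u) (g : W ⟶ G) (h : W ⟶ H) :
    ∃ h' : W ⟶ H, g⁻¹ * (h ≫ u) * g = h' ≫ u := by
  obtain ⟨h', hh⟩ := hn W g⁻¹ h
  exact ⟨h', by simpa using hh⟩

lemma qmap_mul_congr (hn : IsNormalHom u) {x x' y y' : W ⟶ G} (hx : x ≫ qmap u = x' ≫ qmap u)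
    (hy : y ≫ qmap u = y' ≫ qmap u) : (x * y) ≫ qmap u = (x' * y') ≫ qmap u := by
  obtain ⟨h, rfl⟩ := (qmap_eq_iff u x x').1 hx
  obtain ⟨k, rfl⟩ := (qmap_eq_iff u y y').1 hy
  obtain ⟨h', hh⟩ := hn.exists_right u y h
  refine (qmap_eq_iff u _ _).2 ⟨h' * k, ?_⟩
  rw [MonObj.mul_comp, ← hh]
  group

lemma qmap_inv_congr (hn : IsNormalHom u) {x x' : W ⟶ G} (hx : x ≫ qmap u = x' ≫ qmap u) :
    x⁻¹ ≫ qmap u = x'⁻¹ ≫ qmap u := by
  obtain ⟨h, rfl⟩ := (qmap_eq_iff u x x').1 hx
  obtain ⟨h', hh⟩ := hn W x h⁻¹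
  refine (qmap_eq_iff u _ _).2 ⟨h', ?_⟩
  rw [← hh, GrpObj.inv_comp]
  group

omit [IsMonHom u] [Mono u] [GrpObj H] in
/-- To compare two morphisms into anything, it suffices to do so on local lifts. -/
lemma ext_of_lift {Z : A} (a : W ⟶ coequalizer (fst G H) (cosetMap u))
    {f g : W ⟶ Z}
    (h : ∀ (W' : A) (e : W' ⟶ W) (x : W' ⟶ G), x ≫ qmap u = e ≫ a →
      e ≫ f = e ≫ g) : f = g := by
  obtain ⟨W', e, he, x, hx⟩ := exists_epi_lift (qmap u) a
  exact (cancel_epi e).1 (h W' e x hx)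

/-- The group structure on the quotient by a normal subgroup sheaf. -/
lemma exists_grpObj (hn : IsNormalHom u) :
    ∃ str : GrpObj (coequalizer (fst G H) (cosetMap u)),
      @IsMonHom A _ _ _ _ _ str.toMonObj (qmap u) := by
  have hqq := epi_tensorHom (qmap u) (qmap u)
  obtain ⟨m, hm⟩ := exists_desc_of_epi (qmap u ⊗ₘ qmap u) (μ[G] ≫ qmap u) (fun x y hxy => by
    rw [MonObj.mul_eq_mul, ← Category.assoc, ← Category.assoc, comp_mul, comp_mul]
    exact qmap_mul_congr u hn (by simpa using hxy =≫ fst _ _) (by simpa using hxy =≫ snd _ _))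
  obtain ⟨i, hi⟩ := exists_desc_of_epi (qmap u) (GrpObj.inv ≫ qmap u) (fun x y hxy => by
    rw [← Category.assoc, ← Category.assoc, ← Hom.inv_def, ← Hom.inv_def]
    exact qmap_inv_congr u hn hxy)
  have hm' : ∀ {W : A} (x y : W ⟶ G),
      lift (x ≫ qmap u) (y ≫ qmap u) ≫ m = (x * y) ≫ qmap u := fun x y => by
    rw [← lift_map, Category.assoc, hm, Hom.mul_def, Category.assoc]
  have hi' : ∀ {W : A} (x : W ⟶ G), x ≫ qmap u ≫ i = x⁻¹ ≫ qmap u := fun x => by
    rw [hi, Hom.inv_def, Category.assoc]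
  let M : MonObj (coequalizer (fst G H) (cosetMap u)) :=
    { one := η[G] ≫ qmap u
      mul := m
      one_mul := by
        refine ext_of_lift u (snd _ _) fun W' e x hx => ?_
        have hl : (η[G] ≫ qmap u) ▷ coequalizer (fst G H) (cosetMap u) =
            lift (fst _ _ ≫ η[G] ≫ qmap u) (snd _ _) := by ext <;> simp
        rw [hl, ← Category.assoc, comp_lift, ← hx,
          show e ≫ fst _ _ ≫ η[G] ≫ qmap u = (1 : W' ⟶ G) ≫ qmap u by
            rw [Hom.one_def, Category.assoc, ← Category.assoc e,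
              toUnit_unique (e ≫ fst _ _) (toUnit W')],
          hm', _root_.one_mul, hx, leftUnitor_hom]
      mul_one := by
        refine ext_of_lift u (fst _ _) fun W' e x hx => ?_
        have hl : coequalizer (fst G H) (cosetMap u) ◁ (η[G] ≫ qmap u) =
            lift (fst _ _) (snd _ _ ≫ η[G] ≫ qmap u) := by ext <;> simp
        rw [hl, ← Category.assoc, comp_lift, ← hx,
          show e ≫ snd _ _ ≫ η[G] ≫ qmap u = (1 : W' ⟶ G) ≫ qmap u by
            rw [Hom.one_def, Category.assoc, ← Category.assoc e,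
              toUnit_unique (e ≫ snd _ _) (toUnit W')],
          hm', _root_.mul_one, hx, rightUnitor_hom]
      mul_assoc := by
        have hq := epi_tensorHom (qmap u ⊗ₘ qmap u) (qmap u)
        rw [← cancel_epi ((qmap u ⊗ₘ qmap u) ⊗ₘ qmap u)]
        let a := fst (G ⊗ G) G ≫ fst G G
        let b := fst (G ⊗ G) G ≫ snd G G
        let c := snd (G ⊗ G) G
        have e₁ : ((qmap u ⊗ₘ qmap u) ⊗ₘ qmap u) ≫ (m ▷ coequalizer (fst G H) (cosetMap u)) =
            lift (lift (a ≫ qmap u) (b ≫ qmap u) ≫ m) (c ≫ qmap u) := by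
          ext
          · simp only [Category.assoc, whiskerRight_fst, tensorHom_fst_assoc, lift_fst]
            rw [← Category.assoc (fst _ _)]
            congr 1
            ext <;> simp [a, b]
          · simp [c]
        have e₂ : ((qmap u ⊗ₘ qmap u) ⊗ₘ qmap u) ≫ (α_ _ _ _).hom ≫
            (coequalizer (fst G H) (cosetMap u) ◁ m) =
            lift (a ≫ qmap u) (lift (b ≫ qmap u) (c ≫ qmap u) ≫ m) := by
          ext
          · simp [a]
          · simp only [Category.assoc, whiskerLeft_snd, lift_snd]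
            simp only [← Category.assoc]
            congr 1
            ext <;> simp [b, c]
        rw [reassoc_of% e₁, reassoc_of% e₂, hm', hm', hm', hm', _root_.mul_assoc] }
  letI := M
  refine ⟨{ toMonObj := M, inv := i, left_inv := ?_, right_inv := ?_ }, ?_⟩
  · refine ext_of_lift u (𝟙 _) fun W' e x hx => ?_
    rw [Category.comp_id] at hx
    subst hx
    change _ ≫ lift i (𝟙 _) ≫ m = _ ≫ toUnit _ ≫ η[G] ≫ qmap u
    rw [← Category.assoc, comp_lift, Category.comp_id, Category.assoc, hi', hm', inv_mul_cancel,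
      comp_toUnit_assoc, Hom.one_def, Category.assoc]
  · refine ext_of_lift u (𝟙 _) fun W' e x hx => ?_
    rw [Category.comp_id] at hx
    subst hx
    change _ ≫ lift (𝟙 _) i ≫ m = _ ≫ toUnit _ ≫ η[G] ≫ qmap u
    rw [← Category.assoc, comp_lift, Category.comp_id, Category.assoc, hi', hm', mul_inv_cancel,
      comp_toUnit_assoc, Hom.one_def, Category.assoc]
  · exact { one_hom := rfl, mul_hom := hm.symm }

lemma existsUnique_grpObj (hn : IsNormalHom u) :
    ∃! str : GrpObj (coequalizer (fst G H) (cosetMap u)),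
      @IsMonHom A _ _ _ _ _ str.toMonObj (qmap u) := by
  obtain ⟨str, hstr⟩ := exists_grpObj u hn
  refine ⟨str, hstr, fun str' hstr' => GrpObj.ext _ _ (MonObj.ext _ _ ?_)⟩
  have := epi_tensorHom (qmap u) (qmap u)
  exact (cancel_epi (qmap u ⊗ₘ qmap u)).1 (hstr'.mul_hom.symm.trans hstr.mul_hom)

/-- The action by left translations on the quotient. -/
lemma existsUnique_act :
    ∃! act : G ⊗ coequalizer (fst G H) (cosetMap u) ⟶ coequalizer (fst G H) (cosetMap u),
      (η[G] ▷ coequalizer (fst G H) (cosetMap u)) ≫ act =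
          (λ_ (coequalizer (fst G H) (cosetMap u))).hom ∧
        (μ[G] ▷ coequalizer (fst G H) (cosetMap u)) ≫ act =
          (α_ G G (coequalizer (fst G H) (cosetMap u))).hom ≫ (G ◁ act) ≫ act ∧
        μ[G] ≫ qmap u = (G ◁ qmap u) ≫ act := by
  have hG := epi_whiskerLeft G (qmap u)
  obtain ⟨act, hact⟩ := exists_desc_of_epi (G ◁ qmap u) (μ[G] ≫ qmap u) (fun x y hxy => by
    rw [MonObj.mul_eq_mul, ← Category.assoc, ← Category.assoc, comp_mul, comp_mul]
    have h₁ : x ≫ fst G G = y ≫ fst G G := by simpa using hxy =≫ fst _ _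
    obtain ⟨h, hh⟩ := (qmap_eq_iff u _ _).1
      (show (x ≫ snd G G) ≫ qmap u = (y ≫ snd G G) ≫ qmap u by simpa using hxy =≫ snd _ _)
    exact (qmap_eq_iff u _ _).2 ⟨h, by rw [← h₁, ← hh, _root_.mul_assoc]⟩)
  have ha : ∀ {W : A} (x y : W ⟶ G),
      lift x (y ≫ qmap u) ≫ act = (x * y) ≫ qmap u := fun x y => by
    rw [show lift x (y ≫ qmap u) = lift x y ≫ (G ◁ qmap u) by ext <;> simp, Category.assoc, hact,
      Hom.mul_def, Category.assoc]
  refine ⟨act, ⟨?_, ?_, hact.symm⟩, fun act' h' => (cancel_epi (G ◁ qmap u)).1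
    (h'.2.2.symm.trans hact.symm)⟩
  · refine ext_of_lift u (snd _ _) fun W' e x hx => ?_
    rw [show η[G] ▷ coequalizer (fst G H) (cosetMap u) = lift (fst _ _ ≫ η[G]) (snd _ _) by
        ext <;> simp, ← Category.assoc, comp_lift, ← hx,
      show e ≫ fst _ _ ≫ η[G] = 1 by
        rw [Hom.one_def, ← Category.assoc, toUnit_unique (e ≫ fst _ _) (toUnit W')],
      ha, _root_.one_mul, hx, leftUnitor_hom]
  · refine ext_of_lift u (snd _ _) fun W' e x hx => ?_
    let a := e ≫ fst (G ⊗ G) _ ≫ fst G G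
    let b := e ≫ fst (G ⊗ G) _ ≫ snd G G
    have e₁ : e ≫ (μ[G] ▷ coequalizer (fst G H) (cosetMap u)) = lift (a * b) (x ≫ qmap u) := by
      rw [hx, Hom.mul_def]
      ext
      · simp only [Category.assoc, whiskerRight_fst, lift_fst]
        rw [← Category.assoc]
        congr 1
        ext <;> simp [a, b]
      · simp
    have e₂ : e ≫ (α_ G G (coequalizer (fst G H) (cosetMap u))).hom ≫ (G ◁ act) =
        lift a (lift b (x ≫ qmap u) ≫ act) := by
      rw [hx]
      ext
      · simp [a]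
      · simp only [Category.assoc, whiskerLeft_snd, lift_snd]
        simp only [← Category.assoc]
        congr 1
        ext <;> simp [b]
    rw [reassoc_of% e₁, reassoc_of% e₂, ha, ha, ha, _root_.mul_assoc]

end Coset

section Image

/-- Images exist: a subobject whose elements are the ones lifting locally. -/
lemma exists_image {X Y : A} (f : X ⟶ Y) :
    ∃ S : Subobject Y, ∀ {W : A} (a : W ⟶ Y), S.Factors a ↔
      ∃ (W' : A) (e : W' ⟶ W) (_ : Epi e) (x : W' ⟶ X), x ≫ f = e ≫ a := by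
  have hk := IsPullback.of_hasPullback f f
  have hR : IsEquivalenceRelation (pullback.fst f f) (pullback.snd f f) :=
    (IsKernelPair.equivalenceRelation f _ _ (pullback.isLimit _ _) hk).isEquivalenceRelation
  obtain ⟨e⟩ :=
    (HasEffRel.eff (pullback.fst f f) (pullback.snd f f)).nonempty_universallyEffectiveEquivalenceRelation
  let m : e.B ⟶ Y := e.isPushout.desc f f pullback.condition
  have hm : e.π ≫ m = f := e.isPushout.inl_desc _ _ _
  have : Epi e.π := ⟨fun a b h => e.isPushout.hom_ext h h⟩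
  have : Mono m := ⟨fun {W} a b hab => by
    obtain ⟨W', k, hk', x, y, hx, hy⟩ := exists_epi_lift₂ e.π e.π a b
    have hxy : x ≫ f = y ≫ f := (congrArg (x ≫ ·) hm.symm).trans
      ((show x ≫ e.π ≫ m = y ≫ e.π ≫ m by rw [reassoc_of% hx, reassoc_of% hy, hab]).trans
        (congrArg (y ≫ ·) hm))
    refine (cancel_epi k).1 ?_
    rw [← hx, ← hy, ← pullback.lift_fst x y hxy, Category.assoc, e.isPushout.w,
      ← Category.assoc, pullback.lift_snd]⟩
  refine ⟨Subobject.mk m, fun {W} a => ⟨fun h => ?_, ?_⟩⟩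
  · obtain ⟨g, rfl⟩ := (sub_mk_factors_iff _ _).1 h
    obtain ⟨W', k, hk', x, hx⟩ := exists_epi_lift e.π g
    exact ⟨W', k, hk', x, (congrArg (x ≫ ·) hm.symm).trans
      (show x ≫ e.π ≫ m = k ≫ g ≫ m by rw [reassoc_of% hx])⟩
  · rintro ⟨W', k, hk', x, hx⟩
    exact sub_factors_of_epi k ((sub_mk_factors_iff _ _).2
      ⟨x ≫ e.π, by rw [Category.assoc, hm, hx]⟩)

end Image

section Subgroup

variable {G : A} [GrpObj G]

/-- A subobject of a group object closed under the group operations. -/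
def IsSubgrp (S : Subobject G) : Prop :=
  (∀ W : A, S.Factors (1 : W ⟶ G)) ∧
    (∀ {W : A} (a b : W ⟶ G), S.Factors a → S.Factors b → S.Factors (a * b)) ∧
    ∀ {W : A} (a : W ⟶ G), S.Factors a → S.Factors a⁻¹

omit [HasPullbacks A] [HasCoequalizers A] [IsRegularEpiCategory A]
  [(MorphismProperty.epimorphisms A).IsStableUnderBaseChange] [HasEffRel A]

lemma isSubgrp_of_isMonHom {S : Subobject G} [GrpObj (S : A)] [IsMonHom S.arrow] : IsSubgrp S := by
  refine ⟨fun W => ?_, fun a b ha hb => ?_, fun a ha => ?_⟩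
  · rw [← MonObj.one_comp S.arrow]
    exact Subobject.factors_comp_arrow _
  · rw [← S.factorThru_arrow a ha, ← S.factorThru_arrow b hb, ← MonObj.mul_comp]
    exact Subobject.factors_comp_arrow _
  · rw [← S.factorThru_arrow a ha, ← GrpObj.inv_comp]
    exact Subobject.factors_comp_arrow _

lemma isSubgrp_of_str {S : Subobject G}
    (h : ∃ str : GrpObj (S : A), @IsMonHom A _ _ _ _ str.toMonObj _ S.arrow) : IsSubgrp S := by
  obtain ⟨str, hstr⟩ := h
  exact @isSubgrp_of_isMonHom A _ _ G _ S str hstr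

lemma IsSubgrp.exists_str {S : Subobject G} (h : IsSubgrp S) :
    ∃ str : GrpObj (S : A), @IsMonHom A _ _ _ _ str.toMonObj _ S.arrow := by
  obtain ⟨o, ho⟩ : ∃ o : 𝟙_ A ⟶ (S : A), o ≫ S.arrow = η[G] :=
    ⟨_, S.factorThru_arrow η[G] (by rw [MonObj.one_eq_one]; exact h.1 _)⟩
  obtain ⟨m, hm⟩ : ∃ m : (S : A) ⊗ (S : A) ⟶ (S : A),
      m ≫ S.arrow = (fst _ _ ≫ S.arrow) * (snd _ _ ≫ S.arrow) :=
    ⟨_, S.factorThru_arrow _ (h.2.1 _ _ (Subobject.factors_comp_arrow _)
      (Subobject.factors_comp_arrow _))⟩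
  obtain ⟨i, hi⟩ : ∃ i : (S : A) ⟶ (S : A), i ≫ S.arrow = S.arrow⁻¹ :=
    ⟨_, S.factorThru_arrow _ (h.2.2 _ S.factors_self)⟩
  let M : MonObj (S : A) :=
    { one := o
      mul := m
      one_mul := by
        rw [← cancel_mono S.arrow, Category.assoc, hm, comp_mul, whiskerRight_fst_assoc,
          whiskerRight_snd_assoc, ho, leftUnitor_hom,
          show fst (𝟙_ A) (S : A) = toUnit _ from toUnit_unique _ _]
        simp [← Hom.one_def]
      mul_one := by
        rw [← cancel_mono S.arrow, Category.assoc, hm, comp_mul, whiskerLeft_fst_assoc,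
          whiskerLeft_snd_assoc, ho,
          rightUnitor_hom, show snd (S : A) (𝟙_ A) = toUnit _ from toUnit_unique _ _]
        simp [← Hom.one_def]
      mul_assoc := by
        rw [← cancel_mono S.arrow]
        simp [hm, comp_mul, _root_.mul_assoc] }
  let str : GrpObj (S : A) :=
    { toMonObj := M
      inv := i
      left_inv := by
        rw [← cancel_mono S.arrow, Category.assoc, show M.mul = m from rfl, hm, comp_mul,
          lift_fst_assoc, lift_snd_assoc, hi, Category.id_comp, inv_mul_cancel, Category.assoc,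
          show M.one = o from rfl, ho, ← Hom.one_def]
      right_inv := by
        rw [← cancel_mono S.arrow, Category.assoc, show M.mul = m from rfl, hm, comp_mul,
          lift_fst_assoc, lift_snd_assoc, hi, Category.id_comp, mul_inv_cancel, Category.assoc,
          show M.one = o from rfl, ho, ← Hom.one_def] }
  refine ⟨str, { one_hom := ho, mul_hom := ?_ }⟩
  change m ≫ S.arrow = _
  rw [hm, Hom.mul_def]
  congr 1
  ext <;> simp

end Subgroup

section Correspondence

variable {H G : A} [GrpObj H] [GrpObj G] (u : H ⟶ G) [IsMonHom u] [Mono u]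
  [GrpObj (coequalizer (fst G H) (cosetMap u))] [IsMonHom (qmap u)]

theorem bijOn_subgrp :
    Set.BijOn (Subobject.pullback (qmap u)).obj {K' | IsSubgrp K'}
      {K | Subobject.mk u ≤ K ∧ IsSubgrp K} := by
  have h1 : ∀ {W : A} (h : W ⟶ H), (h ≫ u) ≫ qmap u = 1 := fun h => by
    rw [(qmap_eq_iff u (1 : _ ⟶ G) (h ≫ u)).2 ⟨h, _root_.one_mul _⟩ |>.symm, MonObj.one_comp]
  refine ⟨fun K' hK' => ⟨sub_le_iff_factors.2 fun T x hx => ?_,
    fun W => ?_, fun a b ha hb => ?_, fun a ha => ?_⟩, fun S _ S' _ h => ?_, fun K hK => ?_⟩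
  · obtain ⟨h, rfl⟩ := (sub_mk_factors_iff _ _).1 hx
    rw [sub_pullback_factors_iff, h1]
    exact hK'.1 _
  · rw [sub_pullback_factors_iff, MonObj.one_comp]
    exact hK'.1 _
  · rw [sub_pullback_factors_iff] at ha hb ⊢
    rw [MonObj.mul_comp]
    exact hK'.2.1 _ _ ha hb
  · rw [sub_pullback_factors_iff] at ha ⊢
    rw [GrpObj.inv_comp]
    exact hK'.2.2 _ ha
  · have key : ∀ S S' : Subobject (coequalizer (fst G H) (cosetMap u)),
        (Subobject.pullback (qmap u)).obj S ≤ (Subobject.pullback (qmap u)).obj S' → S ≤ S' :=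
      fun S S' h => sub_le_iff_factors.2 fun T a ha => by
      obtain ⟨W', e, _, x, hx⟩ := exists_epi_lift (qmap u) a
      refine sub_factors_of_epi e (hx ▸ (sub_pullback_factors_iff x).1
        (Subobject.factors_of_le x h ((sub_pullback_factors_iff x).2 ?_)))
      rw [hx]
      exact Subobject.factors_of_factors_right e ha
    exact le_antisymm (key _ _ h.le) (key _ _ h.ge)
  · obtain ⟨hH, hS⟩ := hK
    obtain ⟨K', hK'⟩ := exists_image (K.arrow ≫ qmap u)
    refine ⟨K', ⟨fun W => ?_, fun a b ha hb => ?_, fun a ha => ?_⟩, ?_⟩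
    · refine (hK' _).2 ⟨W, 𝟙 W, inferInstance, K.factorThru _ (hS.1 W), ?_⟩
      rw [Category.id_comp, ← Category.assoc, Subobject.factorThru_arrow, MonObj.one_comp]
    · obtain ⟨W₁, e₁, _, x, hx⟩ := (hK' _).1 ha
      obtain ⟨W₂, e₂, _, y, hy⟩ := (hK' _).1 (Subobject.factors_of_factors_right e₁ hb)
      refine (hK' _).2 ⟨W₂, e₂ ≫ e₁, inferInstance, K.factorThru _
        (hS.2.1 _ _ (Subobject.factors_comp_arrow (e₂ ≫ x)) (Subobject.factors_comp_arrow y)), ?_⟩
      rw [← Category.assoc, Subobject.factorThru_arrow, MonObj.mul_comp, comp_mul,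
        Category.assoc, Category.assoc, Category.assoc, Category.assoc, hx, hy, Category.assoc]
    · obtain ⟨W₁, e₁, _, x, hx⟩ := (hK' _).1 ha
      refine (hK' _).2 ⟨W₁, e₁, inferInstance,
        K.factorThru _ (hS.2.2 _ (Subobject.factors_comp_arrow x)), ?_⟩
      rw [← Category.assoc, Subobject.factorThru_arrow, GrpObj.inv_comp, GrpObj.comp_inv,
        Category.assoc, hx]
    · refine le_antisymm (sub_le_iff_factors.2 fun T x hx => ?_)
        (sub_le_iff_factors.2 fun T x hx => ?_)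
      · rw [sub_pullback_factors_iff, hK'] at hx
        obtain ⟨W', k, hk, y, hy⟩ := hx
        obtain ⟨h, hh⟩ := (qmap_eq_iff u (y ≫ K.arrow) (k ≫ x)).1 (by simpa using hy)
        refine sub_factors_of_epi k (hh ▸ hS.2.1 _ _ (Subobject.factors_comp_arrow y)
          (Subobject.factors_of_le _ hH ((sub_mk_factors_iff _ _).2 ⟨h, rfl⟩)))
      · rw [sub_pullback_factors_iff, hK']
        exact ⟨T, 𝟙 T, inferInstance, K.factorThru x hx, by simp⟩

theorem normal_iff (K' : Subobject (coequalizer (fst G H) (cosetMap u))) :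
    (∀ (Y : A) (g : Y ⟶ coequalizer (fst G H) (cosetMap u)) (k : Y ⟶ (K' : A)),
        ∃ k' : Y ⟶ (K' : A), g * (k ≫ K'.arrow) * g⁻¹ = k' ≫ K'.arrow) ↔
      (∀ (Y : A) (g : Y ⟶ G) (k : Y ⟶ ((Subobject.pullback (qmap u)).obj K' : A)),
        ∃ k' : Y ⟶ ((Subobject.pullback (qmap u)).obj K' : A),
          g * (k ≫ ((Subobject.pullback (qmap u)).obj K').arrow) * g⁻¹ =
            k' ≫ ((Subobject.pullback (qmap u)).obj K').arrow) := by
  constructor
  · intro h Y g k
    refine ⟨_, (Subobject.factorThru_arrow _ _ ((sub_pullback_factors_iff _).2 ?_)).symm⟩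
    have hk : K'.Factors ((k ≫ ((Subobject.pullback (qmap u)).obj K').arrow) ≫ qmap u) :=
      (sub_pullback_factors_iff _).1 (Subobject.factors_comp_arrow k)
    obtain ⟨k', hk'⟩ := h Y (g ≫ qmap u) (K'.factorThru _ hk)
    rw [Subobject.factorThru_arrow] at hk'
    rw [MonObj.mul_comp, MonObj.mul_comp, GrpObj.inv_comp, hk']
    exact Subobject.factors_comp_arrow _
  · intro h Y g k
    obtain ⟨W', e, _, x, y, hx, hy⟩ := exists_epi_lift₂ (qmap u) (qmap u) g (k ≫ K'.arrow)
    refine ⟨_, (Subobject.factorThru_arrow _ _ (sub_factors_of_epi e ?_)).symm⟩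
    have hyK : ((Subobject.pullback (qmap u)).obj K').Factors y := by
      rw [sub_pullback_factors_iff, hy, ← Category.assoc]
      exact Subobject.factors_comp_arrow _
    obtain ⟨k', hk'⟩ := h W' x (Subobject.factorThru _ y hyK)
    rw [Subobject.factorThru_arrow] at hk'
    rw [comp_mul, comp_mul, GrpObj.comp_inv, ← hx, ← hy, ← GrpObj.inv_comp, ← MonObj.mul_comp,
      ← MonObj.mul_comp, hk', ← sub_pullback_factors_iff]
    exact Subobject.factors_comp_arrow _

theorem correspondence (hn : IsNormalHom u) :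
    Set.BijOn (Subobject.pullback (qmap u)).obj
      {K' : Subobject (coequalizer (fst G H) (cosetMap u)) |
        ∃ str : GrpObj (K' : A), @IsMonHom A _ _ _ _ str.toMonObj _ K'.arrow}
      {K : Subobject G | Subobject.mk u ≤ K ∧
        ∃ str : GrpObj (K : A), @IsMonHom A _ _ _ _ str.toMonObj _ K.arrow} ∧
    ∀ (K' : Subobject (coequalizer (fst G H) (cosetMap u))),
      ((∀ (Y : A) (g : Y ⟶ coequalizer (fst G H) (cosetMap u)) (k : Y ⟶ (K' : A)),
        ∃ k' : Y ⟶ (K' : A), g * (k ≫ K'.arrow) * g⁻¹ = k' ≫ K'.arrow) ↔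
      (∀ (Y : A) (g : Y ⟶ G) (k : Y ⟶ ((Subobject.pullback (qmap u)).obj K' : A)),
        ∃ k' : Y ⟶ ((Subobject.pullback (qmap u)).obj K' : A),
          g * (k ≫ ((Subobject.pullback (qmap u)).obj K').arrow) * g⁻¹ =
            k' ≫ ((Subobject.pullback (qmap u)).obj K').arrow)) := by
  refine ⟨?_, normal_iff u⟩
  have h₁ : {K' : Subobject (coequalizer (fst G H) (cosetMap u)) |
      ∃ str : GrpObj (K' : A), @IsMonHom A _ _ _ _ str.toMonObj _ K'.arrow} = {K' | IsSubgrp K'} :=
    Set.ext fun K' => ⟨isSubgrp_of_str, IsSubgrp.exists_str⟩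
  have h₂ : {K : Subobject G | Subobject.mk u ≤ K ∧
      ∃ str : GrpObj (K : A), @IsMonHom A _ _ _ _ str.toMonObj _ K.arrow} =
      {K | Subobject.mk u ≤ K ∧ IsSubgrp K} :=
    Set.ext fun K => and_congr_right fun _ => ⟨isSubgrp_of_str, IsSubgrp.exists_str⟩
  rw [h₁, h₂]
  exact bijOn_subgrp u

end Correspondence

section Relative

variable {H L G : A} [GrpObj H] [GrpObj L] [GrpObj G]

theorem isKernelPair_inter (u : H ⟶ G) (l : L ⟶ G) [IsMonHom u] [IsMonHom l] [Mono u] [Mono l] :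
    IsKernelPair (l ≫ qmap u) (fst L (pullback u l)) ((L ◁ pullback.snd u l) ≫ μ[L]) := by
  have hc : ∀ {W : A} (a : W ⟶ L ⊗ pullback u l),
      a ≫ (L ◁ pullback.snd u l) ≫ μ[L] = (a ≫ fst _ _) * (a ≫ snd _ _ ≫ pullback.snd u l) :=
    fun a => comp_cosetMap (pullback.snd u l) a
  have hl : ∀ {W : A} (a : W ⟶ L ⊗ pullback u l), (a ≫ fst _ _) ≫ l ≫ qmap u =
      (a ≫ (L ◁ pullback.snd u l) ≫ μ[L]) ≫ l ≫ qmap u := fun a => by
    simp only [hc, ← Category.assoc _ l, MonObj.mul_comp]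
    refine (qmap_eq_iff u _ _).2 ⟨a ≫ snd _ _ ≫ pullback.fst u l, ?_⟩
    simp [pullback.condition]
  refine IsPullback.of_isLimit' ⟨by simpa using hl (𝟙 _)⟩
    (PullbackCone.IsLimit.mk _
      (fun s => lift s.fst (pullback.lift
        ((qmap_eq_iff u (s.fst ≫ l) (s.snd ≫ l)).1 (by simpa using s.condition)).choose
        (s.fst⁻¹ * s.snd) (by
          rw [MonObj.mul_comp, GrpObj.inv_comp, eq_inv_mul_iff_mul_eq]
          exact ((qmap_eq_iff u (s.fst ≫ l) (s.snd ≫ l)).1
            (by simpa using s.condition)).choose_spec)))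
      (fun s => lift_fst _ _)
      (fun s => by rw [hc, lift_fst, lift_snd_assoc, pullback.lift_snd, mul_inv_cancel_left])
      fun s m h₁ h₂ => ?_)
  apply CartesianMonoidalCategory.hom_ext
  · rw [lift_fst]; exact h₁
  · rw [lift_snd, ← cancel_mono (pullback.snd u l), pullback.lift_snd, Category.assoc,
      eq_inv_mul_iff_mul_eq, ← h₁, ← h₂, hc]

theorem quotient_of_quotient {H K G : A} [GrpObj H] [GrpObj K] [GrpObj G] (h : H ⟶ K) (k : K ⟶ G)
    [IsMonHom h] [IsMonHom k] [Mono h] [Mono k]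
    (act : coequalizer (fst G H) (cosetMap (h ≫ k)) ⊗ coequalizer (fst K H) (cosetMap h) ⟶
      coequalizer (fst G H) (cosetMap (h ≫ k)))
    (hact : (qmap (h ≫ k) ⊗ₘ qmap h) ≫ act = (G ◁ k) ≫ μ[G] ≫ qmap (h ≫ k))
    (qbar : coequalizer (fst G H) (cosetMap (h ≫ k)) ⟶ coequalizer (fst G K) (cosetMap k))
    (hq : qmap (h ≫ k) ≫ qbar = qmap k) :
    Mono (lift act (fst _ _)) ∧
    ∃ wq : fst _ _ ≫ qbar = act ≫ qbar, Nonempty (IsColimit (Cofork.ofπ qbar wq)) := by
  have ha : ∀ {W : A} (x : W ⟶ G) (y : W ⟶ K), lift (x ≫ qmap (h ≫ k)) (y ≫ qmap h) ≫ act =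
      (x * (y ≫ k)) ≫ qmap (h ≫ k) := fun x y => by
    rw [← lift_map, Category.assoc, hact, ← Category.assoc (G ◁ k), ← Category.assoc,
      comp_cosetMap, lift_fst, lift_snd_assoc]
  refine ⟨⟨fun {W} a b hab => ?_⟩, ?_⟩
  · have hf : a ≫ fst _ _ = b ≫ fst _ _ := by simpa using hab =≫ snd _ _
    have hab' : a ≫ act = b ≫ act := by simpa using hab =≫ fst _ _
    obtain ⟨W₁, e₁, _, x, y, hx, hy⟩ :=
      exists_epi_lift₂ (qmap (h ≫ k)) (qmap h) (a ≫ fst _ _) (a ≫ snd _ _)
    obtain ⟨W₂, e₂, _, y', hy'⟩ := exists_epi_lift (qmap h) (e₁ ≫ b ≫ snd _ _)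
    have ea : e₂ ≫ e₁ ≫ a = lift ((e₂ ≫ x) ≫ qmap (h ≫ k)) ((e₂ ≫ y) ≫ qmap h) := by
      ext <;> simp [hx, hy]
    have eb : e₂ ≫ e₁ ≫ b = lift ((e₂ ≫ x) ≫ qmap (h ≫ k)) (y' ≫ qmap h) := by
      ext <;> simp [hx, hy', hf]
    refine (cancel_epi (e₂ ≫ e₁)).1 ?_
    rw [Category.assoc, Category.assoc, ea, eb]
    congr 1
    have e := e₂ ≫= e₁ ≫= hab'
    rw [reassoc_of% ea, reassoc_of% eb, ← Category.assoc e₂ x, ← Category.assoc e₂ y, ha, ha] at e
    obtain ⟨z, hz⟩ := (qmap_eq_iff (h ≫ k) _ _).1 e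
    refine (qmap_eq_iff h _ _).2 ⟨z, (cancel_mono k).1 (mul_left_cancel (a := e₂ ≫ x) ?_)⟩
    rw [MonObj.mul_comp, ← _root_.mul_assoc]
    simpa using hz
  · have hwq : fst _ _ ≫ qbar = act ≫ qbar := by
      have := epi_tensorHom (qmap (h ≫ k)) (qmap h)
      rw [← cancel_epi (qmap (h ≫ k) ⊗ₘ qmap h), reassoc_of% hact, tensorHom_fst_assoc, hq,
        ← Category.assoc]
      exact coequalizer.condition (fst G K) (cosetMap k)
    have hepi : Epi qbar := epi_of_epi_fac hq
    have hs : ∀ s : Cofork (fst _ _) act, fst G K ≫ qmap (h ≫ k) ≫ s.π =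
        cosetMap k ≫ qmap (h ≫ k) ≫ s.π := fun s => by
      rw [Category.assoc, ← reassoc_of% hact, ← s.condition, tensorHom_fst_assoc]
    exact ⟨hwq, ⟨Cofork.IsColimit.mk _
      (fun s => coequalizer.desc (qmap (h ≫ k) ≫ s.π) (hs s))
      (fun s => (cancel_epi (qmap (h ≫ k))).1 (by
        rw [Cofork.π_ofπ, reassoc_of% hq, coequalizer.π_desc]))
      fun s m hm => (cancel_epi qbar).1 (hm.trans (((cancel_epi (qmap (h ≫ k))).1 (by
        rw [reassoc_of% hq, coequalizer.π_desc])).symm))⟩⟩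

end Relative

end Groth.Agent.Topos46
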