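import Groth.Agent.Topos46.Qc

/-!
Quasi-separated morphisms and objects of a sheaf topos, through equalizers.
-/

universe u

open CategoryTheory CategoryTheory.Limits Opposite ToposFin

namespace Groth.Agent.Topos46

variable {C : Type u} [SmallCategory C] {J : GrothendieckTopology C} {X Y Z : Sh J}

attribute [local simp] pullback.lift_fst pullback.lift_snd pullback.lift_fst_assoc
  pullback.lift_snd_assoc

lemma isPullback_diagonal_equalizer (f : X ⟶ Y) {W : Sh J} (a b : W ⟶ X) (h : a ≫ f = b ≫ f) :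
    IsPullback (equalizer.ι a b ≫ a) (equalizer.ι a b) (pullback.diagonal f)
      (pullback.lift a b h) := by
  refine IsPullback.of_isLimit' ⟨?_⟩ (PullbackCone.IsLimit.mk _
    (fun s => equalizer.lift s.snd ?_) (fun s => ?_) (fun s => ?_) (fun s m _ h₂ => ?_))
  · apply pullback.hom_ext <;> simp [equalizer.condition]
    exact equalizer.condition a b
  · have h₁ := s.condition =≫ pullback.fst f f
    have h₂ := s.condition =≫ pullback.snd f f
    simp at h₁ h₂
    rw [← h₁, ← h₂]
  · have h₁ := s.condition =≫ pullback.fst f f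
    simp at h₁
    simp [← h₁]
  · simp
  · apply equalizer.hom_ext
    simpa using h₂

lemma isQSHom_iff_equalizer {f : X ⟶ Y} : IsQSHom f ↔
    ∀ (W : Sh J) (a b : W ⟶ X), IsQC W → a ≫ f = b ≫ f → IsQC (equalizer a b) := by
  constructor
  · intro hf W a b hW hab
    exact isQC_of_isQCHom hf (isPullback_diagonal_equalizer f a b hab) hW
  · intro h W g hW
    have hab : (g ≫ pullback.fst f f) ≫ f = (g ≫ pullback.snd f f) ≫ f := by
      simp [pullback.condition]
    have hg : g = pullback.lift _ _ hab := by apply pullback.hom_ext <;> simp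
    rw [hg]
    exact isQC_of_iso (isPullback_diagonal_equalizer f _ _ hab).isoPullback (h W _ _ hW hab)

lemma isPullback_equalizer_precomp {W V : Sh J} (a b : W ⟶ X) (c : V ⟶ W) :
    IsPullback (equalizer.lift (equalizer.ι (c ≫ a) (c ≫ b) ≫ c)
        (by simpa using equalizer.condition (c ≫ a) (c ≫ b)))
      (equalizer.ι (c ≫ a) (c ≫ b)) (equalizer.ι a b) c := by
  refine IsPullback.of_isLimit' ⟨by simp⟩ (PullbackCone.IsLimit.mk _
    (fun s => equalizer.lift s.snd ?_) (fun s => ?_) (fun s => ?_) (fun s m _ h₂ => ?_))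
  · rw [← s.condition_assoc, ← s.condition_assoc, equalizer.condition]
  · apply equalizer.hom_ext
    simp [s.condition]
  · simp
  · apply equalizer.hom_ext
    simpa using h₂

lemma isQC_equalizer_of_cover {W : Sh J} (a b : W ⟶ X) {κ : Type*} [Finite κ] {V : κ → Sh J}
    {c : ∀ k, V k ⟶ W} (hc : IsEpiFam c) (h : ∀ k, IsQC (equalizer (c k ≫ a) (c k ≫ b))) :
    IsQC (equalizer a b) :=
  isQC_of_finite_epiFam (hc.of_isPullback (equalizer.ι a b) _ _
    fun k => isPullback_equalizer_precomp a b (c k)) h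

lemma isPullback_pullback_precomp {A B V : Sh J} (a : A ⟶ X) (b : B ⟶ X) (c : V ⟶ A) :
    IsPullback (pullback.map (c ≫ a) b a b c (𝟙 B) (𝟙 X) (by simp) (by simp))
      (pullback.fst (c ≫ a) b) (pullback.fst a b) c := by
  refine IsPullback.of_isLimit' ⟨by simp⟩ (PullbackCone.IsLimit.mk _
    (fun s => pullback.lift s.snd (s.fst ≫ pullback.snd a b) ?_) (fun s => ?_) (fun s => ?_)
    (fun s m h₁ h₂ => ?_))
  · rw [← s.condition_assoc, Category.assoc, pullback.condition]
  · apply pullback.hom_ext <;> simp [s.condition]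
  · simp
  · apply pullback.hom_ext
    · simpa using h₂
    · simpa using h₁ =≫ pullback.snd a b

lemma isQC_pullback_of_cover_left {A B : Sh J} (a : A ⟶ X) (b : B ⟶ X) {κ : Type*} [Finite κ]
    {V : κ → Sh J} {c : ∀ k, V k ⟶ A} (hc : IsEpiFam c)
    (h : ∀ k, IsQC (pullback (c k ≫ a) b)) : IsQC (pullback a b) :=
  isQC_of_finite_epiFam (hc.of_isPullback (pullback.fst a b) _ _
    fun k => isPullback_pullback_precomp a b (c k)) h

lemma isQC_pullback_comm {A B : Sh J} {a : A ⟶ X} {b : B ⟶ X} (h : IsQC (pullback b a)) :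
    IsQC (pullback a b) :=
  isQC_of_iso (pullbackSymmetry b a) h

lemma isQC_pullback_of_cover_right {A B : Sh J} (a : A ⟶ X) (b : B ⟶ X) {κ : Type*} [Finite κ]
    {V : κ → Sh J} {c : ∀ k, V k ⟶ B} (hc : IsEpiFam c)
    (h : ∀ k, IsQC (pullback a (c k ≫ b))) : IsQC (pullback a b) :=
  isQC_pullback_comm (isQC_pullback_of_cover_left b a hc fun k => isQC_pullback_comm (h k))

lemma isQS_iff : IsQS X ↔ ∀ (W : Sh J) (s : W ⟶ X), IsQC W → IsQCHom s :=
  ⟨fun h W s hW V g hV => h W V s g hW hV, fun h A B a b hA hB => h A a hA B b hB⟩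

lemma isQC_equalizer_of_eq {W : Sh J} {a b : W ⟶ X} (h : a = b) (hW : IsQC W) :
    IsQC (equalizer a b) :=
  have := equalizer.ι_of_eq h
  isQC_of_iso (asIso (equalizer.ι a b)).symm hW

lemma isQSHom_of_mono' (f : X ⟶ Y) [Mono f] : IsQSHom f :=
  isQSHom_iff_equalizer.2 fun _ _ _ hW h => isQC_equalizer_of_eq ((cancel_mono f).1 h) hW

lemma isQSHom_of_comp' (f : X ⟶ Y) (g : Y ⟶ Z) (h : IsQSHom (f ≫ g)) : IsQSHom f :=
  isQSHom_iff_equalizer.2 fun W a b hW hab =>
    isQSHom_iff_equalizer.1 h W a b hW (by simp [reassoc_of% hab])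

lemma isQSHom_comp {f : X ⟶ Y} {g : Y ⟶ Z} (hf : IsQSHom f) (hg : IsQSHom g) :
    IsQSHom (f ≫ g) := by
  refine isQSHom_iff_equalizer.2 fun W a b hW hab => ?_
  have h₁ : IsQC (equalizer (a ≫ f) (b ≫ f)) :=
    isQSHom_iff_equalizer.1 hg W _ _ hW (by simpa using hab)
  let E := equalizer.ι (a ≫ f) (b ≫ f)
  have h₂ : IsQC (equalizer (E ≫ a) (E ≫ b)) :=
    isQSHom_iff_equalizer.1 hf _ _ _ h₁ (by simpa using equalizer.condition (a ≫ f) (b ≫ f))
  refine isQC_of_iso ?_ h₂
  refine
    { hom := equalizer.lift (equalizer.ι _ _ ≫ E) (by simpa using equalizer.condition (E ≫ a) (E ≫ b))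
      inv := equalizer.lift (equalizer.lift (equalizer.ι a b)
        (by simp [reassoc_of% equalizer.condition a b]))
        (by simpa [E] using equalizer.condition a b)
      hom_inv_id := by
        apply equalizer.hom_ext
        apply equalizer.hom_ext
        simp [E]
      inv_hom_id := by apply equalizer.hom_ext; simp [E] }

lemma isQSHom_of_isPullback {f : X ⟶ Y} (hf : IsQSHom f) {P Y' : Sh J} {p : P ⟶ X} {q : P ⟶ Y'}
    {g : Y' ⟶ Y} (sq : IsPullback p q f g) : IsQSHom q := by
  refine isQSHom_iff_equalizer.2 fun W a b hW hab => ?_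
  have h : IsQC (equalizer (a ≫ p) (b ≫ p)) := isQSHom_iff_equalizer.1 hf W _ _ hW
    (by simp [sq.w, reassoc_of% hab])
  refine isQC_of_iso ?_ h
  exact
    { hom := equalizer.lift (equalizer.ι _ _) (sq.hom_ext
        (by simpa using equalizer.condition (a ≫ p) (b ≫ p)) (by simp [hab]))
      inv := equalizer.lift (equalizer.ι _ _) (by simp [reassoc_of% equalizer.condition a b])
      hom_inv_id := by apply equalizer.hom_ext; simp
      inv_hom_id := by apply equalizer.hom_ext; simp }

lemma isQS_of_isQSHom {f : X ⟶ Y} (hf : IsQSHom f) (hY : IsQS Y) : IsQS X := by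
  intro A B a b hA hB
  have h : IsQC (pullback (a ≫ f) (b ≫ f)) := hY A B _ _ hA hB
  have h₂ : IsQC (equalizer (pullback.fst (a ≫ f) (b ≫ f) ≫ a) (pullback.snd _ _ ≫ b)) :=
    isQSHom_iff_equalizer.1 hf _ _ _ h (by simpa using pullback.condition)
  refine isQC_of_iso ?_ h₂
  exact
    { hom := pullback.lift (equalizer.ι _ _ ≫ pullback.fst _ _) (equalizer.ι _ _ ≫ pullback.snd _ _)
        (by simpa using equalizer.condition (pullback.fst (a ≫ f) (b ≫ f) ≫ a) (pullback.snd _ _ ≫ b))
      inv := equalizer.lift (pullback.lift (pullback.fst a b) (pullback.snd a b)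
        (by simp [reassoc_of% pullback.condition (f := a) (g := b)]))
        (by simp [pullback.condition])
      hom_inv_id := by
        apply equalizer.hom_ext
        apply pullback.hom_ext <;> simp
      inv_hom_id := by apply pullback.hom_ext <;> simp }

end Groth.Agent.Topos46
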